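import Cfsg.Agent.H564.TWP.Main_m3
import Cfsg.Agent.TwoF.Gen.BLay_m3
import Cfsg.Prelude.Def_KGroupFacts
import Cfsg.Agent.H192.Lang
import Cfsg.Agent.ChevalleyStructure.StBasic
import Cfsg.Agent.H564.U.FTab_m3
import Cfsg.Agent.S1034
import Cfsg.Agent.FastGrp
import Cfsg.Agent.Prune
set_option linter.all false

section
prune_inst 0xbcecf82bbc2bdfdfff7e7fa6d2cffc0b901fffa6dff9437fa061ff0b9f038009c5fb8509e010fe0ed6e01410387803f97ee67fe06bdc7ffffd5ff41ffbee1fe5f6310051d488340fbc0ffe03f0778a7f3fffffffffffffffffffffffffffaeffbfffffffff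

-- part: TwoF/DC/Defs
section
set_option linter.all false

/-!
# TwoF, defining characteristic: interface (helper85).  Plan: `notes/TwoF/dc.md`

* `RC ι Φ` : root combinatorics (`Φ` the positive roots, `Bool × Φ` all roots);
* `RDat p ι Φ k G` : `FDat` (group over `k` with fundamental functions) with root combinatorics;
* `HW R p k L` : a restricted simple module, as linear algebra;
* `Std` : a finite group `T` (the simply connected version of `S`) inside `G`, `Std.AutFact` the automorphisms of `S`;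
* `Faith`, `CT`, `BG`, `CTG`, `CTF` : the combinatorial statements of a type, `Std.Full` all of them;
* `BoxRel`, `BoxStd` : the general theory.
-/

set_option autoImplicit false
set_option linter.unusedSectionVars false

namespace Cfsg.Agent.TwoF.DC

open Module Cfsg.Agent.H45.UniE Cfsg.Agent.H564.TWP

/-! ### root combinatorics -/

/-- root combinatorics: `cf b` the root `b` in simple roots, `co b` its coroot in simple coroots, `C i j = ⟨α_j, α_i^∨⟩`,
`s i` the simple reflection on the positive roots other than `zi i` -/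
structure RC (ι Φ : Type) [Fintype ι] [DecidableEq ι] where
  zi : ι → Φ
  cf : Φ → ι → ℕ
  co : Φ → ι → ℕ
  C : ι → ι → ℤ
  s : ι → Φ → Φ
  cf_zi : ∀ i, cf (zi i) = Pi.single i 1
  co_zi : ∀ i, co (zi i) = Pi.single i 1
  C_self : ∀ i, C i i = 2
  C_inj : ∀ c : ι → ℤ, (∀ i, ∑ j, C i j * c j = 0) → c = 0
  cf_inj : Function.Injective cf
  red : ∀ b i (n : ℕ), cf b = Pi.single i n → b = zi i
  cf_s : ∀ i b, b ≠ zi i → ∀ j, (cf (s i b) j : ℤ) = cf b j - if j = i then ∑ l, C i l * cf b l else 0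
  co_s : ∀ i b, b ≠ zi i → ∀ j, (co (s i b) j : ℤ) = co b j - if j = i then ∑ l, (co b l : ℤ) * C l i else 0
  desc : ∀ b, (∀ i, b ≠ zi i) → ∃ i, 0 < ∑ l, C i l * cf b l

namespace RC

variable {ι Φ : Type} [Fintype ι] [DecidableEq ι] [DecidableEq Φ] (R : RC ι Φ)

/-- a root in simple roots -/
def vec (x : Bool × Φ) : ι → ℤ := fun j => if x.1 then (R.cf x.2 j : ℤ) else -(R.cf x.2 j : ℤ)
/-- a coroot in simple coroots -/
def cov (x : Bool × Φ) : ι → ℤ := fun j => if x.1 then (R.co x.2 j : ℤ) else -(R.co x.2 j : ℤ)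
/-- an element of the root lattice as a weight (coordinates: fundamental weights) -/
def toWt (c : ι → ℤ) : ι → ℤ := fun i => ∑ j, R.C i j * c j
/-- a root as a weight -/
def wt (x : Bool × Φ) : ι → ℤ := R.toWt (R.vec x)
/-- `⟨μ, x^∨⟩` -/
def pair (μ : ι → ℤ) (x : Bool × Φ) : ℤ := ∑ i, R.cov x i * μ i
/-- the simple reflection on weights -/
def sw (i : ι) (μ : ι → ℤ) : ι → ℤ := μ - μ i • R.wt (true, R.zi i)
/-- the simple reflection on roots -/
def sr (i : ι) (x : Bool × Φ) : Bool × Φ := if x.2 = R.zi i then (!x.1, x.2) else (x.1, R.s i x.2)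
/-- `v` is a root -/
def IsRt (v : ι → ℤ) : Prop := ∃ z, R.vec z = v
/-- `x + y` is a root and the structure constant `± (r + 1)` is not zero in characteristic `p` -/
def NZ (p : ℕ) (x y : Bool × Φ) : Prop :=
  R.IsRt (R.vec x + R.vec y) ∧ ∃ r : ℕ, (∀ j : ℕ, j ≤ r → R.IsRt (R.vec y - (j : ℤ) • R.vec x)) ∧
    ¬ R.IsRt (R.vec y - ((r : ℤ) + 1) • R.vec x) ∧ ¬ p ∣ r + 1
/-- a set of positive roots which commute in the Lie algebra in characteristic `p` -/
def Ab (p : ℕ) (S : Finset Φ) : Prop := ∀ b ∈ S, ∀ b' ∈ S, ¬ R.NZ p (true, b) (true, b')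
/-- an ideal for the Borel subalgebra in characteristic `p` -/
def Idl (p : ℕ) (S : Finset Φ) : Prop :=
  ∀ b ∈ S, ∀ β a, R.cf a = R.cf β + R.cf b → R.NZ p (true, β) (true, b) → a ∈ S
/-- closed under adding multiples of positive roots (so the span is stable under `U`) -/
def Up (M : Finset Φ) : Prop := ∀ b ∈ M, ∀ β a (m : ℕ), R.cf a = m • R.cf β + R.cf b → a ∈ M
/-- the value of the functional `h` on a positive root -/
def hv (h : ι → ℤ) (b : Φ) : ℤ := ∑ i, h i * R.cf b i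

end RC

/-! ### groups -/

/-- a group over `k` with root elements, fundamental functions and root combinatorics -/
structure RDat (p : ℕ) (ι Φ k G : Type) [Fintype ι] [DecidableEq ι] [DecidableEq Φ] [Field k] [Group G]
    extends FDat ι Φ k G where
  R : RC ι Φ
  zi_eq : R.zi = zi
  ht_eq : ∀ b, ht b = ∑ j, R.cf b j * ht (zi j)
  hh_mul : ∀ i c d, hh i (c * d) = hh i c * hh i d
  hh_comm : ∀ i j c d, hh i c * hh j d = hh j d * hh i c
  hh_z : ∀ i (c : kˣ) b a, hh i c * z b a = z b (((c ^ R.wt (true, b) i : kˣ) : k) * a) * hh i c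
  /-- the Weyl group elements `x i 1 * y i (-1) * x i 1` permute the root groups -/
  n_z : ∀ i b, b ≠ zi i → ∃ ε : kˣ, ∀ t,
    x i 1 * y i (-1) * x i 1 * z b t = z (R.s i b) (ε * t) * (x i 1 * y i (-1) * x i 1)
  /-- commutators of positive root elements -/
  cm : ∀ b b' s t, z b s * z b' t * (z b s)⁻¹ * (z b' t)⁻¹ ∈
    Subgroup.closure {g | ∃ a u, (∃ m n : ℕ, 0 < m ∧ 0 < n ∧ R.cf a = m • R.cf b + n • R.cf b') ∧ g = z a u}
  /-- the structure constants `± (r + 1)` are not zero -/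
  nz : ∀ i b a, R.cf a = R.cf (zi i) + R.cf b → R.NZ p (true, zi i) (true, b) →
    ∃ l : List (Φ × k × ℕ), (∀ e ∈ l, 0 < e.2.2) ∧
      (∀ t, x i (-1) * z b t * x i 1 = (l.map fun e => z e.1 (e.2.1 * t ^ e.2.2)).prod) ∧
      ((l.filter fun e => e.1 = a ∧ e.2.2 = 1).map fun e => e.2.1).sum ≠ 0

/-! ### restricted simple modules -/

/-- a restricted simple module with nonzero highest weight `lam`: weight spaces `w`, divided powers `E x n` of the root
operators (the root element acts as `∑ t ^ n • E x n`), Weyl group elements `nn i` -/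
structure HW {ι Φ : Type} [Fintype ι] [DecidableEq ι] [DecidableEq Φ] (R : RC ι Φ) (p : ℕ) (k L : Type) [Field k]
    [AddCommGroup L] [Module k L] where
  lam : ι → ℕ
  w : (ι → ℤ) → Submodule k L
  E : Bool × Φ → ℕ → Module.End k L
  nn : ι → L ≃ₗ[k] L
  lam_lt : ∀ i, lam i < p
  lam_ne : lam ≠ 0
  fd : FiniteDimensional k L
  indep : iSupIndep w
  span : ⨆ μ, w μ = ⊤
  E_w : ∀ x (n : ℕ) μ, ∀ v ∈ w μ, E x n v ∈ w (μ + (n : ℤ) • R.wt x)
  E_zero : ∀ x, E x 0 = 1
  E_mul : ∀ x m n, E x m * E x n = ((m + n).choose m : k) • E x (m + n)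
  nn_w : ∀ i μ, ∀ v ∈ w μ, nn i v ∈ w (R.sw i μ)
  nn_E : ∀ i x, ∃ ε : kˣ, ∀ n v, nn i (E x n v) = (ε : k) ^ n • E (R.sr i x) n (nn i v)
  ef : ∀ b, ∃ ε : kˣ, ∀ μ, ∀ v ∈ w μ,
    E (true, b) 1 (E (false, b) 1 v) - E (false, b) 1 (E (true, b) 1 v) = ((ε : k) * (R.pair μ (true, b) : k)) • v
  br0 : ∀ x y, R.vec x + R.vec y ≠ 0 → ¬ R.IsRt (R.vec x + R.vec y) → E x 1 * E y 1 = E y 1 * E x 1
  br : ∀ x y z, R.vec z = R.vec x + R.vec y →
    ∃ N : k, E x 1 * E y 1 - E y 1 * E x 1 = N • E z 1 ∧ (R.NZ p x y → N ≠ 0)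
  top : finrank k (w fun i => lam i) = 1
  le_top : ∀ μ, w μ ≠ ⊥ → ∃ c : ι → ℕ, μ = (fun i => (lam i : ℤ)) - R.toWt fun j => c j
  /-- Curtis: the vectors killed by the positive part of the Lie algebra -/
  curtis : ∀ v, (∀ b, E (true, b) 1 v = 0) → v ∈ w fun i => lam i
  /-- the module is generated by the highest weight vector under the negative simple root groups -/
  gen : ∀ μ, μ ≠ (fun i => (lam i : ℤ)) →
    w μ ≤ ⨆ (i : ι) (n : ℕ) (_ : 0 < n), (w (μ + (n : ℤ) • R.wt (true, R.zi i))).map (E (false, R.zi i) n)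
  /-- a weight vector fixed by a root group has nonnegative weight -/
  inj : ∀ x μ, ∀ v ∈ w μ, R.pair μ x < 0 → (∀ n, 0 < n → E x n v = 0) → v = 0

namespace HW

variable {ι Φ : Type} [Fintype ι] [DecidableEq ι] [DecidableEq Φ] {R : RC ι Φ} {p : ℕ} {k L : Type} [Field k]
  [AddCommGroup L] [Module k L] (H : HW R p k L)

/-- the vectors killed by the Lie algebra elements `e_b`, `b ∈ S` -/
def kerL (S : Finset Φ) : Submodule k L := ⨅ b ∈ S, LinearMap.ker (H.E (true, b) 1)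
/-- the vectors fixed by the root groups `X_b`, `b ∈ S` -/
def kerG (S : Finset Φ) : Submodule k L := ⨅ b ∈ S, ⨅ (n : ℕ) (_ : 0 < n), LinearMap.ker (H.E (true, b) n)
/-- the dimension -/
noncomputable def d (_ : HW R p k L) : ℕ := finrank k L
/-- the codimension of `kerL` -/
noncomputable def cL (S : Finset Φ) : ℕ := finrank k L - finrank k (H.kerL S)
/-- the codimension of `kerG` -/
noncomputable def cG (S : Finset Φ) : ℕ := finrank k L - finrank k (H.kerG S)
/-- the operator of a coefficient vector -/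
noncomputable def op [Fintype Φ] (u : Φ → k) : Module.End k L := ∑ b, u b • H.E (true, b) 1

/-- a graph automorphism (node permutation `γ`, root permutation `γ'`) of order `p` acting on the module -/
structure GOp (γ : Equiv.Perm ι) (γ' : Equiv.Perm Φ) where
  g : L ≃ₗ[k] L
  g_pow : g ^ p = 1
  g_w : ∀ μ, ∀ v ∈ H.w μ, g v ∈ H.w (μ ∘ γ.symm)
  g_E : ∀ x : Bool × Φ, ∃ ε : kˣ, ∀ n v, g (H.E x n v) = (ε : k) ^ n • H.E (x.1, γ' x.2) n (g v)
  g_top : ∀ v ∈ H.w fun i => H.lam i, g v = v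

end HW

/-! ### families of modules -/

/-- the module `H` is a module for the group `G` -/
structure HW.Rep {p : ℕ} {ι Φ k G : Type} [Fintype ι] [DecidableEq ι] [DecidableEq Φ] [Field k] [Group G]
    (D : RDat p ι Φ k G) {L : Type} [AddCommGroup L] [Module k L] (H : HW D.R p k L) where
  ρ : Representation k G L
  ρ_z : ∀ b t, ρ (D.z b t) = ∑ᶠ n : ℕ, t ^ n • H.E (true, b) n
  ρ_w : ∀ b t, ρ (D.τ (D.z b t)) = ∑ᶠ n : ℕ, t ^ n • H.E (false, b) n
  ρ_hh : ∀ i (c : kˣ) μ, ∀ v ∈ H.w μ, ρ (D.hh i c) v = ((c ^ μ i : kˣ) : k) • v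
  ρ_n : ∀ i v, ρ (D.x i 1 * D.y i (-1) * D.x i 1) v = H.nn i v

/-- a finite nonempty family of restricted simple modules, closed under the node permutation `σ`; `dbl j` : the module
stands for `L ⊗ L ^ (q0)`, `q = q0 ^ 2` -/
structure Fam {p : ℕ} {ι Φ k G : Type} [Fintype ι] [DecidableEq ι] [DecidableEq Φ] [Field k] [Group G]
    (D : RDat p ι Φ k G) (σ : Equiv.Perm ι) where
  J : Type
  [finJ : Fintype J]
  [neJ : Nonempty J]
  L : J → Type
  [acg : ∀ j, AddCommGroup (L j)]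
  [mod : ∀ j, Module k (L j)]
  H : ∀ j, HW D.R p k (L j)
  rep : ∀ j, (H j).Rep D
  dbl : J → Bool
  π : Equiv.Perm J
  lam_π : ∀ j, (H (π j)).lam = (H j).lam ∘ σ.symm
  dbl_π : ∀ j, dbl (π j) = dbl j
  dbl_σ : ∀ j, dbl j = true → (H j).lam ∘ σ.symm = (H j).lam

namespace Fam

variable {p : ℕ} {ι Φ k G : Type} [Fintype ι] [DecidableEq ι] [Fintype Φ] [DecidableEq Φ] [Field k] [Group G]
  {D : RDat p ι Φ k G} {σ : Equiv.Perm ι} (F : Fam D σ)

instance instFintypeJ : Fintype F.J := F.finJ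
instance instNonemptyJ : Nonempty F.J := F.neJ
instance instAcgL (j : F.J) : AddCommGroup (F.L j) := F.acg j
instance instModL (j : F.J) : Module k (F.L j) := F.mod j

/-- twice the codimension (Lie algebra version) -/
noncomputable def val (S : Finset Φ) : ℕ :=
  ∑ j, if F.dbl j then (F.H j).cL S * (2 * (F.H j).d - (F.H j).cL S) else 2 * (F.H j).cL S
/-- twice the codimension (root group version) -/
noncomputable def valG (S : Finset Φ) : ℕ :=
  ∑ j, if F.dbl j then (F.H j).cG S * (2 * (F.H j).d - (F.H j).cG S) else 2 * (F.H j).cG S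
/-- twice the codimension (subgroup version) -/
noncomputable def valB (B : Subgroup G) : ℕ :=
  ∑ j, if F.dbl j then cod (F.rep j).ρ B * (2 * (F.H j).d - cod (F.rep j).ρ B) else 2 * cod (F.rep j).ρ B

/-- inside an upper set `M` an offender can be chosen to be an ideal with the symmetries of `M` -/
def Top : Prop :=
  ∀ M : Finset Φ, D.R.Up M → (∃ S ⊆ M, S.Nonempty ∧ F.val S ≤ 4 * S.card) →
    ∃ S ⊆ M, S.Nonempty ∧ D.R.Idl p S ∧ F.val S ≤ 4 * S.card ∧
      ∀ j, D.R.zi j ∉ M → (∀ b ∈ M, D.R.s j b ∈ M) → ∀ b ∈ S, D.R.s j b ∈ S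

/-- The first degeneration for twisted groups, `σ'` an involution: an offender spanned by the `e_b`, `b ∈ S` (`S` is
`σ'`-stable) and the `e_o + c_o e_(σ' o)`, `o ∈ O` (needed for the natural module of `2D_n`, `2A_3` with multiplicity
`n - 1` and the exterior cube of `2A_5` only). -/
def Flex (σ' : Equiv.Perm Φ) : Prop :=
  ∃ (S O : Finset Φ) (c : Φ → k), (∀ b ∈ S, σ' b ∈ S) ∧ (∀ o ∈ O, o ∉ S ∧ σ' o ≠ o ∧ σ' o ∉ O ∧ c o ≠ 0) ∧
    (S ∪ O).Nonempty ∧
    (∀ j, ∀ x ∈ {x | (∃ b ∈ S, x = (F.H j).E (true, b) 1) ∨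
        ∃ o ∈ O, x = (F.H j).E (true, o) 1 + c o • (F.H j).E (true, σ' o) 1},
      ∀ y ∈ {x | (∃ b ∈ S, x = (F.H j).E (true, b) 1) ∨
        ∃ o ∈ O, x = (F.H j).E (true, o) 1 + c o • (F.H j).E (true, σ' o) 1}, Commute x y) ∧
    ∑ j, 2 * ((F.H j).d - finrank k ↥((F.H j).kerL S ⊓
      ⨅ o ∈ O, LinearMap.ker ((F.H j).E (true, o) 1 + c o • (F.H j).E (true, σ' o) 1))) ≤ 4 * (S.card + O.card)

/-- a `σ'`-stable set of commuting root groups which is a cubic offender for the family -/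
def Good (σ' : Equiv.Perm Φ) : Prop :=
  ∃ S : Finset Φ, S.Nonempty ∧ (∀ b ∈ S, σ' b ∈ S) ∧ (∀ b ∈ S, ∀ b' ∈ S, ∀ s t, Commute (D.z b s) (D.z b' t)) ∧
    (∀ j, F.dbl j = false → ∀ a ∈ S, ∀ b ∈ S, ∀ c ∈ S, ∀ l m n, 0 < l → 0 < m → 0 < n →
      (F.H j).E (true, a) l * (F.H j).E (true, b) m * (F.H j).E (true, c) n = 0) ∧
    (∀ j, F.dbl j = true → ∀ a ∈ S, ∀ b ∈ S, ∀ l m, 0 < l → 0 < m →
      (F.H j).E (true, a) l * (F.H j).E (true, b) m = 0) ∧
    F.valG S ≤ 4 * S.card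

/-- a subgroup `B` of the finite group `T`, `q = p ^ f`, which is a cubic offender for the family -/
def GoodT {T : Type} [Group T] (φ : T →* G) (f : ℕ) : Prop :=
  ∃ B : Subgroup T, IsElementaryAbelian p B ∧ B ≠ ⊥ ∧
    (∀ j, F.dbl j = false → Cub (F.rep j).ρ (B.map φ)) ∧
    (∀ j, F.dbl j = true → ∀ a ∈ B, ∀ b ∈ B, ((F.rep j).ρ (φ a) - 1) * ((F.rep j).ρ (φ b) - 1) = 0) ∧
    (p ^ f) ^ F.valB (B.map φ) ≤ Nat.card B ^ 4

end Fam

section statements

variable {p : ℕ} {ι Φ k G : Type} [Fintype ι] [DecidableEq ι] [Fintype Φ] [DecidableEq Φ] [Field k] [Group G]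

/-- the root operators are nonzero on the restricted simple modules with `ok` highest weight -/
def Faith (R : RC ι Φ) (p : ℕ) (k : Type) [Field k] (ok : (ι → ℕ) → Prop) : Prop :=
  ∀ (L : Type) [AddCommGroup L] [Module k L] (H : HW R p k L), ok H.lam → ∀ b : Φ, H.E (true, b) 1 ≠ 0

/-- **offenders inside `K`**; `Q` is the conclusion (`Good` or `GoodT`) -/
def CT (D : RDat p ι Φ k G) (ok : (ι → ℕ) → Prop) (σ : Equiv.Perm ι) (σ' : Equiv.Perm Φ) (Q : Fam D σ → Prop) : Prop :=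
  ∀ F : Fam D σ, (∀ j, ok (F.H j).lam) → F.Top → (σ' * σ' = 1 → (∀ j, F.dbl j = false) → F.Flex σ') →
    ∀ S : Finset Φ, S.Nonempty → D.R.Ab p S → D.R.Idl p S → F.val S ≤ 4 * S.card → Q F

/-- graph invariant weights are far from being tensor factors of a 2F-module -/
def BG (R : RC ι Φ) (p : ℕ) (k : Type) [Field k] (γ : Equiv.Perm ι) : Prop :=
  ∀ (L : Type) [AddCommGroup L] [Module k L] (H : HW R p k L), H.lam ∘ γ.symm = H.lam →
    5 ≤ H.d ∧ ∀ S : Finset Φ, S.Nonempty → R.Ab p S → R.Idl p S → 4 * S.card + 8 < H.cL S * (2 * H.d - H.cL S)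

/-- **a graph automorphism in the offender**: `u o`, `o ∈ O`, are vectors supported on distinct `γ'`-orbits; they commute
with each other and with the graph automorphism, which acts on the modules with invariant highest weight (at least one;
for `p ≠ 2` all).  `S` is a degeneration of the span of the `u o` to an abelian ideal. -/
def CTG (D : RDat p ι Φ k G) (σ : Equiv.Perm ι) (γ : Equiv.Perm ι) (γ' : Equiv.Perm Φ) (Q : Fam D σ → Prop) : Prop :=
  ∀ (F : Fam D σ), (∀ j, F.dbl j = false) →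
    ∀ (g : ∀ j, (F.H j).lam ∘ γ.symm = (F.H j).lam → (F.H j).GOp γ γ'),
    (∃ j, (F.H j).lam ∘ γ.symm = (F.H j).lam) → (p ≠ 2 → ∀ j, (F.H j).lam ∘ γ.symm = (F.H j).lam) →
    ∀ (O : Finset Φ) (u : Φ → Φ → k), (∀ o ∈ O, ∀ o' ∈ O, γ'.SameCycle o o' → o = o') →
      (∀ o ∈ O, ∀ b, u o b ≠ 0 ↔ γ'.SameCycle o b) →
      (∀ j, ∀ o ∈ O, ∀ o' ∈ O, Commute ((F.H j).op (u o)) ((F.H j).op (u o'))) →
      (∀ j, ∀ o ∈ O, (F.H j).op (u o) ^ p = 0) →
      (∀ j hj, ∀ o ∈ O, ∀ v, (g j hj).g ((F.H j).op (u o) v) = (F.H j).op (u o) ((g j hj).g v)) →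
      ∀ S : Finset Φ, S.card = O.card → D.R.Ab p S → D.R.Idl p S →
      (∀ j, finrank k ↥(⨅ o ∈ O, LinearMap.ker ((F.H j).op (u o))) ≤ finrank k ((F.H j).kerL S)) →
      (∑ j, if hj : (F.H j).lam ∘ γ.symm = (F.H j).lam then
          2 * ((F.H j).d - finrank k ↥(LinearMap.ker ((g j hj).g.toLinearMap - 1) ⊓
            ⨅ o ∈ O, LinearMap.ker ((F.H j).op (u o))))
        else 2 * (F.H j).d - finrank k ↥(⨅ o ∈ O, LinearMap.ker ((F.H j).op (u o)))) ≤ 4 * O.card + 4 →
      Q F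

/-- **a field or graph-field involution in the offender** (`p = 2`) -/
def CTF (D : RDat p ι Φ k G) (ok : (ι → ℕ) → Prop) (σ : Equiv.Perm ι) (Q : Fam D σ → Prop) : Prop :=
  ∀ (J : Type) [Fintype J] [Nonempty J] (L : J → Type) [∀ j, AddCommGroup (L j)] [∀ j, Module k (L j)]
    (H : ∀ j, HW D.R p k (L j)) (rep : ∀ j, (H j).Rep D), (∀ j, ok (H j).lam) →
    ∀ S : Finset Φ, D.R.Ab p S → D.R.Idl p S →
    ∀ sl : ℕ, sl ≤ 4 → (Fintype.card J = 1 ∨ (∀ j, 3 ≤ (H j).d) ∨ 2 ≤ S.card ∨ sl ≤ 2) →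
    (∑ j, ((H j).d * ((H j).d - 1) + if S.Nonempty then 2 else 0)) ≤ 4 * S.card + sl →
    Fintype.card J = 1 ∧ ∀ hσ : ∀ j, (H j).lam ∘ σ.symm = (H j).lam,
      Q (⟨J, L, H, rep, fun _ => true, 1, fun j => (hσ j).symm, fun _ => rfl, fun j _ => hσ j⟩ : Fam D σ)

end statements

/-! ### the finite groups -/

/-- The finite group `T` (simply connected version of the simple group `S`) inside `G`: `q = p ^ f`, Frobenius `Fr`, graph
automorphisms `gr`, twist `σ`. -/
structure Std {p : ℕ} {ι Φ k G : Type} [Fintype ι] [DecidableEq ι] [Fintype Φ] [DecidableEq Φ] [Field k] [Infinite k]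
    [Group G] (D : RDat p ι Φ k G) (T S : Type) [Group T] [Finite T] [Group S] where
  f : ℕ
  f_pos : 0 < f
  Fr : G →* G
  Fr_z : ∀ b t, Fr (D.z b t) = D.z b (t ^ p)
  Fr_y : ∀ i t, Fr (D.y i t) = D.y i (t ^ p)
  Δ_Fr : ∀ i g, D.Δ i (Fr g) = D.Δ i g ^ p
  Gr : Type
  [grp : Group Gr]
  [finGr : Finite Gr]
  gr : Gr →* MulAut G
  gι : Gr →* Equiv.Perm ι
  gΦ : Gr →* Equiv.Perm Φ
  gι_inj : Function.Injective gι
  gr_x : ∀ γ i t, gr γ (D.x i t) = D.x (gι γ i) t
  gr_y : ∀ γ i t, gr γ (D.y i t) = D.y (gι γ i) t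
  gr_z : ∀ γ b, ∃ ε : kˣ, ∀ t, gr γ (D.z b t) = D.z (gΦ γ b) (ε * t)
  cf_gr : ∀ γ b i, D.R.cf (gΦ γ b) (gι γ i) = D.R.cf b i
  co_gr : ∀ γ b i, D.R.co (gΦ γ b) (gι γ i) = D.R.co b i
  C_gr : ∀ γ i j, D.R.C (gι γ i) (gι γ j) = D.R.C i j
  ht_gr : ∀ γ b, D.ht (gΦ γ b) = D.ht b
  Δ_gr : ∀ γ i g, D.Δ (gι γ i) (gr γ g) = D.Δ i g
  /-- the graph automorphisms form a group of order at most two, or `S3` or `C3` -/
  Gr_small : Nat.card Gr ∣ 6
  σ : Gr
  φ : T →* G
  φ_inj : Function.Injective φ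
  φ_fix : ∀ s, gr σ (Fr^[f] (φ s)) = φ s
  φ_Fr : ∀ s, ∃ s', φ s' = Fr (φ s)
  φ_gr : ∀ γ, Commute γ σ → ∀ s, ∃ s', φ s' = gr γ (φ s)
  J : Type
  [decJ : DecidableEq J]
  C : J → Type
  [cgC : ∀ j, CommGroup (C j)]
  E : TSys J C T
  χ : (j : J) → C j →* kˣ
  orb : ι → J
  e : ι → ℕ
  hyp : Hyp p E D.toFDat φ χ orb e fun _ => p ^ f
  hwt : ∀ (W : Type) [AddCommGroup W] [Module k W], E.Wt k W
  wt_le : ∀ l : ι → ℕ, (∀ i, l i < p ^ f) → ∀ j, TSys.wt orb e l j ≤ Nat.card (C j)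
  wt_inj : ∀ l l' : ι → ℕ, (∀ i, l i < p ^ f) → (∀ i, l' i < p ^ f) → TSys.wt orb e l = TSys.wt orb e l' → l = l'
  card_U : Nat.card E.U = (p ^ f) ^ Fintype.card Φ
  syl : ¬ p ∣ E.U.index
  perfect : commutator T = ⊤
  π : T →* S
  π_surj : Function.Surjective π
  /-- every quasisimple cover of `S` with centre of order prime to `p` is a quotient of `T` -/
  cover : ∀ (K : Type) [Group K] [Finite K], IsQuasisimple K → ¬ p ∣ Nat.card (Subgroup.center K) →
    ∀ e : (K ⧸ Subgroup.center K) ≃* S, ∃ ψ : T →* K, Function.Surjective ψ ∧ ∀ s, e (QuotientGroup.mk (ψ s)) = π s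

namespace Std

variable {p : ℕ} {ι Φ k G : Type} [Fintype ι] [DecidableEq ι] [Fintype Φ] [DecidableEq Φ] [Field k] [Infinite k]
  [Group G] {D : RDat p ι Φ k G} {T S : Type} [Group T] [Finite T] [Group S] (M : Std D T S)

instance instGroupGr : Group M.Gr := M.grp
instance instFiniteGr : Finite M.Gr := M.finGr
instance instDecJ : DecidableEq M.J := M.decJ
instance instCgC (j : M.J) : CommGroup (M.C j) := M.cgC j

/-- every automorphism of `S` is inner * diagonal * graph * field -/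
def AutFact : Prop :=
  ∀ α : MulAut S, ∃ (s : T) (h : G) (γ : M.Gr) (j : ℕ), h ∈ Subgroup.closure {g | ∃ i c, g = D.hh i c} ∧
    Commute γ M.σ ∧ ∀ s₁ : T, ∃ s₂ : T, M.φ s₂ = h * M.gr γ (M.Fr^[j] (M.φ s₁)) * h⁻¹ ∧
      α (M.π s₁) = M.π (s * s₂ * s⁻¹)

/-- the conclusion -/
def Q (F : Fam D (M.gι M.σ)) : Prop := F.Good (M.gΦ M.σ) ∨ F.GoodT M.φ M.f

/-- everything a type has to deliver, for the modules all of whose tensor factors have `ok` highest weights -/
structure Full (ok : (ι → ℕ) → Prop) : Prop where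
  aut : M.AutFact
  ex : ∃ l : ι → ℕ, (∀ i, l i < p) ∧ l ≠ 0 ∧ ok l
  ok_gr : ∀ (γ : M.Gr) l, ok l → ok (l ∘ (M.gι γ).symm)
  faith : Faith D.R p k ok
  ct : CT D ok (M.gι M.σ) (M.gΦ M.σ) M.Q
  bg : ∀ γ : M.Gr, γ ≠ 1 → γ ^ p = 1 → Commute γ M.σ → BG D.R p k (M.gι γ)
  ctg : ∀ γ : M.Gr, γ ≠ 1 → γ ^ p = 1 → Commute γ M.σ → CTG D (M.gι M.σ) (M.gι γ) (M.gΦ γ) M.Q
  ctf : p = 2 → CTF D ok (M.gι M.σ) M.Q
  /-- with a non-abelian group of graph automorphisms (`D4`) all modules are large -/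
  eight : (∃ γ γ' : M.Gr, ¬ Commute γ γ') → ∀ (L : Type) [AddCommGroup L] [Module k L] (H : HW D.R p k L)
    (S : Finset Φ), D.R.Ab p S → D.R.Idl p S → 4 * S.card + 8 < H.d * (H.d - 1)

/-- the weight `l` occurs in the module `ρ` -/
def Occ {W : Type} [AddCommGroup W] [Module k W] (ρ : T →* Module.End k W) (l : ι → ℕ) : Prop :=
  (∀ i, l i < p ^ M.f) ∧ ∃ v : W, v ≠ 0 ∧ M.E.IsW M.χ ρ (TSys.wt M.orb M.e l) v ∧
    ∀ j, M.E.Tj ρ j v = ((if TSys.wt M.orb M.e l j = 0 then 1 else 0) + M.E.sg M.χ (TSys.wt M.orb M.e l) j) • v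

end Std

/-- the `a`-th digit of a weight -/
def dig (p : ℕ) {ι : Type} (l : ι → ℕ) (a : ℕ) : ι → ℕ := fun i => l i / p ^ a % p

/-- the main theorem of the general theory, relative version -/
def BoxRel : Prop :=
  ∀ (p : ℕ) [Fact p.Prime] (ι Φ k G : Type) [Fintype ι] [DecidableEq ι] [Fintype Φ] [DecidableEq Φ] [Field k]
    [IsAlgClosed k] [CharP k p] [Algebra (ZMod p) k] [Group G] (D : RDat p ι Φ k G) (T S : Type) [Group T] [Finite T]
    [Group S] (M : Std D T S) (ok : (ι → ℕ) → Prop), M.Full ok →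
    ∀ (Y : Type) [Group Y] [Finite Y] (V : Type) [AddCommGroup V] [Module (ZMod p) V] [Finite V]
      (K : Subgroup Y) (ρ : Representation (ZMod p) Y V), Stp p K ρ → Nonempty (K ⧸ Subgroup.center K ≃* S) →
      (∀ ψ : T →* K, Function.Surjective ψ → ∀ l,
        M.Occ (W := TensorProduct (ZMod p) k V)
          (((Module.End.baseChangeHom (ZMod p) k V).toMonoidHom.comp ρ).comp (K.subtype.comp ψ)) l →
        ∀ a, dig p l a = 0 ∨ ok (dig p l a)) →
      G88 p ρ ∧ G89r p K ρ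

/-- the main theorem of the general theory -/
def BoxStd : Prop :=
  ∀ (p : ℕ) [Fact p.Prime] (ι Φ k G : Type) [Fintype ι] [DecidableEq ι] [Fintype Φ] [DecidableEq Φ] [Field k]
    [IsAlgClosed k] [CharP k p] [Group G] (D : RDat p ι Φ k G) (T S : Type) [Group T] [Finite T] [Group S]
    (M : Std D T S), M.Full (fun _ => True) → Row p S

theorem boxStd_of_rel (h : BoxRel) : BoxStd := by
  intro p _ ι Φ k G _ _ _ _ _ _ _ _ D T S _ _ _ M hM
  let _ : Algebra (ZMod p) k := ZMod.algebra k p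
  exact ⟨fun Y _ _ V _ _ _ K ρ hs he => (h p ι Φ k G D T S M _ hM Y V K ρ hs he fun _ _ _ _ _ => Or.inr trivial).1,
    fun Y _ _ V _ _ _ K ρ hs he => (h p ι Φ k G D T S M _ hM Y V K ρ hs he fun _ _ _ _ _ => Or.inr trivial).2⟩

end Cfsg.Agent.TwoF.DC
end

-- part: TwoF/DC/Th
section
prune_inst 0x7f0000000000000000000000000000000000000000000000000000000000000000000000000000000000000000000000000000000000000000000000000000000000000000000000000000000000000000000000000000000000000000000010000000000000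
set_option linter.all false
open scoped Cfsg.Agent.FastGrp

/-!
# TwoF, defining characteristic: the boxes of the general theory (helper85).  Plan: `notes/TwoF/dc.md`

* `Lc D n`, `ρc D n` : the canonical module with highest weight `n` (functions on `G`); `Can D` : its structure as `HW`;
* `RDat.ld B` : the span of the leading vectors of a subgroup `B` of `U`;
* `Std.Wc n` : the tensor product with pattern `n : Fin f → ι → ℕ` (functions on `G ^ f`), `Std.act γ j` : the action of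
  `γ * Fr ^ j` on patterns, `Std.Vc`, `Std.mult` : homogeneous components and multiplicities;
* boxes: `BoxHW` (TH1a), `BoxSt` (TH2), `BoxDeg1` (TH3a), `BoxDeg2` (TH3b), `BoxPow` (TH3c).
  `BoxRel` follows from them (TH4).
-/

set_option autoImplicit false
set_option linter.unusedSectionVars false

namespace Cfsg.Agent.TwoF.DC

open Module Cfsg.Agent.H45.Uni Cfsg.Agent.H45.UniE Cfsg.Agent.H564.TWP
open scoped TensorProduct

/-! ### spans of translates -/

section span

variable {k G : Type} [Field k] [Group G]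

/-- the span of the right translates of `c` -/
def Tr (c : G → k) : Submodule k (G → k) := Submodule.span k (Set.range fun h => RR h c)

theorem mem_Tr (c : G → k) (h : G) : RR h c ∈ Tr c := Submodule.subset_span ⟨h, rfl⟩

theorem self_mem_Tr (c : G → k) : c ∈ Tr c := Submodule.subset_span ⟨1, RR_one _⟩

theorem RR_mem_Tr {c : G → k} (h : G) {F : G → k} (hF : F ∈ Tr c) : RR h F ∈ Tr c := by
  unfold Tr at hF
  induction hF using Submodule.span_induction with
  | mem F hF =>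
    obtain ⟨h', rfl⟩ := hF
    rw [← RR_mul]
    exact mem_Tr c _
  | zero => rw [map_zero]; exact Submodule.zero_mem _
  | add F F' _ _ h1 h2 => rw [map_add]; exact Submodule.add_mem _ h1 h2
  | smul a F _ h1 => rw [map_smul]; exact Submodule.smul_mem _ _ h1

/-- the action by right translations -/
def ρTr (c : G → k) : Representation k G (Tr c) where
  toFun h := (RR h).restrict fun _ hF => RR_mem_Tr h hF
  map_one' := by ext F : 1; exact Subtype.ext (RR_one F.1)
  map_mul' a b := by ext F : 1; exact Subtype.ext (RR_mul a b F.1)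

theorem ρTr_apply (c : G → k) (h : G) (F : Tr c) (g : G) : (ρTr c h F : G → k) g = (F : G → k) (g * h) := rfl

/-- `F ↦ (g ↦ F (α g * x⁻¹))`, the inverse of the operator of `x * α` -/
def Xi (α : G →* G) (x : G) : (G → k) →ₗ[k] (G → k) where
  toFun F := fun g => F (α g * x⁻¹)
  map_add' _ _ := rfl
  map_smul' _ _ := rfl

theorem Xi_apply (α : G →* G) (x : G) (F : G → k) (g : G) : Xi α x F g = F (α g * x⁻¹) := rfl

end span

/-! ### canonical modules -/

section can

variable {p : ℕ} {ι Φ k G : Type} [Fintype ι] [DecidableEq ι] [Fintype Φ] [DecidableEq Φ] [Field k] [Group G]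

/-- the canonical module with highest weight `n` (it is `(D.dat p n _ _).L`) -/
abbrev Lc (D : RDat p ι Φ k G) (n : ι → ℕ) : Submodule k (G → k) := Tr (D.toFDat.cc n)

/-- the action on the canonical module -/
abbrev ρc (D : RDat p ι Φ k G) (n : ι → ℕ) : Representation k G (Lc D n) := ρTr (D.toFDat.cc n)

/-- the dimension of the canonical module -/
noncomputable def dd (D : RDat p ι Φ k G) (n : ι → ℕ) : ℕ := finrank k (Lc D n)

/-- the canonical modules as `HW` modules -/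
structure Can (D : RDat p ι Φ k G) where
  H : ∀ n : ι → ℕ, (∀ i, n i < p) → n ≠ 0 → HW D.R p k (Lc D n)
  rep : ∀ n h h0, (H n h h0).Rep D
  lam : ∀ n h h0, (H n h h0).lam = n
  ρ_eq : ∀ n h h0, (rep n h h0).ρ = ρc D n

open Classical in
/-- the dimension of `kerL S` (`1` for the zero weight) -/
noncomputable def Can.u {D : RDat p ι Φ k G} (C : Can D) (n : ι → ℕ) (S : Finset Φ) : ℕ :=
  if h : (∀ i, n i < p) ∧ n ≠ 0 then finrank k ((C.H n h.1 h.2).kerL S) else 1

/-- the canonical modules are jointly faithful for the Lie algebra -/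
def Can.Fa {D : RDat p ι Φ k G} (C : Can D) : Prop := ∀ b, ∃ n h h0, (C.H n h h0).E (true, b) 1 ≠ 0

/-- the vectors killed by the operators of a space of coefficient vectors -/
noncomputable def HW.kerOp {R : RC ι Φ} {L : Type} [AddCommGroup L] [Module k L] (H : HW R p k L)
    (𝔞 : Submodule k (Φ → k)) : Submodule k L := ⨅ v ∈ 𝔞, LinearMap.ker (H.op v)

namespace RDat

variable (D : RDat p ι Φ k G)

/-- the modules are jointly faithful for the Lie algebra -/
def Fa : Prop :=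
  ∀ b, ∃ (L : Type) (_ : AddCommGroup L) (_ : Module k L) (H : HW D.R p k L) (_ : H.Rep D), H.E (true, b) 1 ≠ 0

/-- the operators of `𝔞` commute on all modules -/
def Com (𝔞 : Submodule k (Φ → k)) : Prop :=
  ∀ (L : Type) [AddCommGroup L] [Module k L] (H : HW D.R p k L) (_ : H.Rep D),
    ∀ u ∈ 𝔞, ∀ v ∈ 𝔞, Commute (H.op u) (H.op v)

/-- the operators of `𝔞` have zero `p`-th power on all modules -/
def Nil (𝔞 : Submodule k (Φ → k)) : Prop :=
  ∀ (L : Type) [AddCommGroup L] [Module k L] (H : HW D.R p k L) (_ : H.Rep D), ∀ u ∈ 𝔞, H.op u ^ p = 0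

/-- the group generated by the root groups of height at least `e` -/
def Uge (e : ℕ) : Subgroup G := Subgroup.closure {g | ∃ b t, e ≤ D.ht b ∧ g = D.z b t}

/-- `v` is the leading vector of `x` in height `e` -/
def Lead (x : G) (e : ℕ) (v : Φ → k) : Prop :=
  (∀ b, D.ht b ≠ e → v b = 0) ∧
    ∃ y ∈ D.Uge (e + 1), x = ((Finset.univ : Finset Φ).toList.map fun b => D.z b (v b)).prod * y

/-- the span of the leading vectors -/
def ld (B : Subgroup G) : Submodule k (Φ → k) := Submodule.span k {v | ∃ x ∈ B, ∃ e, D.Lead x e v}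

/-- an endomorphism which permutes the root groups and preserves the heights -/
structure Tw (e : ℕ) (Θ : G →* G) (θ : Equiv.Perm Φ) (ε : Φ → kˣ) : Prop where
  z : ∀ b t, Θ (D.z b t) = D.z (θ b) (ε b * t ^ p ^ e)
  ht : ∀ b, D.ht (θ b) = D.ht b

end RDat

theorem Can.Fa.fa {D : RDat p ι Φ k G} {C : Can D} (h : C.Fa) : D.Fa := fun b => by
  obtain ⟨n, h1, h0, h2⟩ := h b
  exact ⟨_, inferInstance, inferInstance, C.H n h1 h0, C.rep n h1 h0, h2⟩

/-- a symmetry of the root combinatorics -/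
structure RC.Sym (R : RC ι Φ) (γ : Equiv.Perm ι) (γ' : Equiv.Perm Φ) : Prop where
  cf : ∀ b i, R.cf (γ' b) (γ i) = R.cf b i
  co : ∀ b i, R.co (γ' b) (γ i) = R.co b i
  C : ∀ i j, R.C (γ i) (γ j) = R.C i j

/-- `g` preserves the height of weights -/
def HW.Lev {D : RDat p ι Φ k G} {L : Type} [AddCommGroup L] [Module k L] (H : HW D.R p k L) (g : Module.End k L) : Prop :=
  ∀ c : ι → ℤ, ∀ v ∈ H.w ((fun i => (H.lam i : ℤ)) - D.R.toWt c), ∃ c' : ι → ℤ,
    g v ∈ H.w ((fun i => (H.lam i : ℤ)) - D.R.toWt c') ∧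
      ∑ j, c' j * (D.ht (D.zi j) : ℤ) = ∑ j, c j * (D.ht (D.zi j) : ℤ)

/-- **first degeneration** (from subgroups of `U` to spaces of coefficient vectors) -/
structure Deg1 (D : RDat p ι Φ k G) : Prop where
  /-- Moore -/
  card : D.Fa → ∀ (e : ℕ) (Θ : G →* G) (θ : Equiv.Perm Φ) (ε : Φ → kˣ), D.Tw e Θ θ ε → 0 < e →
    ∀ B : Subgroup G, B ≤ D.U → ∀ u ∈ D.U, (∀ x ∈ B, u * Θ x * u⁻¹ = x) →
      Finite B ∧ Nat.card B ≤ p ^ (e * finrank k (D.ld B))
  fix : D.Fa → ∀ (e : ℕ) (Θ : G →* G) (θ : Equiv.Perm Φ) (ε : Φ → kˣ), D.Tw e Θ θ ε →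
    ∀ u ∈ D.U, ∀ x ∈ D.U, u * Θ x * u⁻¹ = x → ∀ e' v, D.Lead x e' v → ∀ b, v (θ b) = ε b * v b ^ p ^ e
  ker : ∀ (L : Type) [AddCommGroup L] [Module k L] (H : HW D.R p k L) (r : H.Rep D) (B : Subgroup G), B ≤ D.U →
    ∀ g : Module.End k L, H.Lev g → ∀ u ∈ D.U,
      finrank k ↥(fx r.ρ B ⊓ LinearMap.ker (r.ρ u * g - 1)) ≤ finrank k ↥(H.kerOp (D.ld B) ⊓ LinearMap.ker (g - 1))
  com : ∀ B : Subgroup G, B ≤ D.U → (∀ x ∈ B, ∀ y ∈ B, x * y = y * x) → D.Com (D.ld B)
  nil : ∀ B : Subgroup G, B ≤ D.U → (∀ x ∈ B, ∀ y ∈ B, x * y = y * x) → (∀ x ∈ B, x ^ p = 1) → D.Nil (D.ld B)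
  /-- the fixed points in a product of commuting root groups -/
  sub : D.Fa → ∀ (e : ℕ) (Θ : G →* G) (θ : Equiv.Perm Φ) (ε : Φ → kˣ), D.Tw e Θ θ ε → 0 < e →
    ∀ S : Finset Φ, (∀ b ∈ S, θ b ∈ S) → (∀ b ∈ S, ∀ b' ∈ S, ∀ s t, Commute (D.z b s) (D.z b' t)) →
      ∃ B : Subgroup G, B ≤ Subgroup.closure {g | ∃ b ∈ S, ∃ t, g = D.z b t} ∧ (∀ x ∈ B, Θ x = x) ∧
        Nat.card B = p ^ (e * S.card)

/-- **second degeneration** (inside the Lie algebra) -/
structure Deg2 (D : RDat p ι Φ k G) : Prop where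
  idl : ∀ 𝔞 : Submodule k (Φ → k), D.Com 𝔞 → ∃ S : Finset Φ, S.card = finrank k 𝔞 ∧ D.R.Ab p S ∧ D.R.Idl p S ∧
    ∀ (L : Type) [AddCommGroup L] [Module k L] (H : HW D.R p k L) (_ : H.Rep D),
      finrank k (H.kerOp 𝔞) ≤ finrank k (H.kerL S)
  top : ∀ (σ : Equiv.Perm ι) (F : Fam D σ), F.Top
  flex : ∀ (σ : Equiv.Perm ι) (σ' : Equiv.Perm Φ), D.R.Sym σ σ' → σ' * σ' = 1 → ∀ (ε : Φ → kˣ) (e : ℕ)
    (𝔞 : Submodule k (Φ → k)), D.Com 𝔞 →
    𝔞 ≤ Submodule.span k {v | v ∈ 𝔞 ∧ ∀ b, v (σ' b) = ε b * v b ^ p ^ e} →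
    ∃ (S O : Finset Φ) (c : Φ → k), (∀ b ∈ S, σ' b ∈ S) ∧ (∀ o ∈ O, o ∉ S ∧ σ' o ≠ o ∧ σ' o ∉ O ∧ c o ≠ 0) ∧
      S.card + O.card = finrank k 𝔞 ∧
      ∀ (L : Type) [AddCommGroup L] [Module k L] (H : HW D.R p k L) (_ : H.Rep D),
        (∀ x ∈ {x | (∃ b ∈ S, x = H.E (true, b) 1) ∨ ∃ o ∈ O, x = H.E (true, o) 1 + c o • H.E (true, σ' o) 1},
          ∀ y ∈ {x | (∃ b ∈ S, x = H.E (true, b) 1) ∨ ∃ o ∈ O, x = H.E (true, o) 1 + c o • H.E (true, σ' o) 1},
            Commute x y) ∧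
        finrank k (H.kerOp 𝔞) ≤
          finrank k ↥(H.kerL S ⊓ ⨅ o ∈ O, LinearMap.ker (H.E (true, o) 1 + c o • H.E (true, σ' o) 1))
  ctg : ∀ (γ : Equiv.Perm ι) (γ' : Equiv.Perm Φ), D.R.Sym γ γ' → ∀ (ε : Φ → kˣ) (𝔞 : Submodule k (Φ → k)),
    D.Com 𝔞 → D.Nil 𝔞 → (∀ v ∈ 𝔞, ∀ b, v (γ' b) = ε b * v b) →
    ∃ (O : Finset Φ) (u : Φ → Φ → k) (S : Finset Φ), O.card = finrank k 𝔞 ∧
      (∀ o ∈ O, ∀ o' ∈ O, γ'.SameCycle o o' → o = o') ∧ (∀ o ∈ O, ∀ b, u o b ≠ 0 ↔ γ'.SameCycle o b) ∧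
      (∀ o ∈ O, ∀ b, u o (γ' b) = ε b * u o b) ∧ S.card = O.card ∧ D.R.Ab p S ∧ D.R.Idl p S ∧
      ∀ (L : Type) [AddCommGroup L] [Module k L] (H : HW D.R p k L) (_ : H.Rep D),
        (∀ o ∈ O, ∀ o' ∈ O, Commute (H.op (u o)) (H.op (u o'))) ∧ (∀ o ∈ O, H.op (u o) ^ p = 0) ∧
        finrank k ↥(⨅ o ∈ O, LinearMap.ker (H.op (u o))) ≤ finrank k (H.kerL S) ∧
        finrank k (H.kerOp 𝔞) ≤ finrank k ↥(⨅ o ∈ O, LinearMap.ker (H.op (u o))) ∧
        ∀ g : Module.End k L, H.lam ∘ γ.symm = H.lam → (∀ μ, ∀ v ∈ H.w μ, g v ∈ H.w (μ ∘ γ.symm)) →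
          finrank k ↥(H.kerOp 𝔞 ⊓ LinearMap.ker (g - 1)) ≤
            finrank k ↥(LinearMap.ker (g - 1) ⊓ ⨅ o ∈ O, LinearMap.ker (H.op (u o)))

end can

/-! ### patterns -/

namespace Std

variable {p : ℕ} {ι Φ k G : Type} [Fintype ι] [DecidableEq ι] [Fintype Φ] [DecidableEq Φ] [Field k] [Infinite k]
  [Group G] {D : RDat p ι Φ k G} {T S : Type} [Group T] [Finite T] [Group S] (M : Std D T S)

/-- the restricted patterns -/
def pats : Finset (Fin M.f → ι → ℕ) := Fintype.piFinset fun _ => Fintype.piFinset fun _ => Finset.range p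

theorem mem_pats {n : Fin M.f → ι → ℕ} : n ∈ M.pats ↔ ∀ a i, n a i < p := by
  simp only [pats, Fintype.mem_piFinset, Finset.mem_range]

/-- the position `m` modulo `f` -/
def pos (m : ℕ) : Fin M.f := ⟨m % M.f, Nat.mod_lt _ M.f_pos⟩

/-- the digit in position `m`, for all natural numbers `m` -/
def ext (n : Fin M.f → ι → ℕ) (m : ℕ) : ι → ℕ := n (M.pos m) ∘ M.gι (M.σ ^ (m / M.f))

/-- the action of `γ * Fr ^ j` on patterns -/
def act (γ : M.Gr) (j : ℕ) (n : Fin M.f → ι → ℕ) : Fin M.f → ι → ℕ := fun a => M.ext n (a + j) ∘ (M.gι γ).symm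

/-- the Frobenius map in the monoid of endomorphisms -/
def FrE : Monoid.End G := M.Fr

/-- the powers of the Frobenius map -/
def FrP (a : ℕ) : G →* G := (M.FrE ^ a : Monoid.End G)

theorem FrP_apply (a : ℕ) (g : G) : M.FrP a g = M.Fr^[a] g := congrFun (Monoid.End.coe_pow G M.FrE a) g

/-- the embedding of `T` into `G ^ f` -/
def ΦT : T →* (Fin M.f → G) := MonoidHom.pi fun a => (M.FrP a).comp M.φ

theorem ΦT_apply (s : T) (a : Fin M.f) : M.ΦT s a = M.Fr^[a] (M.φ s) := M.FrP_apply a _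

/-- the automorphism of `G ^ f` which extends the automorphism `γ * Fr ^ j` of `T` -/
def aut (γ : M.Gr) (j : ℕ) : (Fin M.f → G) →* (Fin M.f → G) :=
  MonoidHom.pi fun a => (M.gr (γ * (M.σ ^ ((a + j) / M.f))⁻¹)).toMonoidHom.comp (Pi.evalMonoidHom (fun _ => G) (M.pos (a + j)))

theorem aut_apply (γ : M.Gr) (j : ℕ) (g : Fin M.f → G) (a : Fin M.f) :
    M.aut γ j g a = M.gr (γ * (M.σ ^ ((a + j) / M.f))⁻¹) (g (M.pos (a + j))) := rfl

/-- the highest weight function of a pattern -/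
def cP (n : Fin M.f → ι → ℕ) (g : Fin M.f → G) : k := ∏ a, D.toFDat.cc (n a) (g a)

/-- the tensor product with pattern `n` -/
abbrev Wc (n : Fin M.f → ι → ℕ) : Submodule k ((Fin M.f → G) → k) := Tr (M.cP n)

/-- the action of `T` on the tensor product -/
def ρW (n : Fin M.f → ι → ℕ) : Representation k T (M.Wc n) := (ρTr (M.cP n)).comp M.ΦT

/-- the fixed vectors of `B` in the tensor product -/
def fxW (n : Fin M.f → ι → ℕ) (B : Subgroup T) : Submodule k ((Fin M.f → G) → k) :=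
  M.Wc n ⊓ fx (k := k) ((RRep (k := k) (G := Fin M.f → G)).comp M.ΦT) B

/-- the vectors fixed by `B` and by `u * γ * Fr ^ j` -/
def fxX (n : Fin M.f → ι → ℕ) (B : Subgroup T) (u : T) (γ : M.Gr) (j : ℕ) : Submodule k ((Fin M.f → G) → k) :=
  M.fxW n B ⊓ LinearMap.ker (Xi (M.aut γ j) (M.ΦT u) - 1)

/-- the same for one factor and a graph automorphism -/
def fxG (ν : ι → ℕ) (B : Subgroup T) (u : T) (γ : M.Gr) : Submodule k (G → k) :=
  Lc D ν ⊓ fx (k := k) ((RRep (k := k) (G := G)).comp M.φ) B ⊓ LinearMap.ker (Xi (M.gr γ).toMonoidHom (M.φ u) - 1)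

section mod

variable {U : Type} [AddCommGroup U] [Module k U] (ρ : Representation k T U)

/-- the homomorphisms from the tensor product -/
def Hm (n : Fin M.f → ι → ℕ) : Submodule k (M.Wc n →ₗ[k] U) where
  carrier := {θ | ∀ s F, θ (M.ρW n s F) = ρ s (θ F)}
  add_mem' := fun {a b} ha hb s F => by
    rw [LinearMap.add_apply, LinearMap.add_apply, map_add, ha s F, hb s F]
  zero_mem' := fun s F => by rw [LinearMap.zero_apply, LinearMap.zero_apply, map_zero]
  smul_mem' := fun c a ha s F => by rw [LinearMap.smul_apply, LinearMap.smul_apply, map_smul, ha s F]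

/-- the homogeneous component -/
def Vc (n : Fin M.f → ι → ℕ) : Submodule k U := ⨆ θ ∈ M.Hm ρ n, LinearMap.range θ

/-- the multiplicity -/
noncomputable def mult (n : Fin M.f → ι → ℕ) : ℕ := finrank k (M.Hm ρ n)

end mod

/-- `y` acts on the image of `T` as `s * h * γ * Fr ^ j` -/
def Acts {Y : Type} [Group Y] (ψ : T →* Y) (y : Y) (s : T) (h : G) (γ : M.Gr) (j : ℕ) : Prop :=
  h ∈ Subgroup.closure {g | ∃ i c, g = D.hh i c} ∧ Commute γ M.σ ∧
    ∀ s₁ : T, ∃ s₂ : T, M.φ s₂ = h * M.gr γ (M.Fr^[j] (M.φ s₁)) * h⁻¹ ∧ y * ψ s₁ * y⁻¹ = ψ (s * s₂ * s⁻¹)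

/-- **tensor products** -/
structure Pow (C : Can D) : Prop where
  fd : ∀ n ∈ M.pats, FiniteDimensional k (M.Wc n)
  dim : ∀ n ∈ M.pats, finrank k (M.Wc n) = ∏ a, dd D (n a)
  /-- the fixed vectors of `U` -/
  line : C.Fa → ∀ n ∈ M.pats, M.fxW n M.E.U ≤ Submodule.span k {M.cP n}
  /-- inner subgroups -/
  inner : C.Fa → ∀ B : Subgroup T, B ≤ M.E.U → (∀ x ∈ B, ∀ y ∈ B, x * y = y * x) →
    ∃ Sg : Fin M.f → Finset Φ, Nat.card B ≤ p ^ ∑ a, (Sg a).card ∧ (∀ a, D.R.Ab p (Sg a) ∧ D.R.Idl p (Sg a)) ∧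
      ∀ n ∈ M.pats, finrank k (M.fxW n B) ≤ ∏ a, C.u (n a) (Sg a)
  /-- field automorphisms -/
  field : ∀ (γ : M.Gr) (j : ℕ), Commute γ M.σ → M.f = p * j → ∀ n ∈ M.pats, n ≠ 0 → M.act γ j n = n →
    (∀ a h h0 b, (C.H (n a) h h0).E (true, b) 1 ≠ 0) → ∀ u ∈ M.E.U,
    (∀ F ∈ M.Wc n, (Xi (M.aut γ j) (M.ΦT u) ^ p) F = F) → ∀ B : Subgroup T, B ≤ M.E.U →
    (∀ x ∈ B, M.ΦT u * M.aut γ j (M.ΦT x) * (M.ΦT u)⁻¹ = M.ΦT x) →
    ∀ E : ℕ, E = ∏ a ∈ Finset.univ.filter (fun a : Fin M.f => (a : ℕ) < j), dd D (n a) →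
      finrank k (M.Wc n) = E ^ p ∧ p * finrank k (M.fxX n B u γ j) + E ≤ E ^ p + p * E ∧
        (B ≠ ⊥ → p * (finrank k (M.fxX n B u γ j) + 1) + E ≤ E ^ p + p * E)
  /-- one factor -/
  single : ∀ (a : Fin M.f) (ν : ι → ℕ), (∀ i, ν i < p) → ∀ B : Subgroup T,
    finrank k (M.fxW (Pi.single a ν) B) = finrank k (fx (ρc D ν) (B.map M.φ)) ∧
    (Cub (ρc D ν) (B.map M.φ) → Cub (M.ρW (Pi.single a ν)) B) ∧
    ∀ (u : T) (γ : M.Gr), Commute γ M.σ → finrank k (M.fxX (Pi.single a ν) B u γ 0) = finrank k (M.fxG ν B u γ)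
  /-- two factors -/
  double : ∀ (a a' : Fin M.f), a ≠ a' → ∀ ν : ι → ℕ, (∀ i, ν i < p) → ∀ B : Subgroup T,
    finrank k (fx (ρc D ν) (B.map M.φ)) ^ 2 ≤ finrank k (M.fxW (Pi.single a ν + Pi.single a' ν) B) ∧
    ((∀ x ∈ B, ∀ y ∈ B, (ρc D ν (M.φ x) - 1) * (ρc D ν (M.φ y) - 1) = 0) →
      Cub (M.ρW (Pi.single a ν + Pi.single a' ν)) B)

/-- **the structure of `k ⊗ V`**; `ρ` is the action of `Y` on `k ⊗ V`, `ψ : T →* Y` has image `K` -/
structure St {Y U : Type} [Group Y] [AddCommGroup U] [Module k U] (ρ : Representation k Y U) (ψ : T →* Y)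
    (irrK : Prop) : Prop where
  indep : iSupIndep fun n : M.pats => M.Vc (ρ.comp ψ) n
  span : ⨆ n ∈ M.pats, M.Vc (ρ.comp ψ) n = ⊤
  fix : ∀ n ∈ M.pats, ∀ B : Subgroup T,
    finrank k ↥(M.Vc (ρ.comp ψ) n ⊓ fx ρ (B.map ψ)) = M.mult (ρ.comp ψ) n * finrank k (M.fxW n B)
  shift : ∀ n ∈ M.pats, M.mult (ρ.comp ψ) (M.act 1 1 n) = M.mult (ρ.comp ψ) n
  move : ∀ y s h γ j, M.Acts ψ y s h γ j → ∀ n ∈ M.pats,
    (M.Vc (ρ.comp ψ) n).map (ρ y) = M.Vc (ρ.comp ψ) (M.act γ j n)
  outer : ∀ y, y ^ p = 1 → ∀ u ∈ M.E.U, ∀ γ j, M.Acts ψ y u 1 γ j → ∀ n ∈ M.pats, M.mult (ρ.comp ψ) n ≠ 0 →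
    M.act γ j n = n → (∀ F ∈ M.Wc n, (Xi (M.aut γ j) (M.ΦT u) ^ p) F = F) ∧ ∀ B : Subgroup T,
      finrank k ↥(M.Vc (ρ.comp ψ) n ⊓ fx ρ (B.map ψ) ⊓ LinearMap.ker (ρ y - 1)) ≤
        M.mult (ρ.comp ψ) n * finrank k (M.fxX n B u γ j)
  zero : M.mult (ρ.comp ψ) 0 = 0
  occ : ∀ n ∈ M.pats, M.mult (ρ.comp ψ) n ≠ 0 → ∃ l, M.Occ (ρ.comp ψ) l ∧ ∀ a : Fin M.f, dig p l a = n a
  trans : (∀ y, ∃ s h γ j, M.Acts ψ y s h γ j) → ∀ n ∈ M.pats, ∀ n' ∈ M.pats, M.mult (ρ.comp ψ) n ≠ 0 →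
    M.mult (ρ.comp ψ) n' ≠ 0 → ∃ γ j, Commute γ M.σ ∧ n' = M.act γ j n
  one : irrK → ∀ n ∈ M.pats, (∀ n' ∈ M.pats, M.mult (ρ.comp ψ) n' ≠ 0 → n' = n) → M.mult (ρ.comp ψ) n ≤ 1

end Std

/-! ### the boxes -/

/-- TH1a -/
def BoxHW : Prop :=
  ∀ (p : ℕ) [Fact p.Prime] (ι Φ k G : Type) [Fintype ι] [DecidableEq ι] [Fintype Φ] [DecidableEq Φ] [Field k]
    [IsAlgClosed k] [CharP k p] [Group G] (D : RDat p ι Φ k G), Nonempty (Can D)

/-- TH3a -/
def BoxDeg1 : Prop :=
  ∀ (p : ℕ) [Fact p.Prime] (ι Φ k G : Type) [Fintype ι] [DecidableEq ι] [Fintype Φ] [DecidableEq Φ] [Field k]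
    [IsAlgClosed k] [CharP k p] [Group G] (D : RDat p ι Φ k G), Deg1 D

/-- TH3b -/
def BoxDeg2 : Prop :=
  ∀ (p : ℕ) [Fact p.Prime] (ι Φ k G : Type) [Fintype ι] [DecidableEq ι] [Fintype Φ] [DecidableEq Φ] [Field k]
    [IsAlgClosed k] [CharP k p] [Group G] (D : RDat p ι Φ k G), D.Fa → Deg2 D

/-- TH3c (may use `BoxHW`, `BoxDeg1`, `BoxDeg2` for the product datum on `Fin f → G`) -/
def BoxPow : Prop :=
  ∀ (p : ℕ) [Fact p.Prime] (ι Φ k G : Type) [Fintype ι] [DecidableEq ι] [Fintype Φ] [DecidableEq Φ] [Field k]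
    [IsAlgClosed k] [CharP k p] [Group G] (D : RDat p ι Φ k G) (T S : Type) [Group T] [Finite T] [Group S]
    (M : Std D T S) (C : Can D), M.Pow C

/-- TH2 -/
def BoxSt : Prop :=
  ∀ (p : ℕ) [Fact p.Prime] (ι Φ k G : Type) [Fintype ι] [DecidableEq ι] [Fintype Φ] [DecidableEq Φ] [Field k]
    [IsAlgClosed k] [CharP k p] [Algebra (ZMod p) k] [Group G] (D : RDat p ι Φ k G) (T S : Type) [Group T] [Finite T]
    [Group S] (M : Std D T S) (C : Can D), C.Fa → M.Pow C →
    ∀ (Y : Type) [Group Y] [Finite Y] (V : Type) [AddCommGroup V] [Module (ZMod p) V] [Finite V]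
      (K : Subgroup Y) (ρ : Representation (ZMod p) Y V), Stp p K ρ → ∀ ψ : T →* Y, ψ.range = K →
      M.St (Gen.bc k ρ) ψ (Irr ρ K)

end Cfsg.Agent.TwoF.DC

private theorem dce_52b645bfcce3 : _root_.True := by
  try have : _root_.True := by simp only [_root_.Cfsg.Agent.TwoF.DC.Std.pats.eq_1]
  exact _root_.True.intro
end

-- part: TwoF/DC/Fin/Defs
section
set_option linter.all false
open scoped Cfsg.Agent.FastGrp

/-!
# TwoF, defining characteristic: the finite groups, type free (helper7).  Interface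

* `Tws D` : Frobenius map, graph automorphisms and a twist `σ` whose orbits on the nodes are orthogonal;
* `Tws.Θ = gr σ ∘ Fr ^ f`, `Tws.TT` : the finite group, generated by the fixed points of `Θ` in `U` and `U⁻`;
* `Tws.Zc` : its centre, in coroot coordinates;
* `Tws.Num P S` : what a type has to give about the simple group `S`; `Tws.Comb P ok` : the combinatorial statements;
* `BoxFin` : they imply `Row p S` (proved in `TwoF/DC/Fin/Main.lean`).
-/

set_option autoImplicit false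
set_option linter.unusedSectionVars false

namespace Cfsg.Agent.TwoF.DC

open Cfsg.Agent.H45.UniE

/-- Frobenius map, graph automorphisms and a twist with orthogonal orbits -/
structure Tws {p : ℕ} {ι Φ k G : Type} [Fintype ι] [DecidableEq ι] [Fintype Φ] [DecidableEq Φ] [Field k] [Group G]
    (D : RDat p ι Φ k G) where
  f : ℕ
  f_pos : 0 < f
  Fr : G →* G
  Fr_z : ∀ b t, Fr (D.z b t) = D.z b (t ^ p)
  Fr_y : ∀ i t, Fr (D.y i t) = D.y i (t ^ p)
  Gr : Type
  [grp : Group Gr]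
  [finGr : Finite Gr]
  gr : Gr →* MulAut G
  gι : Gr →* Equiv.Perm ι
  gΦ : Gr →* Equiv.Perm Φ
  gι_inj : Function.Injective gι
  gr_x : ∀ γ i t, gr γ (D.x i t) = D.x (gι γ i) t
  gr_y : ∀ γ i t, gr γ (D.y i t) = D.y (gι γ i) t
  gr_z : ∀ γ b, ∃ ε : kˣ, ∀ t, gr γ (D.z b t) = D.z (gΦ γ b) (ε * t)
  cf_gr : ∀ γ b i, D.R.cf (gΦ γ b) (gι γ i) = D.R.cf b i
  co_gr : ∀ γ b i, D.R.co (gΦ γ b) (gι γ i) = D.R.co b i
  C_gr : ∀ γ i j, D.R.C (gι γ i) (gι γ j) = D.R.C i j
  ht_gr : ∀ γ b, D.ht (gΦ γ b) = D.ht b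
  Gr_small : Nat.card Gr ∣ 6
  σ : Gr
  /-- the orbits of the twist on the nodes are orthogonal -/
  orth : ∀ i i', (gι σ).SameCycle i i' → i ≠ i' → D.R.C i i' = 0

namespace Tws

variable {p : ℕ} {ι Φ k G : Type} [Fintype ι] [DecidableEq ι] [Fintype Φ] [DecidableEq Φ] [Field k] [Group G]
  {D : RDat p ι Φ k G} (P : Tws D)

instance instGroupGr : Group P.Gr := P.grp
instance instFiniteGr : Finite P.Gr := P.finGr

/-- the Frobenius map in the monoid of endomorphisms -/
def FrE : Monoid.End G := P.Fr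

/-- the powers of the Frobenius map -/
def FrP (a : ℕ) : G →* G := (P.FrE ^ a : Monoid.End G)

theorem FrP_apply (a : ℕ) (g : G) : P.FrP a g = P.Fr^[a] g := congrFun (Monoid.End.coe_pow G P.FrE a) g

/-- the twisted Frobenius map -/
def Θ : G →* G := (P.gr P.σ).toMonoidHom.comp (P.FrP P.f)

theorem Θ_apply (g : G) : P.Θ g = P.gr P.σ (P.Fr^[P.f] g) := congrArg (P.gr P.σ) (P.FrP_apply P.f g)

/-- the finite group -/
def TT : Subgroup G := Subgroup.closure {g | (g ∈ D.U ∨ g ∈ D.Um) ∧ P.Θ g = g}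

/-- the centre of the finite group, in coroot coordinates: `c` stands for `∏ i, hh i (c i)` -/
def Zc : Subgroup (ι → kˣ) where
  carrier := {c | (∀ i, c (P.gι P.σ i) = c i ^ p ^ P.f) ∧ ∀ i, ∏ j, c j ^ D.R.C j i = 1}
  mul_mem' := fun {a b} ha hb => ⟨fun i => by rw [Pi.mul_apply, Pi.mul_apply, ha.1, hb.1, mul_pow], fun i => by
    simp only [Pi.mul_apply, mul_zpow, Finset.prod_mul_distrib, ha.2 i, hb.2 i, mul_one]⟩
  one_mem' := ⟨fun i => by simp, fun i => by simp⟩
  inv_mem' := fun {a} ha => ⟨fun i => by rw [Pi.inv_apply, Pi.inv_apply, ha.1, inv_pow], fun i => by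
    simp only [Pi.inv_apply, inv_zpow, Finset.prod_inv_distrib, ha.2 i, inv_one]⟩

/-- what a type has to give about the simple group `S` -/
def Num (S : Type) [Group S] : Prop :=
  IsSimpleGroup S ∧ ¬ IsMulCommutative S ∧
    (∃ π : P.TT →* S, Function.Surjective π ∧ π.ker ≤ Subgroup.center P.TT) ∧
    ∃ d : ℕ, d ≤ Nat.card P.Zc ∧
      (∃ (A : Type) (_ : CommGroup A) (a : ℕ), HasSchurMultiplier S A ∧ Nat.card A ∣ d * p ^ a) ∧
      Nat.card (MulAut S) ≤ d * Nat.card (Subgroup.centralizer ({P.σ} : Set P.Gr)) * P.f * Nat.card S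

/-- the conclusion -/
def Q (F : Fam D (P.gι P.σ)) : Prop := F.Good (P.gΦ P.σ) ∨ F.GoodT P.TT.subtype P.f

/-- the combinatorial statements (as in `Std.Full`) -/
structure Comb (ok : (ι → ℕ) → Prop) : Prop where
  ex : ∃ l : ι → ℕ, (∀ i, l i < p) ∧ l ≠ 0 ∧ ok l
  ok_gr : ∀ (γ : P.Gr) l, ok l → ok (l ∘ (P.gι γ).symm)
  faith : Faith D.R p k ok
  ct : CT D ok (P.gι P.σ) (P.gΦ P.σ) P.Q
  bg : ∀ γ : P.Gr, γ ≠ 1 → γ ^ p = 1 → Commute γ P.σ → BG D.R p k (P.gι γ)
  ctg : ∀ γ : P.Gr, γ ≠ 1 → γ ^ p = 1 → Commute γ P.σ → CTG D (P.gι P.σ) (P.gι γ) (P.gΦ γ) P.Q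
  ctf : p = 2 → CTF D ok (P.gι P.σ) P.Q
  eight : (∃ γ γ' : P.Gr, ¬ Commute γ γ') → ∀ (L : Type) [AddCommGroup L] [Module k L] (H : HW D.R p k L)
    (S : Finset Φ), D.R.Ab p S → D.R.Idl p S → 4 * S.card + 8 < H.d * (H.d - 1)

end Tws

/-- the main theorem of the folder `TwoF/DC/Fin` -/
def BoxFin : Prop :=
  BoxStd → ∀ (p : ℕ) [Fact p.Prime] (ι Φ k G : Type) [Fintype ι] [DecidableEq ι] [Fintype Φ] [DecidableEq Φ] [Field k]
    [IsAlgClosed k] [CharP k p] [Group G] (D : RDat p ι Φ k G) (P : Tws D) (S : Type) [Group S],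
    P.Num S → P.Comb (fun _ => True) → Row p S

end Cfsg.Agent.TwoF.DC
end

-- part: TwoF/DC/HW/Ext
section
prune_inst 0x7f430304d403d42020000000510820000043a0004000040000428a00402010102608042a04102000510100214001805002000980080402000000000300000020120902a12008148a2040e0019000000400000000000000000000000000000010000000000000
set_option linter.all false
open scoped Cfsg.Agent.FastGrp

-- part: TwoF/DC/HW/Root
section
/-!
# TwoF, defining characteristic, TH1b (1): root combinatorics (helper7)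

Reflections on roots, coroots and weights, words, the exchange lemma, dominance, stabilisers, the longest element.
-/

set_option autoImplicit false
set_option linter.unusedSectionVars false

namespace Cfsg.Agent.TwoF.DC

/-- the opposite root -/
def ng {Φ : Type} (x : Bool × Φ) : Bool × Φ := (!x.1, x.2)

theorem ng_true {Φ : Type} (b : Φ) : ng (true, b) = (false, b) := rfl

theorem ng_false {Φ : Type} (b : Φ) : ng (false, b) = (true, b) := rfl

/-- the weight `μ` is dominant -/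
def Dom {ι : Type} (μ : ι → ℤ) : Prop := ∀ i, 0 ≤ μ i

namespace RC

variable {ι Φ : Type} [Fintype ι] [DecidableEq ι] [DecidableEq Φ] (R : RC ι Φ)

theorem toWt_add (c d : ι → ℤ) : R.toWt (c + d) = R.toWt c + R.toWt d := by
  funext i; simp only [toWt, mul_add, Finset.sum_add_distrib, _root_.Pi.add_apply]

theorem toWt_smul (n : ℤ) (c : ι → ℤ) : R.toWt (n • c) = n • R.toWt c := by
  funext i; simp only [toWt, Finset.mul_sum, mul_left_comm, _root_.Pi.smul_apply, _root_.Int.zsmul_eq_mul]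

theorem toWt_zero : R.toWt 0 = 0 := by funext i; simp only [toWt, _root_.Pi.zero_apply, _root_.MulZeroClass.mul_zero, _root_.Finset.sum_const_zero]

theorem toWt_neg (c : ι → ℤ) : R.toWt (-c) = -R.toWt c := by funext i; simp only [toWt, _root_.Pi.neg_apply, _root_.mul_neg, _root_.Finset.sum_neg_distrib]

theorem toWt_sub (c d : ι → ℤ) : R.toWt (c - d) = R.toWt c - R.toWt d := by
  rw [sub_eq_add_neg, toWt_add, toWt_neg, ← sub_eq_add_neg]

theorem toWt_inj : Function.Injective R.toWt := by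
  intro c d h
  have h1 : R.toWt (c - d) = 0 := by rw [toWt_sub, h, sub_self]
  exact sub_eq_zero.mp (R.C_inj (c - d) fun i => congrFun h1 i)

theorem toWt_single (j i : ι) : R.toWt (Pi.single j 1) i = R.C i j := by
  simp only [toWt, Pi.single_apply, _root_.mul_ite, _root_.mul_one, _root_.MulZeroClass.mul_zero, _root_.Finset.sum_ite_eq', _root_.Finset.mem_univ, ↓ _root_.reduceIte]

theorem vec_true (b : Φ) (j : ι) : R.vec (true, b) j = R.cf b j := by simp [vec]

theorem vec_false (b : Φ) (j : ι) : R.vec (false, b) j = -(R.cf b j : ℤ) := by simp [vec]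

theorem cov_true (b : Φ) (j : ι) : R.cov (true, b) j = R.co b j := by simp [cov]

theorem vec_ng (x : Bool × Φ) : R.vec (ng x) = -R.vec x := by
  funext j; rcases x with ⟨_ | _, b⟩ <;> simp [vec, ng]

theorem cov_ng (x : Bool × Φ) : R.cov (ng x) = -R.cov x := by
  funext j; rcases x with ⟨_ | _, b⟩ <;> simp [cov, ng]

theorem wt_ng (x : Bool × Φ) : R.wt (ng x) = -R.wt x := by rw [wt, vec_ng, toWt_neg, wt]

theorem wt_false (b : Φ) : R.wt (false, b) = -R.wt (true, b) := R.wt_ng (true, b)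

theorem vec_false' (b : Φ) : R.vec (false, b) = -R.vec (true, b) := R.vec_ng (true, b)

theorem vec_zi (i : ι) : R.vec (true, R.zi i) = Pi.single i 1 := by
  funext j; rw [vec_true, R.cf_zi]; by_cases h : j = i <;> simp [h]

theorem cov_zi (i : ι) : R.cov (true, R.zi i) = Pi.single i 1 := by
  funext j; rw [cov_true, R.co_zi]; by_cases h : j = i <;> simp [h]

theorem wt_zi (i j : ι) : R.wt (true, R.zi i) j = R.C j i := by rw [wt, vec_zi, toWt_single]

theorem zi_inj : Function.Injective R.zi := by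
  intro i j h
  have h1 := congrFun (R.cf_zi i) i
  rw [h, R.cf_zi] at h1
  by_contra hne
  simp [hne] at h1

theorem cf_ne_zero (b : Φ) : R.cf b ≠ 0 := by
  intro h
  by_cases hb : ∃ i, b = R.zi i
  · obtain ⟨i, rfl⟩ := hb
    have h1 := congrFun (R.cf_zi i) i
    rw [h] at h1
    simp at h1
  · obtain ⟨i, hi⟩ := R.desc b fun i hi => hb ⟨i, hi⟩
    simp only [h, _root_.Pi.zero_apply, _root_.CharP.cast_eq_zero, _root_.MulZeroClass.mul_zero, _root_.Finset.sum_const_zero, _root_.lt_self_iff_false] at hi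

theorem exists_cf_pos (b : Φ) : ∃ j, 0 < R.cf b j := by
  by_contra h
  push Not at h
  exact R.cf_ne_zero b (funext fun j => Nat.le_zero.mp (h j))

theorem vec_inj : Function.Injective R.vec := by
  rintro ⟨e, b⟩ ⟨e', b'⟩ h
  obtain ⟨j, hj⟩ := R.exists_cf_pos b
  have hj' := congrFun h j
  have key : e = e' := by
    rcases e with _ | _ <;> rcases e' with _ | _ <;> simp [vec] at hj' ⊢ <;> omega
  subst key
  have : R.cf b = R.cf b' := by
    funext i
    have hi := congrFun h i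
    rcases e with _ | _ <;> simp [vec] at hi <;> omega
  rw [R.cf_inj this]

theorem wt_inj : Function.Injective R.wt := fun _ _ h => R.vec_inj (R.toWt_inj h)

theorem vec_ne_zero (x : Bool × Φ) : R.vec x ≠ 0 := by
  intro h
  obtain ⟨j, hj⟩ := R.exists_cf_pos x.2
  have := congrFun h j
  rcases x with ⟨_ | _, b⟩ <;> simp [vec] at this hj <;> omega

theorem wt_ne_zero (x : Bool × Φ) : R.wt x ≠ 0 := fun h =>
  R.vec_ne_zero x (R.toWt_inj (h.trans R.toWt_zero.symm))

theorem neg_of_vec_le {x : Bool × Φ} (h : ∀ j, R.vec x j ≤ 0) : x.1 = false := by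
  rcases x with ⟨_ | _, b⟩
  · rfl
  · obtain ⟨j, hj⟩ := R.exists_cf_pos b
    have := h j
    simp [vec] at this; omega

theorem pos_of_vec_ge {x : Bool × Φ} (h : ∀ j, 0 ≤ R.vec x j) : x.1 = true := by
  rcases x with ⟨_ | _, b⟩
  · obtain ⟨j, hj⟩ := R.exists_cf_pos b
    have := h j
    simp [vec] at this; omega
  · rfl

/-! ### the pairing -/

theorem pair_add (μ ν : ι → ℤ) (x : Bool × Φ) : R.pair (μ + ν) x = R.pair μ x + R.pair ν x := by
  simp only [pair, mul_add, Finset.sum_add_distrib, _root_.Pi.add_apply]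

theorem pair_smul (n : ℤ) (μ : ι → ℤ) (x : Bool × Φ) : R.pair (n • μ) x = n * R.pair μ x := by
  simp only [pair, Finset.mul_sum, mul_left_comm, _root_.Pi.smul_apply, _root_.Int.zsmul_eq_mul]

theorem pair_neg (μ : ι → ℤ) (x : Bool × Φ) : R.pair (-μ) x = -R.pair μ x := by simp only [pair, _root_.Pi.neg_apply, _root_.mul_neg, _root_.Finset.sum_neg_distrib]

theorem pair_sub (μ ν : ι → ℤ) (x : Bool × Φ) : R.pair (μ - ν) x = R.pair μ x - R.pair ν x := by
  rw [sub_eq_add_neg, pair_add, pair_neg, ← sub_eq_add_neg]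

theorem pair_zero (x : Bool × Φ) : R.pair 0 x = 0 := by simp only [pair, _root_.Pi.zero_apply, _root_.MulZeroClass.mul_zero, _root_.Finset.sum_const_zero]

theorem pair_ng (μ : ι → ℤ) (x : Bool × Φ) : R.pair μ (ng x) = -R.pair μ x := by simp only [pair, cov_ng, _root_.Pi.neg_apply, _root_.neg_mul, _root_.Finset.sum_neg_distrib]

theorem pair_false (μ : ι → ℤ) (b : Φ) : R.pair μ (false, b) = -R.pair μ (true, b) := R.pair_ng μ (true, b)

theorem pair_zi (μ : ι → ℤ) (i : ι) : R.pair μ (true, R.zi i) = μ i := by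
  simp only [pair, cov_zi, Pi.single_apply, _root_.ite_mul, _root_.one_mul, _root_.MulZeroClass.zero_mul, _root_.Finset.sum_ite_eq', _root_.Finset.mem_univ, ↓ _root_.reduceIte]

theorem pair_single (i : ι) (x : Bool × Φ) : R.pair (Pi.single i 1) x = R.cov x i := by
  simp only [pair, Pi.single_apply, _root_.mul_ite, _root_.mul_one, _root_.MulZeroClass.mul_zero, _root_.Finset.sum_ite_eq', _root_.Finset.mem_univ, ↓ _root_.reduceIte]

theorem pair_true_nonneg {μ : ι → ℤ} (h : Dom μ) (b : Φ) : 0 ≤ R.pair μ (true, b) :=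
  Finset.sum_nonneg fun i _ => mul_nonneg (by rw [cov_true]; positivity) (h i)

theorem pair_false_nonpos {μ : ι → ℤ} (h : Dom μ) (b : Φ) : R.pair μ (false, b) ≤ 0 := by
  rw [pair_false]; have := R.pair_true_nonneg h b; omega

theorem neg_of_pair {μ : ι → ℤ} (h : Dom μ) {x : Bool × Φ} (hx : R.pair μ x < 0) : x.1 = false := by
  rcases x with ⟨_ | _, b⟩
  · rfl
  · have := R.pair_true_nonneg h b; omega

theorem pair_toWt (c : ι → ℤ) (x : Bool × Φ) :
    R.pair (R.toWt c) x = ∑ j, c j * R.pair (R.wt (true, R.zi j)) x := by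
  simp only [pair, toWt, wt_zi, Finset.mul_sum]
  rw [Finset.sum_comm]
  exact Finset.sum_congr rfl fun j _ => Finset.sum_congr rfl fun i _ => by ring

/-! ### simple reflections -/

/-- the simple reflection on the root lattice -/
def sv (i : ι) (c : ι → ℤ) : ι → ℤ := c - R.toWt c i • Pi.single i 1

theorem sv_add (i : ι) (c d : ι → ℤ) : R.sv i (c + d) = R.sv i c + R.sv i d := by
  simp only [sv, toWt_add, Pi.add_apply, add_smul]; abel

theorem sv_smul (i : ι) (n : ℤ) (c : ι → ℤ) : R.sv i (n • c) = n • R.sv i c := by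
  simp only [sv, toWt_smul, Pi.smul_apply, smul_eq_mul, smul_sub, mul_smul]

theorem sv_neg (i : ι) (c : ι → ℤ) : R.sv i (-c) = -R.sv i c := by
  rw [← neg_one_smul ℤ c, sv_smul, neg_one_smul]

theorem sv_sub (i : ι) (c d : ι → ℤ) : R.sv i (c - d) = R.sv i c - R.sv i d := by
  rw [sub_eq_add_neg, sv_add, sv_neg, ← sub_eq_add_neg]

theorem sw_add (i : ι) (μ ν : ι → ℤ) : R.sw i (μ + ν) = R.sw i μ + R.sw i ν := by
  simp only [sw, Pi.add_apply, add_smul]; abel

theorem sw_smul (i : ι) (n : ℤ) (μ : ι → ℤ) : R.sw i (n • μ) = n • R.sw i μ := by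
  simp only [sw, Pi.smul_apply, smul_eq_mul, smul_sub, mul_smul]

theorem sw_apply (i : ι) (μ : ι → ℤ) (j : ι) : R.sw i μ j = μ j - μ i * R.C j i := by
  simp [sw, wt_zi]

theorem sw_self (i : ι) (μ : ι → ℤ) : R.sw i μ i = -μ i := by rw [sw_apply, R.C_self]; ring

theorem sw_sw (i : ι) (μ : ι → ℤ) : R.sw i (R.sw i μ) = μ := by
  funext j; rw [sw_apply, sw_self, sw_apply]; ring

theorem toWt_sv (i : ι) (c : ι → ℤ) : R.toWt (R.sv i c) = R.sw i (R.toWt c) := by
  rw [sv, toWt_sub, toWt_smul, sw, wt, vec_zi]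

theorem sv_sv (i : ι) (c : ι → ℤ) : R.sv i (R.sv i c) = c :=
  R.toWt_inj (by rw [toWt_sv, toWt_sv, sw_sw])

theorem s_ne (i : ι) {b : Φ} (h : b ≠ R.zi i) : R.s i b ≠ R.zi i := by
  intro h1
  apply h
  apply R.red b i (R.cf b i)
  funext j
  by_cases hj : j = i
  · simp [hj]
  · have h2 := R.cf_s i b h j
    rw [h1, R.cf_zi] at h2
    simp [hj] at h2 ⊢
    omega

theorem sr_ng (i : ι) (x : Bool × Φ) : R.sr i (ng x) = ng (R.sr i x) := by
  unfold sr ng; split_ifs <;> rfl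

theorem sr_zi (i : ι) (e : Bool) : R.sr i (e, R.zi i) = (!e, R.zi i) := by simp [sr]

theorem sr_of_ne (i : ι) (e : Bool) {b : Φ} (h : b ≠ R.zi i) : R.sr i (e, b) = (e, R.s i b) := by simp [sr, h]

theorem vec_sr (i : ι) (x : Bool × Φ) : R.vec (R.sr i x) = R.sv i (R.vec x) := by
  have key : ∀ b, R.vec (R.sr i (true, b)) = R.sv i (R.vec (true, b)) := by
    intro b
    by_cases h : b = R.zi i
    · subst h
      rw [sr_zi, Bool.not_true, vec_false', vec_zi, sv, toWt_single, R.C_self]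
      funext j; by_cases hj : j = i <;> simp [hj]
    · rw [sr_of_ne _ _ _ h]
      funext j
      rw [vec_true, R.cf_s i b h j]
      by_cases hj : j = i <;> simp only [sv, hj, vec, toWt, ↓ _root_.reduceIte, _root_.zsmul_eq_mul, _root_.Int.cast_sum, _root_.Int.cast_mul, _root_.Int.cast_natCast, _root_.Pi.sub_apply, _root_.Pi.mul_apply, _root_.Finset.sum_apply, _root_.Pi.intCast_apply, _root_.Int.cast_eq, _root_.Pi.natCast_apply, _root_.Pi.single_eq_same, _root_.mul_one, _root_.sub_zero, _root_.ne_eq, _root_.not_false_eq_true, _root_.Pi.single_eq_of_ne, _root_.MulZeroClass.mul_zero]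
  rcases x with ⟨_ | _, b⟩
  · rw [← ng_true, sr_ng, vec_ng, vec_ng, key, sv_neg]
  · exact key b

theorem wt_sr (i : ι) (x : Bool × Φ) : R.wt (R.sr i x) = R.sw i (R.wt x) := by rw [wt, vec_sr, toWt_sv, wt]

theorem sr_sr (i : ι) (x : Bool × Φ) : R.sr i (R.sr i x) = x := R.vec_inj (by rw [vec_sr, vec_sr, sv_sv])

theorem s_s (i : ι) {b : Φ} (h : b ≠ R.zi i) : R.s i (R.s i b) = b := by
  have := R.sr_sr i (true, b)
  rw [sr_of_ne _ _ _ h, sr_of_ne _ _ _ (R.s_ne i h)] at this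
  exact congrArg Prod.snd this

theorem cov_sr (i : ι) (x : Bool × Φ) :
    R.cov (R.sr i x) = R.cov x - R.pair (R.wt (true, R.zi i)) x • Pi.single i 1 := by
  have key : ∀ b, R.cov (R.sr i (true, b)) =
      R.cov (true, b) - R.pair (R.wt (true, R.zi i)) (true, b) • Pi.single i 1 := by
    intro b
    by_cases h : b = R.zi i
    · subst h
      rw [sr_zi, Bool.not_true, ← ng_true, cov_ng, cov_zi, pair_zi, wt_zi, R.C_self]
      funext j; by_cases hj : j = i <;> simp [hj]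
    · rw [sr_of_ne _ _ _ h]
      funext j
      rw [cov_true, R.co_s i b h j]
      by_cases hj : j = i <;> simp only [hj, cov, pair, wt_zi, ↓ _root_.reduceIte, _root_.zsmul_eq_mul, _root_.Int.cast_sum, _root_.Int.cast_mul, _root_.Int.cast_natCast, _root_.Pi.sub_apply, _root_.Pi.mul_apply, _root_.Finset.sum_apply, _root_.Pi.natCast_apply, _root_.Pi.intCast_apply, _root_.Int.cast_eq, _root_.Pi.single_eq_same, _root_.mul_one, _root_.sub_zero, _root_.ne_eq, _root_.not_false_eq_true, _root_.Pi.single_eq_of_ne, _root_.MulZeroClass.mul_zero]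
  rcases x with ⟨_ | _, b⟩
  · rw [← ng_true, sr_ng, cov_ng, cov_ng, key, pair_ng, neg_smul]; abel
  · exact key b

theorem pair_sr (μ : ι → ℤ) (i : ι) (x : Bool × Φ) :
    R.pair μ (R.sr i x) = R.pair μ x - μ i * R.pair (R.wt (true, R.zi i)) x := by
  rw [pair, cov_sr]
  simp only [Pi.sub_apply, Pi.smul_apply, smul_eq_mul, sub_mul, Finset.sum_sub_distrib, Pi.single_apply]
  simp only [pair, mul_comm, _root_.ite_mul, _root_.one_mul, _root_.MulZeroClass.zero_mul, _root_.mul_ite, _root_.MulZeroClass.mul_zero, _root_.Finset.sum_ite_eq', _root_.Finset.mem_univ, ↓ _root_.reduceIte]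

theorem pair_sw (μ : ι → ℤ) (i : ι) (x : Bool × Φ) : R.pair (R.sw i μ) x = R.pair μ (R.sr i x) := by
  rw [pair_sr, sw, pair_sub, pair_smul]

theorem pair_sw_sr (μ : ι → ℤ) (i : ι) (x : Bool × Φ) : R.pair (R.sw i μ) (R.sr i x) = R.pair μ x := by
  rw [pair_sw, sr_sr]

theorem isRt_vec (x : Bool × Φ) : R.IsRt (R.vec x) := ⟨x, rfl⟩

theorem isRt_neg {c : ι → ℤ} (h : R.IsRt c) : R.IsRt (-c) := by
  obtain ⟨z, rfl⟩ := h; exact ⟨ng z, R.vec_ng z⟩

theorem isRt_neg_iff (c : ι → ℤ) : R.IsRt (-c) ↔ R.IsRt c :=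
  ⟨fun h => by simpa using R.isRt_neg h, R.isRt_neg⟩

theorem isRt_sv (i : ι) (c : ι → ℤ) : R.IsRt (R.sv i c) ↔ R.IsRt c := by
  have key : ∀ c, R.IsRt c → R.IsRt (R.sv i c) := by
    rintro c ⟨z, rfl⟩; exact ⟨R.sr i z, R.vec_sr i z⟩
  exact ⟨fun h => by simpa [sv_sv] using key _ h, key c⟩

theorem nz_sr (p : ℕ) (i : ι) (x y : Bool × Φ) : R.NZ p (R.sr i x) (R.sr i y) ↔ R.NZ p x y := by
  simp only [NZ, vec_sr, ← sv_add, ← sv_smul, ← sv_sub, isRt_sv]

theorem nz_ng (p : ℕ) (x y : Bool × Φ) : R.NZ p (ng x) (ng y) ↔ R.NZ p x y := by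
  have h1 : ∀ n : ℤ, -R.vec y - n • -R.vec x = -(R.vec y - n • R.vec x) := fun n => by rw [smul_neg]; abel
  simp only [NZ, vec_ng, ← neg_add, h1, isRt_neg_iff]

/-! ### words -/

/-- a word acting on weights -/
def swl (l : List ι) (μ : ι → ℤ) : ι → ℤ := l.foldr R.sw μ
/-- a word acting on roots -/
def srl (l : List ι) (x : Bool × Φ) : Bool × Φ := l.foldr R.sr x
/-- a word acting on the root lattice -/
def svl (l : List ι) (c : ι → ℤ) : ι → ℤ := l.foldr R.sv c

theorem swl_nil (μ : ι → ℤ) : R.swl [] μ = μ := rfl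
theorem srl_nil (x : Bool × Φ) : R.srl [] x = x := rfl
theorem svl_nil (c : ι → ℤ) : R.svl [] c = c := rfl
theorem swl_cons (i : ι) (l : List ι) (μ : ι → ℤ) : R.swl (i :: l) μ = R.sw i (R.swl l μ) := rfl
theorem srl_cons (i : ι) (l : List ι) (x : Bool × Φ) : R.srl (i :: l) x = R.sr i (R.srl l x) := rfl
theorem svl_cons (i : ι) (l : List ι) (c : ι → ℤ) : R.svl (i :: l) c = R.sv i (R.svl l c) := rfl
theorem swl_append (l l' : List ι) (μ : ι → ℤ) : R.swl (l ++ l') μ = R.swl l (R.swl l' μ) := List.foldr_append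
theorem srl_append (l l' : List ι) (x : Bool × Φ) : R.srl (l ++ l') x = R.srl l (R.srl l' x) := List.foldr_append
theorem swl_rev_swl (l : List ι) (μ : ι → ℤ) : R.swl l.reverse (R.swl l μ) = μ := by
  induction l with
  | nil => rfl
  | cons i l ih => rw [List.reverse_cons, swl_append, swl_cons, swl_cons, swl_nil, sw_sw, ih]

theorem swl_swl_rev (l : List ι) (μ : ι → ℤ) : R.swl l (R.swl l.reverse μ) = μ := by
  have := R.swl_rev_swl l.reverse μ; rwa [List.reverse_reverse] at this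

theorem srl_rev_srl (l : List ι) (x : Bool × Φ) : R.srl l.reverse (R.srl l x) = x := by
  induction l with
  | nil => rfl
  | cons i l ih => rw [List.reverse_cons, srl_append, srl_cons, srl_cons, srl_nil, sr_sr, ih]

theorem srl_srl_rev (l : List ι) (x : Bool × Φ) : R.srl l (R.srl l.reverse x) = x := by
  have := R.srl_rev_srl l.reverse x; rwa [List.reverse_reverse] at this

theorem swl_inj (l : List ι) : Function.Injective (R.swl l) := fun a b h => by
  rw [← R.swl_rev_swl l a, h, swl_rev_swl]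

theorem srl_inj (l : List ι) : Function.Injective (R.srl l) := fun a b h => by
  rw [← R.srl_rev_srl l a, h, srl_rev_srl]

theorem swl_add (l : List ι) (μ ν : ι → ℤ) : R.swl l (μ + ν) = R.swl l μ + R.swl l ν := by
  induction l with
  | nil => rfl
  | cons i l ih => rw [swl_cons, ih, sw_add, swl_cons, swl_cons]

theorem swl_smul (l : List ι) (n : ℤ) (μ : ι → ℤ) : R.swl l (n • μ) = n • R.swl l μ := by
  induction l with
  | nil => rfl
  | cons i l ih => rw [swl_cons, ih, sw_smul, swl_cons]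

theorem swl_neg (l : List ι) (μ : ι → ℤ) : R.swl l (-μ) = -R.swl l μ := by
  rw [← neg_one_smul ℤ μ, swl_smul, neg_one_smul]

theorem swl_sub (l : List ι) (μ ν : ι → ℤ) : R.swl l (μ - ν) = R.swl l μ - R.swl l ν := by
  rw [sub_eq_add_neg, swl_add, swl_neg, ← sub_eq_add_neg]

theorem swl_zero (l : List ι) : R.swl l 0 = 0 := by
  have := R.swl_smul l 0 0; rwa [zero_smul, zero_smul] at this

theorem svl_add (l : List ι) (c d : ι → ℤ) : R.svl l (c + d) = R.svl l c + R.svl l d := by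
  induction l with
  | nil => rfl
  | cons i l ih => rw [svl_cons, ih, sv_add, svl_cons, svl_cons]

theorem svl_smul (l : List ι) (n : ℤ) (c : ι → ℤ) : R.svl l (n • c) = n • R.svl l c := by
  induction l with
  | nil => rfl
  | cons i l ih => rw [svl_cons, ih, sv_smul, svl_cons]

theorem svl_zero (l : List ι) : R.svl l 0 = 0 := by
  have := R.svl_smul l 0 0; rwa [zero_smul, zero_smul] at this

theorem svl_sum {α : Type} (l : List ι) (s : Finset α) (f : α → ι → ℤ) :
    R.svl l (∑ a ∈ s, f a) = ∑ a ∈ s, R.svl l (f a) := by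
  classical
  induction s using Finset.induction_on with
  | empty => simp [svl_zero]
  | insert a s ha ih => rw [Finset.sum_insert ha, Finset.sum_insert ha, svl_add, ih]

theorem toWt_svl (l : List ι) (c : ι → ℤ) : R.toWt (R.svl l c) = R.swl l (R.toWt c) := by
  induction l with
  | nil => rfl
  | cons i l ih => rw [svl_cons, toWt_sv, ih, swl_cons]

theorem vec_srl (l : List ι) (x : Bool × Φ) : R.vec (R.srl l x) = R.svl l (R.vec x) := by
  induction l with
  | nil => rfl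
  | cons i l ih => rw [srl_cons, vec_sr, ih, svl_cons]

theorem wt_srl (l : List ι) (x : Bool × Φ) : R.wt (R.srl l x) = R.swl l (R.wt x) := by
  rw [wt, vec_srl, toWt_svl, wt]

theorem srl_ng (l : List ι) (x : Bool × Φ) : R.srl l (ng x) = ng (R.srl l x) := by
  induction l with
  | nil => rfl
  | cons i l ih => rw [srl_cons, ih, sr_ng, srl_cons]

theorem pair_swl_srl (l : List ι) (μ : ι → ℤ) (x : Bool × Φ) : R.pair (R.swl l μ) (R.srl l x) = R.pair μ x := by
  induction l with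
  | nil => rfl
  | cons i l ih => rw [swl_cons, srl_cons, pair_sw_sr, ih]

theorem pair_swl (l : List ι) (μ : ι → ℤ) (x : Bool × Φ) : R.pair (R.swl l μ) x = R.pair μ (R.srl l.reverse x) := by
  rw [← R.pair_swl_srl l μ (R.srl l.reverse x), srl_srl_rev]

/-- the height goes down under a descent -/
theorem sum_cf_s {i : ι} {b : Φ} (hb : b ≠ R.zi i) :
    (∑ j, (R.cf (R.s i b) j : ℤ)) = ∑ j, (R.cf b j : ℤ) - R.wt (true, b) i := by
  simp only [R.cf_s i b hb, Finset.sum_sub_distrib, Finset.sum_ite_eq', Finset.mem_univ, if_true, wt, toWt, vec_true]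

/-- induction on positive roots along descents -/
theorem desc_induction {P : Φ → Prop} (h0 : ∀ i, P (R.zi i))
    (h1 : ∀ i b, b ≠ R.zi i → 0 < R.wt (true, b) i → P (R.s i b) → P b) (b : Φ) : P b := by
  induction hn : ∑ j, R.cf b j using Nat.strong_induction_on generalizing b with
  | _ n ih =>
    by_cases hb : ∃ i, b = R.zi i
    · obtain ⟨i, rfl⟩ := hb; exact h0 i
    · have hb' : ∀ i, b ≠ R.zi i := fun i hi => hb ⟨i, hi⟩
      obtain ⟨i, hi⟩ := R.desc b hb'
      have hi' : 0 < R.wt (true, b) i := by simpa only [wt, toWt, vec_true] using hi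
      refine h1 i b (hb' i) hi' (ih _ ?_ _ rfl)
      have h2 := R.sum_cf_s (hb' i)
      have h3 : ((∑ j, R.cf (R.s i b) j : ℕ) : ℤ) < (∑ j, R.cf b j : ℕ) := by push_cast; omega
      omega

/-- every root is conjugate to a simple root -/
theorem exists_srl_zi (x : Bool × Φ) : ∃ l i, x = R.srl l (true, R.zi i) := by
  have key : ∀ b, ∃ l i, (true, b) = R.srl l (true, R.zi i) := by
    refine R.desc_induction (fun i => ⟨[], i, rfl⟩) ?_
    rintro i b hb - ⟨l, j, h⟩
    refine ⟨i :: l, j, ?_⟩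
    rw [srl_cons, ← h, ← R.sr_of_ne i true hb, sr_sr]
  rcases x with ⟨_ | _, b⟩
  · obtain ⟨l, i, h⟩ := key b
    refine ⟨l ++ [i], i, ?_⟩
    rw [srl_append, srl_cons, srl_nil, sr_zi, Bool.not_true, ← ng_true (R.zi i), srl_ng, ← h, ng_true]
  · exact key b

theorem pair_wt_self (x : Bool × Φ) : R.pair (R.wt x) x = 2 := by
  obtain ⟨l, i, rfl⟩ := R.exists_srl_zi x
  rw [wt_srl, pair_swl_srl, pair_zi, wt_zi, R.C_self]

theorem exists_co_pos (b : Φ) : ∃ j, 0 < R.co b j := by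
  by_contra h
  push Not at h
  have h2 := R.pair_wt_self (true, b)
  have h3 : ∀ j, R.co b j = 0 := fun j => Nat.le_zero.mp (h j)
  simp only [pair, cov, h3, ↓ _root_.reduceIte, _root_.CharP.cast_eq_zero, _root_.MulZeroClass.zero_mul, _root_.Finset.sum_const_zero, _root_.OfNat.zero_ne_ofNat] at h2

/-- the reflection in an arbitrary root -/
def rf (x : Bool × Φ) (μ : ι → ℤ) : ι → ℤ := μ - R.pair μ x • R.wt x

theorem rf_zi (i : ι) (μ : ι → ℤ) : R.rf (true, R.zi i) μ = R.sw i μ := by rw [rf, pair_zi, sw]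

theorem swl_rf (l : List ι) (x : Bool × Φ) (μ : ι → ℤ) : R.swl l (R.rf x μ) = R.rf (R.srl l x) (R.swl l μ) := by
  rw [rf, rf, swl_sub, swl_smul, pair_swl_srl, wt_srl]

theorem exists_rf_eq (x : Bool × Φ) : ∃ l, ∀ μ, R.rf x μ = R.swl l μ := by
  obtain ⟨l, i, rfl⟩ := R.exists_srl_zi x
  refine ⟨l ++ i :: l.reverse, fun μ => ?_⟩
  rw [swl_append, swl_cons, ← rf_zi, swl_rf, swl_swl_rev]

theorem pair_rf (x : Bool × Φ) (μ : ι → ℤ) : R.pair (R.rf x μ) x = -R.pair μ x := by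
  rw [rf, pair_sub, pair_smul, pair_wt_self]; ring

/-- `y - ⟨y, x^∨⟩ x` is a root -/
theorem isRt_rf (x y : Bool × Φ) : R.IsRt (R.vec y - R.pair (R.wt y) x • R.vec x) := by
  obtain ⟨l, hl⟩ := R.exists_rf_eq x
  refine ⟨R.srl l y, R.toWt_inj ?_⟩
  rw [toWt_sub, toWt_smul]
  exact (R.wt_srl l y).trans (hl _).symm

/-- the exchange lemma -/
theorem exchange (l : List ι) (x : Bool × Φ) (hx : x.1 = true) (hl : (R.srl l x).1 = false) :
    ∃ l' : List ι, l'.length + 1 = l.length ∧ ∀ ν, R.swl l (R.rf x ν) = R.swl l' ν := by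
  induction l with
  | nil => rw [srl_nil, hx] at hl; cases hl
  | cons j t ih =>
    by_cases ht : (R.srl t x).1 = false
    · obtain ⟨t', h1, h2⟩ := ih ht
      exact ⟨j :: t', by simp [h1], fun ν => by rw [swl_cons, h2, swl_cons]⟩
    · have h3 : R.srl t x = (true, R.zi j) := by
        rw [srl_cons] at hl
        generalize R.srl t x = y at ht hl
        rcases y with ⟨_ | _, b⟩
        · simp at ht
        · by_contra hne
          have hb : b ≠ R.zi j := fun h => hne (by rw [h])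
          rw [sr_of_ne _ _ _ hb] at hl
          cases hl
      exact ⟨t, by simp, fun ν => by rw [swl_cons, swl_rf, h3, rf_zi, sw_sw]⟩

/-- a dominant weight is the largest weight of its orbit -/
theorem swl_dom {μ : ι → ℤ} (h : Dom μ) (l : List ι) : ∃ c : ι → ℕ, R.swl l μ = μ - R.toWt fun j => c j := by
  induction hn : l.length using Nat.strong_induction_on generalizing l with
  | _ n ih =>
    rcases List.eq_nil_or_concat' l with rfl | ⟨t, i, rfl⟩
    · refine ⟨0, ?_⟩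
      have h0 : (fun j => ((0 : ι → ℕ) j : ℤ)) = 0 := rfl
      rw [swl_nil, h0, toWt_zero, sub_zero]
    · rw [List.length_append, List.length_singleton] at hn
      by_cases ht : (R.srl t (true, R.zi i)).1 = false
      · obtain ⟨t', h1, h2⟩ := R.exchange t _ rfl ht
        obtain ⟨c, hc⟩ := ih t'.length (by omega) t' rfl
        exact ⟨c, by rw [swl_append, swl_cons, swl_nil, ← rf_zi, h2, hc]⟩
      · obtain ⟨c, hc⟩ := ih t.length (by omega) t rfl
        obtain ⟨m, hm⟩ := Int.eq_ofNat_of_zero_le (h i)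
        refine ⟨c + m • R.cf (R.srl t (true, R.zi i)).2, ?_⟩
        rw [swl_append, swl_cons, swl_nil, sw, swl_sub, swl_smul, ← wt_srl, hc, hm, sub_sub, wt, ← toWt_smul,
          ← toWt_add]
        congr 2
        funext j
        generalize R.srl t (true, R.zi i) = y at ht
        rcases y with ⟨_ | _, b⟩
        · simp at ht
        · simp only [vec, _root_.zsmul_eq_mul, _root_.Int.cast_natCast, _root_.Pi.add_apply, _root_.Pi.mul_apply, _root_.Pi.natCast_apply, ↓ _root_.reduceIte, _root_.nsmul_eq_mul, _root_.Nat.cast_id, _root_.Nat.cast_add, _root_.Nat.cast_mul]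

theorem eq_zero_of_toWt_add {c d : ι → ℕ} (h : (R.toWt (fun j => c j) + R.toWt fun j => d j) = 0) :
    (R.toWt fun j => c j) = 0 := by
  rw [← toWt_add, ← R.toWt_zero] at h
  have h1 := R.toWt_inj h
  have h2 : (fun j => (c j : ℤ)) = 0 := funext fun j => by
    have := congrFun h1 j
    simp only [Pi.add_apply, Pi.zero_apply] at this ⊢
    omega
  rw [h2, toWt_zero]

/-- a dominant weight is the only dominant weight of its orbit -/
theorem swl_eq_of_dom {μ : ι → ℤ} (h : Dom μ) (l : List ι) (h' : Dom (R.swl l μ)) : R.swl l μ = μ := by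
  obtain ⟨c, hc⟩ := R.swl_dom h l
  obtain ⟨d, hd⟩ := R.swl_dom h' l.reverse
  rw [swl_rev_swl, hc, sub_sub] at hd
  rw [hc, R.eq_zero_of_toWt_add (c := c) (d := d) (sub_eq_self.mp hd.symm), sub_zero]

/-- **stabiliser lemma**: `Stab (μ + ν) ≤ Stab μ` for dominant `μ`, `ν` -/
theorem swl_eq_of_add {μ ν : ι → ℤ} (hμ : Dom μ) (hν : Dom ν) {l l' : List ι}
    (h : R.swl l (μ + ν) = R.swl l' (μ + ν)) : R.swl l μ = R.swl l' μ := by
  have h1 : R.swl (l'.reverse ++ l) (μ + ν) = μ + ν := by rw [swl_append, h, swl_rev_swl]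
  obtain ⟨c, hc⟩ := R.swl_dom hμ (l'.reverse ++ l)
  obtain ⟨d, hd⟩ := R.swl_dom hν (l'.reverse ++ l)
  rw [swl_add, hc, hd] at h1
  have h2 : (R.toWt (fun j => c j) + R.toWt fun j => d j) = 0 := by
    have : μ - R.toWt (fun j => c j) + (ν - R.toWt fun j => d j) =
      μ + ν - (R.toWt (fun j => c j) + R.toWt fun j => d j) := by abel
    rw [this] at h1
    simpa only [_root_.sub_eq_self] using h1
  rw [R.eq_zero_of_toWt_add h2, sub_zero, swl_append] at hc
  rw [← R.swl_swl_rev l' (R.swl l μ), hc]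

theorem pair_swl_add_le {μ ν : ι → ℤ} (hμ : Dom μ) (hν : Dom ν) {l : List ι} {x : Bool × Φ}
    (h : R.pair (R.swl l μ) x < 0) : R.pair (R.swl l (μ + ν)) x ≤ R.pair (R.swl l μ) x := by
  rw [pair_swl] at h
  rw [pair_swl, pair_swl, pair_add]
  have h1 := R.neg_of_pair hμ h
  generalize R.srl l.reverse x = y at h h1
  rcases y with ⟨e, b⟩
  cases h1
  have := R.pair_false_nonpos hν b
  omega

/-- the longest element -/
theorem exists_w0 [Fintype Φ] : ∃ l : List ι, ∀ b, (R.srl l (true, b)).1 = false := by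
  classical
  let N : List ι → ℕ := fun l => (Finset.univ.filter fun b => (R.srl l (true, b)).1 = false).card
  have hN : ∀ l, N l ≤ Fintype.card Φ := fun l => Finset.card_le_univ _
  have hmax : ∃ l, ∀ l', N l' ≤ N l := by
    by_contra hc
    push Not at hc
    have : ∀ n, ∃ l, n ≤ N l := by
      intro n
      induction n with
      | zero => exact ⟨[], Nat.zero_le _⟩
      | succ n ih =>
        obtain ⟨l, hl⟩ := ih
        obtain ⟨l', hl'⟩ := hc l
        exact ⟨l', by omega⟩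
    obtain ⟨l, hl⟩ := this (Fintype.card Φ + 1)
    have := hN l
    omega
  obtain ⟨l, hl⟩ := hmax
  have hs : ∀ i, (R.srl l (true, R.zi i)).1 = false := by
    intro i
    by_contra hi
    have hi' : (R.srl l (true, R.zi i)).1 = true := by simpa using hi
    have h1 := hl (l ++ [i])
    have h2 : N l + 1 ≤ N (l ++ [i]) := by
      have hz : R.zi i ∉ (Finset.univ.filter fun b => (R.srl l (true, b)).1 = false).image (R.s i) := by
        intro hm
        obtain ⟨b, hb, hb'⟩ := Finset.mem_image.mp hm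
        have hb1 := (Finset.mem_filter.mp hb).2
        have hb2 : b ≠ R.zi i := fun h => hi (h ▸ hb1)
        exact R.s_ne i hb2 hb'
      have hc : ((Finset.univ.filter fun b => (R.srl l (true, b)).1 = false).image (R.s i)).card = N l := by
        apply Finset.card_image_of_injOn
        intro b hb b' hb' he
        have hb1 : b ≠ R.zi i := fun h => hi (h ▸ (Finset.mem_filter.mp hb).2)
        have hb2 : b' ≠ R.zi i := fun h => hi (h ▸ (Finset.mem_filter.mp hb').2)
        rw [← R.s_s i hb1, he, R.s_s i hb2]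
      rw [← hc, ← Finset.card_insert_of_notMem hz]
      apply Finset.card_le_card
      intro a ha
      refine Finset.mem_filter.mpr ⟨Finset.mem_univ _, ?_⟩
      rw [srl_append, srl_cons, srl_nil]
      rcases Finset.mem_insert.mp ha with rfl | ha
      · rw [sr_zi, Bool.not_true, ← ng_true, srl_ng, ng, hi']; rfl
      · obtain ⟨b, hb, rfl⟩ := Finset.mem_image.mp ha
        have hb1 := (Finset.mem_filter.mp hb).2
        have hb2 : b ≠ R.zi i := fun h => hi (h ▸ hb1)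
        rw [← R.sr_of_ne i true hb2, sr_sr, hb1]
    omega
  refine ⟨l, fun b => R.neg_of_vec_le fun j => ?_⟩
  have h1 : R.vec (true, b) = ∑ i, (R.cf b i : ℤ) • R.vec (true, R.zi i) := by
    funext m; simp only [vec_zi, vec_true, Pi.single_apply, Finset.sum_apply, _root_.zsmul_eq_mul, _root_.Int.cast_natCast, _root_.Pi.mul_apply, _root_.Pi.natCast_apply, _root_.mul_ite, _root_.mul_one, _root_.MulZeroClass.mul_zero, _root_.Finset.sum_ite_eq, _root_.Finset.mem_univ, ↓ _root_.reduceIte]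
  rw [vec_srl, h1, svl_sum, Finset.sum_apply]
  refine Finset.sum_nonpos fun i _ => ?_
  rw [svl_smul, ← vec_srl, Pi.smul_apply, smul_eq_mul]
  have h2 := hs i
  generalize R.srl l (true, R.zi i) = y at h2
  rcases y with ⟨e, a⟩
  cases h2
  rw [vec_false]
  exact mul_nonpos_of_nonneg_of_nonpos (by positivity) (by simp)

theorem svl_w0_nonpos {l : List ι} (hl : ∀ b, (R.srl l (true, b)).1 = false) (c : ι → ℕ) (j : ι) :
    R.svl l (fun i => c i) j ≤ 0 := by
  have h1 : (fun i => (c i : ℤ)) = ∑ i, (c i : ℤ) • R.vec (true, R.zi i) := by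
    funext m; simp only [vec_zi, Pi.single_apply, Finset.sum_apply, _root_.zsmul_eq_mul, _root_.Int.cast_natCast, _root_.Pi.mul_apply, _root_.Pi.natCast_apply, _root_.mul_ite, _root_.mul_one, _root_.MulZeroClass.mul_zero, _root_.Finset.sum_ite_eq, _root_.Finset.mem_univ, ↓ _root_.reduceIte]
  rw [h1, svl_sum, Finset.sum_apply]
  refine Finset.sum_nonpos fun i _ => ?_
  rw [svl_smul, ← vec_srl, Pi.smul_apply, smul_eq_mul]
  have h2 := hl (R.zi i)
  generalize R.srl l (true, R.zi i) = y at h2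
  rcases y with ⟨e, a⟩
  cases h2
  rw [vec_false]
  exact mul_nonpos_of_nonneg_of_nonpos (by positivity) (by simp)

theorem dom_neg_w0 {l : List ι} (hl : ∀ b, (R.srl l (true, b)).1 = false) {μ : ι → ℤ} (h : Dom μ) :
    Dom (-R.swl l μ) := by
  intro i
  rw [Pi.neg_apply, ← R.pair_zi (R.swl l μ) i, pair_swl]
  have h1 : (R.srl l.reverse (true, R.zi i)).1 = false := by
    by_contra hc
    have h2 := hl (R.srl l.reverse (true, R.zi i)).2
    have h3 : (true, (R.srl l.reverse (true, R.zi i)).2) = R.srl l.reverse (true, R.zi i) :=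
      Prod.ext (by simpa using hc) rfl
    rw [h3, srl_srl_rev] at h2
    cases h2
  generalize R.srl l.reverse (true, R.zi i) = y at h1
  rcases y with ⟨e, a⟩
  cases h1
  have := R.pair_false_nonpos h a
  omega

/-- every root is conjugate to a positive root whose coroot is dominant -/
theorem exists_dom_co [Fintype Φ] (x : Bool × Φ) :
    ∃ l b, R.srl l x = (true, b) ∧ ∀ j, 0 ≤ R.pair (R.wt (true, R.zi j)) (true, b) := by
  classical
  obtain ⟨y, hy, hmax⟩ := Finset.exists_max_image (Finset.univ.filter fun y => ∃ l, R.srl l x = y)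
    (fun y => ∑ j, R.cov y j) ⟨x, Finset.mem_filter.mpr ⟨Finset.mem_univ _, [], rfl⟩⟩
  obtain ⟨l, rfl⟩ := (Finset.mem_filter.mp hy).2
  have h1 : ∀ j, 0 ≤ R.pair (R.wt (true, R.zi j)) (R.srl l x) := by
    intro j
    have h2 := hmax (R.srl (j :: l) x) (Finset.mem_filter.mpr ⟨Finset.mem_univ _, _, rfl⟩)
    rw [srl_cons, cov_sr] at h2
    simp only [Finset.sum_sub_distrib, Pi.single_apply, _root_.zsmul_eq_mul, _root_.Pi.sub_apply, _root_.Pi.mul_apply, _root_.Pi.intCast_apply, _root_.Int.cast_eq, _root_.mul_ite, _root_.mul_one, _root_.MulZeroClass.mul_zero, _root_.Finset.sum_ite_eq', _root_.Finset.mem_univ, ↓ _root_.reduceIte, _root_.tsub_le_iff_right, _root_.le_add_iff_nonneg_right] at h2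
    exact h2
  have h3 : (R.srl l x).1 = true := by
    by_contra hc
    have h4 := R.pair_wt_self (R.srl l x)
    rw [wt, pair_toWt] at h4
    have h5 : ∑ j, R.vec (R.srl l x) j * R.pair (R.wt (true, R.zi j)) (R.srl l x) ≤ 0 := by
      refine Finset.sum_nonpos fun j _ => mul_nonpos_of_nonpos_of_nonneg ?_ (h1 j)
      simp only [vec, hc, ↓ _root_.reduceIte, _root_.Left.neg_nonpos_iff, _root_.Nat.cast_nonneg]
    omega
  refine ⟨l, (R.srl l x).2, Prod.ext h3 rfl, fun j => ?_⟩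
  have h6 : (true, (R.srl l x).2) = R.srl l x := Prod.ext h3.symm rfl
  rw [h6]; exact h1 j

end RC

end Cfsg.Agent.TwoF.DC
end

-- part: TwoF/DC/HW/Gr
section
/-!
# TwoF, defining characteristic, TH1b (2): weights, projections, graded subspaces, counting (helper7)
-/

set_option autoImplicit false
set_option linter.unusedSectionVars false
set_option linter.unusedVariables false

namespace Cfsg.Agent.TwoF.DC

open Module

namespace HW

variable {ι Φ : Type} [Fintype ι] [DecidableEq ι] [DecidableEq Φ] {R : RC ι Φ} {p : ℕ} {k L : Type} [Field k]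
  [AddCommGroup L] [Module k L] (H : HW R p k L)

/-- the highest weight -/
def lz : ι → ℤ := fun i => H.lam i

/-- `μ` is a weight -/
def IsWt (μ : ι → ℤ) : Prop := H.w μ ≠ ⊥

/-- the multiplicity of a weight -/
noncomputable def m (μ : ι → ℤ) : ℕ := finrank k (H.w μ)

theorem lz_dom : Dom H.lz := fun _ => Int.natCast_nonneg _

theorem lz_apply (i : ι) : H.lz i = H.lam i := rfl

theorem exists_lam_pos : ∃ i, 0 < H.lam i := by
  by_contra h
  push Not at h
  exact H.lam_ne (funext fun i => Nat.le_zero.mp (h i))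

theorem m_lz : H.m H.lz = 1 := H.top

theorem isWt_iff {μ : ι → ℤ} : H.IsWt μ ↔ ∃ v ∈ H.w μ, v ≠ 0 := Submodule.ne_bot_iff _

theorem isWt_of_mem {μ : ι → ℤ} {v : L} (hv : v ∈ H.w μ) (h0 : v ≠ 0) : H.IsWt μ := H.isWt_iff.mpr ⟨v, hv, h0⟩

theorem eq_zero_of_not_isWt {μ : ι → ℤ} (h : ¬ H.IsWt μ) {v : L} (hv : v ∈ H.w μ) : v = 0 := by
  by_contra h0; exact h (H.isWt_of_mem hv h0)

theorem isWt_iff_m {μ : ι → ℤ} : H.IsWt μ ↔ 0 < H.m μ := by
  have := H.fd
  rw [IsWt, m, Nat.pos_iff_ne_zero, Ne, Ne, Submodule.finrank_eq_zero]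

theorem isWt_lz : H.IsWt H.lz := H.isWt_iff_m.mpr (by rw [m_lz]; exact Nat.one_pos)

theorem finite_wt : {μ | H.w μ ≠ ⊥}.Finite := by
  have := H.fd
  exact Submodule.finite_ne_bot_of_iSupIndep H.indep

/-- the set of weights -/
noncomputable def Wts : Finset (ι → ℤ) := H.finite_wt.toFinset

theorem mem_Wts {μ : ι → ℤ} : μ ∈ H.Wts ↔ H.IsWt μ := by simp only [Wts, IsWt, _root_.ne_eq, _root_.Set.Finite.mem_toFinset, _root_.Set.mem_ofPred_eq]

theorem internal : DirectSum.IsInternal H.w :=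
  DirectSum.isInternal_submodule_of_iSupIndep_of_iSup_eq_top H.indep H.span

/-- the projection to a weight space -/
noncomputable def pr (μ : ι → ℤ) : L →ₗ[k] L :=
  (H.w μ).subtype ∘ₗ DirectSum.component k _ (fun μ => H.w μ) μ ∘ₗ
    (LinearEquiv.ofBijective (DirectSum.coeLinearMap H.w) H.internal).symm.toLinearMap

theorem pr_mem (μ : ι → ℤ) (v : L) : H.pr μ v ∈ H.w μ := Subtype.property _

theorem pr_of_mem {μ : ι → ℤ} {v : L} (hv : v ∈ H.w μ) : H.pr μ v = v :=
  congrArg Subtype.val (H.internal.ofBijective_coeLinearMap_of_mem hv)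

theorem pr_of_ne {μ ν : ι → ℤ} {v : L} (hv : v ∈ H.w μ) (h : μ ≠ ν) : H.pr ν v = 0 :=
  congrArg Subtype.val (H.internal.ofBijective_coeLinearMap_of_mem_ne h hv)

theorem w_induction {P : L → Prop} (h0 : P 0) (hadd : ∀ u v, P u → P v → P (u + v))
    (hw : ∀ μ, ∀ v ∈ H.w μ, P v) (v : L) : P v := by
  have hv : v ∈ ⨆ μ, H.w μ := by rw [H.span]; trivial
  exact Submodule.iSup_induction H.w (motive := P) hv hw h0 hadd

theorem sum_pr (v : L) : ∑ μ ∈ H.Wts, H.pr μ v = v := by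
  induction v using H.w_induction with
  | h0 => simp
  | hadd u v hu hv => simp only [map_add, Finset.sum_add_distrib, hu, hv]
  | hw μ v hv =>
    by_cases h0 : v = 0
    · simp only [h0, _root_.map_zero, _root_.Finset.sum_const_zero]
    · rw [Finset.sum_eq_single μ (fun ν _ hν => H.pr_of_ne hv hν.symm)
        (fun h => (h (H.mem_Wts.mpr (H.isWt_of_mem hv h0))).elim), H.pr_of_mem hv]

theorem pr_eq_zero {μ : ι → ℤ} (h : ¬ H.IsWt μ) (v : L) : H.pr μ v = 0 := H.eq_zero_of_not_isWt h (H.pr_mem μ v)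

theorem eq_zero_of_pr {v : L} (h : ∀ μ, H.IsWt μ → H.pr μ v = 0) : v = 0 := by
  rw [← H.sum_pr v]; exact Finset.sum_eq_zero fun μ hμ => h μ (H.mem_Wts.mp hμ)

theorem pr_pr (μ ν : ι → ℤ) (v : L) : H.pr μ (H.pr ν v) = if ν = μ then H.pr ν v else 0 := by
  split_ifs with h
  · subst h; exact H.pr_of_mem (H.pr_mem _ _)
  · exact H.pr_of_ne (H.pr_mem _ _) h

theorem mem_w_of_pr {μ : ι → ℤ} {v : L} (h : ∀ ν, ν ≠ μ → H.pr ν v = 0) : v ∈ H.w μ := by
  rw [← H.sum_pr v]
  refine Submodule.sum_mem _ fun ν _ => ?_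
  by_cases hν : ν = μ
  · subst hν; exact H.pr_mem _ _
  · rw [h ν hν]; exact Submodule.zero_mem _

/-- two operators which agree on the weight spaces are equal -/
theorem ext_w {L' : Type} [AddCommGroup L'] [Module k L'] {f g : L →ₗ[k] L'}
    (h : ∀ μ, H.IsWt μ → ∀ v ∈ H.w μ, f v = g v) : f = g := by
  ext v
  rw [← H.sum_pr v, map_sum, map_sum]
  exact Finset.sum_congr rfl fun μ hμ => h μ (H.mem_Wts.mp hμ) _ (H.pr_mem μ v)

/-- a homogeneous operator of degree `δ` -/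
def Hom (f : Module.End k L) (δ : ι → ℤ) : Prop := ∀ μ, ∀ v ∈ H.w μ, f v ∈ H.w (μ + δ)

theorem hom_E (x : Bool × Φ) (n : ℕ) : H.Hom (H.E x n) ((n : ℤ) • R.wt x) := H.E_w x n

theorem hom_E1 (x : Bool × Φ) : H.Hom (H.E x 1) (R.wt x) := by
  simpa using H.hom_E x 1

theorem E1_w (x : Bool × Φ) {μ : ι → ℤ} {v : L} (hv : v ∈ H.w μ) : H.E x 1 v ∈ H.w (μ + R.wt x) :=
  H.hom_E1 x μ v hv

variable {H} in
theorem Hom.mul {f g : Module.End k L} {δ δ' : ι → ℤ} (hf : H.Hom f δ) (hg : H.Hom g δ') :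
    H.Hom (f * g) (δ + δ') := fun μ v hv => by
  have := hf _ _ (hg μ v hv)
  rwa [add_assoc, add_comm δ'] at this

variable {H} in
theorem Hom.smul {f : Module.End k L} {δ : ι → ℤ} (hf : H.Hom f δ) (c : k) : H.Hom (c • f) δ :=
  fun μ v hv => Submodule.smul_mem _ c (hf μ v hv)

variable {H} in
theorem Hom.add {f g : Module.End k L} {δ : ι → ℤ} (hf : H.Hom f δ) (hg : H.Hom g δ) : H.Hom (f + g) δ :=
  fun μ v hv => Submodule.add_mem _ (hf μ v hv) (hg μ v hv)

variable {H} in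
theorem Hom.sub {f g : Module.End k L} {δ : ι → ℤ} (hf : H.Hom f δ) (hg : H.Hom g δ) : H.Hom (f - g) δ :=
  fun μ v hv => Submodule.sub_mem _ (hf μ v hv) (hg μ v hv)

variable {H} in
theorem Hom.pr {f : Module.End k L} {δ : ι → ℤ} (hf : H.Hom f δ) (μ : ι → ℤ) (v : L) :
    H.pr (μ + δ) (f v) = f (H.pr μ v) := by
  induction v using H.w_induction with
  | h0 => simp
  | hadd u v hu hv => simp only [map_add, hu, hv]
  | hw ν v hv =>
    by_cases h : ν = μ
    · subst h; rw [H.pr_of_mem hv, H.pr_of_mem (hf _ _ hv)]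
    · rw [H.pr_of_ne hv h, H.pr_of_ne (hf _ _ hv) (fun h' => h (add_right_cancel h')), map_zero]

variable {H} in
theorem Hom.eq_zero {f : Module.End k L} {δ : ι → ℤ} (hf : H.Hom f δ)
    (h : ∀ μ, H.IsWt μ → ¬ H.IsWt (μ + δ)) : f = 0 :=
  H.ext_w fun μ hμ v hv => H.eq_zero_of_not_isWt (h μ hμ) (hf μ v hv)

variable {H} in
theorem Hom.exists_ne {f : Module.End k L} {δ : ι → ℤ} (hf : H.Hom f δ) (h : f ≠ 0) :
    ∃ μ, H.IsWt μ ∧ H.IsWt (μ + δ) ∧ ∃ v ∈ H.w μ, f v ≠ 0 := by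
  by_contra hc
  push Not at hc
  refine h (H.ext_w fun μ hμ v hv => ?_)
  by_contra h0
  exact h0 (hc μ hμ (H.isWt_of_mem (hf μ v hv) h0) v hv)

/-- homogeneous operators of different degrees are independent -/
theorem hom_eq_zero_of_sum {α : Type} (s : Finset α) (f : α → Module.End k L) (δ : α → ι → ℤ)
    (hf : ∀ a ∈ s, H.Hom (f a) (δ a)) (h : ∑ a ∈ s, f a = 0) (δ₀ : ι → ℤ) :
    ∑ a ∈ s.filter (fun a => δ a = δ₀), f a = 0 := by
  refine H.ext_w fun μ _ v hv => ?_
  have h1 := congrArg (fun g : Module.End k L => H.pr (μ + δ₀) (g v)) h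
  simp only [LinearMap.sum_apply, map_sum, LinearMap.zero_apply, map_zero] at h1
  rw [LinearMap.sum_apply, LinearMap.zero_apply, Finset.sum_filter]
  refine Eq.trans (Finset.sum_congr rfl fun a ha => ?_) h1
  split_ifs with h2
  · rw [← h2, H.pr_of_mem (hf a ha μ v hv)]
  · rw [H.pr_of_ne (hf a ha μ v hv) fun h3 => h2 (add_left_cancel h3)]

/-- a graded subspace -/
def Gr (N : Submodule k L) : Prop := ∀ v ∈ N, ∀ μ, H.pr μ v ∈ N

variable {H} in
theorem Hom.gr_ker {f : Module.End k L} {δ : ι → ℤ} (hf : H.Hom f δ) : H.Gr (LinearMap.ker f) := fun v hv μ => by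
  rw [LinearMap.mem_ker] at hv ⊢
  rw [← hf.pr, hv, map_zero]

theorem gr_iInf {α : Sort*} {N : α → Submodule k L} (h : ∀ a, H.Gr (N a)) : H.Gr (⨅ a, N a) := fun v hv μ =>
  (Submodule.mem_iInf _).mpr fun a => h a v ((Submodule.mem_iInf _).mp hv a) μ

variable {H} in
theorem Gr.inf {N N' : Submodule k L} (h : H.Gr N) (h' : H.Gr N') : H.Gr (N ⊓ N') := fun v hv μ =>
  ⟨h v hv.1 μ, h' v hv.2 μ⟩

theorem gr_top : H.Gr ⊤ := fun _ _ _ => trivial

theorem gr_kerL (S : Finset Φ) : H.Gr (H.kerL S) :=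
  H.gr_iInf fun b => H.gr_iInf fun _ => (H.hom_E (true, b) 1).gr_ker

theorem gr_kerG (S : Finset Φ) : H.Gr (H.kerG S) :=
  H.gr_iInf fun b => H.gr_iInf fun _ => H.gr_iInf fun n => H.gr_iInf fun _ => (H.hom_E (true, b) n).gr_ker

theorem mem_kerL {S : Finset Φ} {v : L} : v ∈ H.kerL S ↔ ∀ b ∈ S, H.E (true, b) 1 v = 0 := by
  simp only [kerL, Submodule.mem_iInf, _root_.LinearMap.mem_ker]

theorem mem_kerG {S : Finset Φ} {v : L} : v ∈ H.kerG S ↔ ∀ b ∈ S, ∀ n, 0 < n → H.E (true, b) n v = 0 := by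
  simp only [kerG, Submodule.mem_iInf, _root_.LinearMap.mem_ker]

theorem kerG_le_kerL (S : Finset Φ) : H.kerG S ≤ H.kerL S := fun _ hv =>
  H.mem_kerL.mpr fun b hb => H.mem_kerG.mp hv b hb 1 Nat.one_pos

theorem kerL_anti {S S' : Finset Φ} (h : S ⊆ S') : H.kerL S' ≤ H.kerL S := fun _ hv =>
  H.mem_kerL.mpr fun b hb => H.mem_kerL.mp hv b (h hb)

theorem kerG_anti {S S' : Finset Φ} (h : S ⊆ S') : H.kerG S' ≤ H.kerG S := fun _ hv =>
  H.mem_kerG.mpr fun b hb => H.mem_kerG.mp hv b (h hb)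

theorem cL_mono {S S' : Finset Φ} (h : S ⊆ S') : H.cL S ≤ H.cL S' := by
  have := H.fd
  exact Nat.sub_le_sub_left (Submodule.finrank_mono (H.kerL_anti h)) _

theorem cG_mono {S S' : Finset Φ} (h : S ⊆ S') : H.cG S ≤ H.cG S' := by
  have := H.fd
  exact Nat.sub_le_sub_left (Submodule.finrank_mono (H.kerG_anti h)) _

theorem cL_le_cG (S : Finset Φ) : H.cL S ≤ H.cG S := by
  have := H.fd
  exact Nat.sub_le_sub_left (Submodule.finrank_mono (H.kerG_le_kerL S)) _

theorem cL_le_d (S : Finset Φ) : H.cL S ≤ H.d := Nat.sub_le _ _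

theorem cG_le_d (S : Finset Φ) : H.cG S ≤ H.d := Nat.sub_le _ _

theorem cL_add (S : Finset Φ) : H.cL S + finrank k (H.kerL S) = H.d := by
  have := H.fd
  exact Nat.sub_add_cancel (Submodule.finrank_le _)

theorem cG_add (S : Finset Φ) : H.cG S + finrank k (H.kerG S) = H.d := by
  have := H.fd
  exact Nat.sub_add_cancel (Submodule.finrank_le _)

theorem cG_eq_cL {S : Finset Φ} (h : H.kerL S ≤ H.kerG S) : H.cG S = H.cL S := by
  rw [cG, cL, le_antisymm (H.kerG_le_kerL S) h]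

/-- the dimension of a graded subspace -/
theorem finrank_gr {N : Submodule k L} (hN : H.Gr N) :
    finrank k N = ∑ μ ∈ H.Wts, finrank k ↥(N ⊓ H.w μ) := by
  have := H.fd
  let f : N →ₗ[k] ((μ : H.Wts) → ↥(N ⊓ H.w μ.1)) :=
    LinearMap.pi fun μ => LinearMap.codRestrict _ (H.pr μ.1 ∘ₗ N.subtype) fun v => ⟨hN v.1 v.2 _, H.pr_mem _ _⟩
  have hf : Function.Bijective f := by
    constructor
    · rw [injective_iff_map_eq_zero]
      intro v hv
      refine Subtype.ext (H.eq_zero_of_pr fun μ hμ => ?_)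
      exact congrArg Subtype.val (congrFun hv ⟨μ, H.mem_Wts.mpr hμ⟩)
    · intro g
      refine ⟨⟨∑ μ, (g μ).1, Submodule.sum_mem _ fun μ _ => (g μ).2.1⟩, funext fun μ => Subtype.ext ?_⟩
      show H.pr μ.1 (∑ ν, (g ν).1) = (g μ).1
      rw [map_sum, Finset.sum_eq_single μ (fun ν _ hν => H.pr_of_ne (g ν).2.2 fun h => hν (Subtype.ext h))
        (fun h => (h (Finset.mem_univ _)).elim), H.pr_of_mem (g μ).2.2]
  rw [(LinearEquiv.ofBijective f hf).finrank_eq, Module.finrank_pi_fintype,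
    Finset.sum_coe_sort H.Wts fun μ => finrank k ↥(N ⊓ H.w μ)]

theorem d_eq : H.d = ∑ μ ∈ H.Wts, H.m μ := by
  have := H.finrank_gr H.gr_top
  rw [finrank_top] at this
  rw [d, this]
  exact Finset.sum_congr rfl fun μ _ => by rw [top_inf_eq, m]

theorem finrank_inf_le (N : Submodule k L) (μ : ι → ℤ) : finrank k ↥(N ⊓ H.w μ) ≤ H.m μ := by
  have := H.fd
  exact Submodule.finrank_mono inf_le_right

theorem finrank_inf_lt {N : Submodule k L} {μ : ι → ℤ} (h : ¬ H.w μ ≤ N) : finrank k ↥(N ⊓ H.w μ) < H.m μ := by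
  have := H.fd
  exact Submodule.finrank_lt_finrank_of_lt (lt_of_le_of_ne inf_le_right fun h' => h (inf_eq_right.mp h'))

/-- the codimension of a graded subspace -/
theorem codim_gr {N : Submodule k L} (hN : H.Gr N) :
    H.d - finrank k N = ∑ μ ∈ H.Wts, (H.m μ - finrank k ↥(N ⊓ H.w μ)) := by
  rw [H.finrank_gr hN, d_eq, Finset.sum_tsub_distrib _ fun μ _ => H.finrank_inf_le N μ]

theorem sum_le_codim {N : Submodule k L} (hN : H.Gr N) (A : Finset (ι → ℤ)) (c : (ι → ℤ) → ℕ)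
    (h : ∀ μ ∈ A, c μ + finrank k ↥(N ⊓ H.w μ) ≤ H.m μ) : ∑ μ ∈ A, c μ ≤ H.d - finrank k N := by
  classical
  rw [H.codim_gr hN, ← Finset.sum_filter_add_sum_filter_not A (· ∈ H.Wts)]
  have h1 : ∑ μ ∈ A.filter (fun μ => ¬ μ ∈ H.Wts), c μ = 0 := by
    refine Finset.sum_eq_zero fun μ hμ => ?_
    have h2 := h μ (Finset.mem_filter.mp hμ).1
    have h3 := (Finset.mem_filter.mp hμ).2
    rw [mem_Wts, isWt_iff_m] at h3
    omega
  rw [h1, add_zero]
  refine le_trans (Finset.sum_le_sum fun μ hμ => ?_)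
    (Finset.sum_le_sum_of_subset fun μ hμ => (Finset.mem_filter.mp hμ).2)
  have := h μ (Finset.mem_filter.mp hμ).1
  omega

theorem sum_le_finrank {N : Submodule k L} (hN : H.Gr N) (A : Finset (ι → ℤ)) (c : (ι → ℤ) → ℕ)
    (h : ∀ μ ∈ A, c μ ≤ finrank k ↥(N ⊓ H.w μ)) : ∑ μ ∈ A, c μ ≤ finrank k N := by
  classical
  rw [H.finrank_gr hN, ← Finset.sum_filter_add_sum_filter_not A (· ∈ H.Wts)]
  have h1 : ∑ μ ∈ A.filter (fun μ => ¬ μ ∈ H.Wts), c μ = 0 := by
    refine Finset.sum_eq_zero fun μ hμ => ?_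
    have h2 := h μ (Finset.mem_filter.mp hμ).1
    have h3 := (Finset.mem_filter.mp hμ).2
    have h4 := H.finrank_inf_le N μ
    rw [mem_Wts, isWt_iff_m] at h3
    omega
  rw [h1, add_zero]
  exact le_trans (Finset.sum_le_sum fun μ hμ => h μ (Finset.mem_filter.mp hμ).1)
    (Finset.sum_le_sum_of_subset fun μ hμ => (Finset.mem_filter.mp hμ).2)

/-- **counting**: the weight spaces not contained in `N` -/
theorem card_le_codim {N : Submodule k L} (hN : H.Gr N) (A : Finset (ι → ℤ)) (h : ∀ μ ∈ A, ¬ H.w μ ≤ N) :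
    A.card ≤ H.d - finrank k N := by
  rw [Finset.card_eq_sum_ones]
  exact H.sum_le_codim hN A _ fun μ hμ => by have := H.finrank_inf_lt (h μ hμ); omega

/-- **counting with multiplicities**: the weight spaces meeting `N` trivially -/
theorem sum_m_le_codim {N : Submodule k L} (hN : H.Gr N) (A : Finset (ι → ℤ)) (h : ∀ μ ∈ A, N ⊓ H.w μ = ⊥) :
    ∑ μ ∈ A, H.m μ ≤ H.d - finrank k N :=
  H.sum_le_codim hN A _ fun μ hμ => by rw [h μ hμ, finrank_bot, add_zero]

/-- **upper bound**: the other weight spaces are contained in `N` -/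
theorem codim_le_sum {N : Submodule k L} (hN : H.Gr N) (A : Finset (ι → ℤ)) (c : (ι → ℤ) → ℕ)
    (h : ∀ μ, H.IsWt μ → μ ∉ A → H.w μ ≤ N) (hc : ∀ μ ∈ A, H.m μ ≤ c μ + finrank k ↥(N ⊓ H.w μ)) :
    H.d - finrank k N ≤ ∑ μ ∈ A, c μ := by
  classical
  rw [H.codim_gr hN, ← Finset.sum_filter_add_sum_filter_not H.Wts (· ∈ A)]
  have h1 : ∑ μ ∈ H.Wts.filter (fun μ => ¬ μ ∈ A), (H.m μ - finrank k ↥(N ⊓ H.w μ)) = 0 := by
    refine Finset.sum_eq_zero fun μ hμ => ?_
    rw [inf_eq_right.mpr (h μ (H.mem_Wts.mp (Finset.mem_filter.mp hμ).1) (Finset.mem_filter.mp hμ).2), m,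
      Nat.sub_self]
  rw [h1, add_zero]
  refine le_trans (Finset.sum_le_sum fun μ hμ => ?_)
    (Finset.sum_le_sum_of_subset fun μ hμ => (Finset.mem_filter.mp hμ).2)
  have := hc μ (Finset.mem_filter.mp hμ).2
  omega

theorem sum_m_le_d (A : Finset (ι → ℤ)) : ∑ μ ∈ A, H.m μ ≤ H.d := by
  have := H.sum_le_finrank H.gr_top A H.m fun μ _ => by rw [top_inf_eq, m]
  rwa [finrank_top] at this

theorem card_le_d (A : Finset (ι → ℤ)) (h : ∀ μ ∈ A, H.IsWt μ) : A.card ≤ H.d := by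
  rw [Finset.card_eq_sum_ones]
  exact le_trans (Finset.sum_le_sum fun μ hμ => H.isWt_iff_m.mp (h μ hμ)) (H.sum_m_le_d A)

theorem d_le_sum (A : Finset (ι → ℤ)) (h : ∀ μ, H.IsWt μ → μ ∈ A) : H.d ≤ ∑ μ ∈ A, H.m μ := by
  rw [d_eq]; exact Finset.sum_le_sum_of_subset fun μ hμ => h μ (H.mem_Wts.mp hμ)

theorem card_le_cL (S : Finset Φ) (A : Finset (ι → ℤ))
    (h : ∀ μ ∈ A, ∃ b ∈ S, ∃ v ∈ H.w μ, H.E (true, b) 1 v ≠ 0) : A.card ≤ H.cL S :=
  H.card_le_codim (H.gr_kerL S) A fun μ hμ hle => by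
    obtain ⟨b, hb, v, hv, h0⟩ := h μ hμ
    exact h0 (H.mem_kerL.mp (hle hv) b hb)

theorem sum_m_le_cL (S : Finset Φ) (A : Finset (ι → ℤ))
    (h : ∀ μ ∈ A, ∀ v ∈ H.w μ, (∀ b ∈ S, H.E (true, b) 1 v = 0) → v = 0) : ∑ μ ∈ A, H.m μ ≤ H.cL S :=
  H.sum_m_le_codim (H.gr_kerL S) A fun μ hμ =>
    (Submodule.eq_bot_iff _).mpr fun v hv => h μ hμ v hv.2 (H.mem_kerL.mp hv.1)

theorem cG_le_sum (S : Finset Φ) (A : Finset (ι → ℤ))
    (h : ∀ μ, H.IsWt μ → μ ∉ A → ∀ b ∈ S, ∀ n : ℕ, 0 < n → ¬ H.IsWt (μ + (n : ℤ) • R.wt (true, b))) :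
    H.cG S ≤ ∑ μ ∈ A, H.m μ :=
  H.codim_le_sum (H.gr_kerG S) A H.m (fun μ hμ hA v hv => H.mem_kerG.mpr fun b hb n hn =>
    H.eq_zero_of_not_isWt (h μ hμ hA b hb n hn) (H.E_w _ n μ v hv)) fun μ _ => Nat.le_add_right _ _

end HW

end Cfsg.Agent.TwoF.DC
end

-- part: TwoF/DC/HW/Ext
section
/-!
# TwoF, defining characteristic, TH1b (3): Weyl group action, depth, extremal weights, the chain condition (helper7)
-/

set_option autoImplicit false
set_option linter.unusedSectionVars false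
set_option linter.unusedVariables false

namespace Cfsg.Agent.TwoF.DC

open Module

namespace RC

variable {ι Φ : Type} [Fintype ι] [DecidableEq ι] [DecidableEq Φ] (R : RC ι Φ)

/-- a chain of nonzero structure constants from the root `a` down to the simple root `j` -/
inductive Chain (p : ℕ) (j : ι) : Φ → Prop
  | base : Chain p j (R.zi j)
  | step (a β a' : Φ) : R.cf a = R.cf β + R.cf a' → R.NZ p (true, β) (false, a) → Chain p j a' → Chain p j a

/-- the chain condition for the nodes in `J` -/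
def Ch (p : ℕ) (J : ι → Prop) : Prop := ∀ a j, J j → 0 < R.co a j → R.Chain p j a

/-- the chain condition, one step at a time -/
theorem ch_of_step {p : ℕ} {J : ι → Prop}
    (h : ∀ a j, J j → 0 < R.co a j → a = R.zi j ∨
      ∃ β a', R.cf a = R.cf β + R.cf a' ∧ R.NZ p (true, β) (false, a) ∧ 0 < R.co a' j) : R.Ch p J := by
  intro a j hj
  induction hn : ∑ i, R.cf a i using Nat.strong_induction_on generalizing a with
  | _ n ih =>
    intro ha
    rcases h a j hj ha with rfl | ⟨β, a', h1, h2, h3⟩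
    · exact Chain.base
    · refine Chain.step a β a' h1 h2 (ih _ ?_ a' rfl h3)
      obtain ⟨i, hi⟩ := R.exists_cf_pos β
      have h4 : 0 < ∑ i, R.cf β i := Finset.sum_pos' (fun _ _ => Nat.zero_le _) ⟨i, Finset.mem_univ _, hi⟩
      rw [← hn, h1]
      simp only [Pi.add_apply, Finset.sum_add_distrib]
      omega

theorem nz_of_zero {p : ℕ} (hp : p ≠ 1) {x y : Bool × Φ} (h : R.IsRt (R.vec x + R.vec y))
    (h' : ¬ R.IsRt (R.vec y - R.vec x)) : R.NZ p x y :=
  ⟨h, 0, fun j hj => by rw [Nat.le_zero.mp hj]; simpa using R.isRt_vec y, by simpa using h',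
    by simpa using hp⟩

/-- simply laced -/
def Lace1 : Prop := ∀ x y, x ≠ y → R.pair (R.wt x) y ≤ 1

variable {R} in
theorem Lace1.not_isRt_sub (hR : R.Lace1) {x y : Bool × Φ} (h : R.IsRt (R.vec x + R.vec y)) :
    ¬ R.IsRt (R.vec y - R.vec x) := by
  rintro ⟨z', hz'⟩
  obtain ⟨z, hz⟩ := h
  have h1 : z ≠ y := fun e => R.vec_ne_zero x (by rw [e] at hz; exact right_eq_add.mp hz)
  have h2 : z' ≠ y := fun e => R.vec_ne_zero x (by rw [e] at hz'; exact sub_eq_self.mp hz'.symm)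
  have h3 := hR z y h1
  have h4 := hR z' y h2
  have h5 := R.pair_wt_self y
  rw [wt, hz, toWt_add, pair_add] at h3
  rw [wt, hz', toWt_sub, pair_sub] at h4
  rw [wt] at h5
  omega

variable {R} in
theorem Lace1.nz_iff (hR : R.Lace1) {p : ℕ} (hp : p ≠ 1) (x y : Bool × Φ) :
    R.NZ p x y ↔ R.IsRt (R.vec x + R.vec y) :=
  ⟨fun h => h.1, fun h => R.nz_of_zero hp h (hR.not_isRt_sub h)⟩

theorem isRt_of_cf {a β a' : Φ} (h : R.cf a = R.cf β + R.cf a') :
    R.IsRt (R.vec (true, β) + R.vec (false, a)) :=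
  ⟨(false, a'), funext fun j => by simp [vec, h]⟩

theorem vec_of_cf {a β a' : Φ} (h : R.cf a = R.cf β + R.cf a') :
    R.vec (true, a) = R.vec (true, β) + R.vec (true, a') := funext fun j => by simp [vec, h]

theorem cf_of_vec {a β a' : Φ} (h : R.vec (true, a) = R.vec (true, β) + R.vec (true, a')) :
    R.cf a = R.cf β + R.cf a' := funext fun j => by
  have := congrFun h j
  simp only [vec_true, Pi.add_apply] at this ⊢
  omega

variable {R} in
theorem Lace1.ch (hR : R.Lace1) {p : ℕ} (hp : p ≠ 1) (J : ι → Prop) : R.Ch p J := by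
  refine R.ch_of_step fun a j _ hj => ?_
  by_cases ha : ∃ i, a = R.zi i
  · obtain ⟨i, rfl⟩ := ha
    left
    rw [R.co_zi] at hj
    by_cases h : j = i
    · rw [h]
    · simp [h] at hj
  · have ha' : ∀ i, a ≠ R.zi i := fun i hi => ha ⟨i, hi⟩
    obtain ⟨i, hi⟩ := R.desc a ha'
    have h1 := hR (true, a) (true, R.zi i) fun e => ha' i (congrArg Prod.snd e)
    rw [pair_zi] at h1
    have h2 : ∑ l, R.C i l * R.cf a l = 1 := by
      have : R.wt (true, a) i = ∑ l, R.C i l * R.cf a l := by simp only [wt, toWt, vec_true]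
      omega
    have h3 : R.cf a = R.cf (R.zi i) + R.cf (R.s i a) := by
      funext m
      have h4 := R.cf_s i a (ha' i) m
      rw [h2] at h4
      rw [Pi.add_apply, R.cf_zi]
      by_cases hm : m = i <;> simp [hm] at h4 ⊢ <;> omega
    right
    by_cases hji : j = i
    · refine ⟨R.s i a, R.zi i, by rw [h3, add_comm], ?_, by rw [R.co_zi, hji]; simp⟩
      exact (hR.nz_iff hp _ _).mpr (R.isRt_of_cf (a' := R.zi i) (by rw [h3, add_comm]))
    · refine ⟨R.zi i, R.s i a, h3, (hR.nz_iff hp _ _).mpr (R.isRt_of_cf h3), ?_⟩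
      have h4 := R.co_s i a (ha' i) j
      simp only [hji, if_false] at h4
      omega

/-- the chain condition if no structure constant vanishes -/
theorem ch_of_nz {p : ℕ} (hnz : ∀ x y, R.IsRt (R.vec x + R.vec y) → R.NZ p x y)
    (hsup : ∀ b j, 0 < R.co b j ↔ 0 < R.cf b j)
    (hstr : ∀ a, (∀ i, a ≠ R.zi i) → ∃ β a', R.cf a = R.cf β + R.cf a') (J : ι → Prop) : R.Ch p J := by
  refine R.ch_of_step fun a j _ hj => ?_
  by_cases ha : ∃ i, a = R.zi i
  · obtain ⟨i, rfl⟩ := ha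
    left
    rw [R.co_zi] at hj
    by_cases h : j = i
    · rw [h]
    · simp [h] at hj
  · obtain ⟨β, a', h⟩ := hstr a fun i hi => ha ⟨i, hi⟩
    right
    rw [hsup, h, Pi.add_apply] at hj
    by_cases h1 : 0 < R.cf a' j
    · exact ⟨β, a', h, hnz _ _ (R.isRt_of_cf h), (hsup _ _).mpr h1⟩
    · have h' : R.cf a = R.cf a' + R.cf β := by rw [h, add_comm]
      exact ⟨a', β, h', hnz _ _ (R.isRt_of_cf h'), (hsup _ _).mpr (by omega)⟩

theorem C_nonpos {i j : ι} (h : i ≠ j) : R.C i j ≤ 0 := by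
  have h1 := R.cf_s i (R.zi j) (fun e => h (R.zi_inj e).symm) i
  rw [R.cf_zi] at h1
  simp only [h, Pi.single_apply, _root_.ne_eq, _root_.not_false_eq_true, _root_.Pi.single_eq_of_ne, _root_.CharP.cast_eq_zero, ↓ _root_.reduceIte, _root_.Nat.cast_ite, _root_.Nat.cast_one, _root_.mul_ite, _root_.mul_one, _root_.MulZeroClass.mul_zero, _root_.Finset.sum_ite_eq', _root_.Finset.mem_univ, _root_.zero_sub] at h1
  omega

/-- the Dynkin diagram is connected -/
def Conn : Prop := ∀ i j, Relation.ReflTransGen (fun a b => R.C a b ≠ 0) i j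

variable {R} in
theorem Conn.exists_co_pos (hR : R.Conn) (x : Bool × Φ) (j : ι) : ∃ l a, R.srl l x = (true, a) ∧ 0 < R.co a j := by
  obtain ⟨l, i, rfl⟩ := R.exists_srl_zi x
  induction hR i j with
  | refl => exact ⟨l.reverse, R.zi i, R.srl_rev_srl _ _, by rw [R.co_zi]; simp⟩
  | @tail j j' _ hC ih =>
    obtain ⟨l', a, h1, h2⟩ := ih
    by_cases h3 : 0 < R.co a j'
    · exact ⟨l', a, h1, h3⟩
    · have h4 : R.co a j' = 0 := by omega
      have h5 : a ≠ R.zi j' := fun e => by rw [e, R.co_zi] at h4; simp at h4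
      have h6 : j ≠ j' := fun e => h3 (e ▸ h2)
      refine ⟨j' :: l', R.s j' a, by rw [srl_cons, h1, sr_of_ne _ _ _ h5], ?_⟩
      have h7 := R.co_s j' a h5 j'
      have h8 : ∑ m, (R.co a m : ℤ) * R.C m j' < 0 := by
        rw [← Finset.add_sum_erase _ _ (Finset.mem_univ j)]
        have h9 : ∑ m ∈ Finset.univ.erase j, (R.co a m : ℤ) * R.C m j' ≤ 0 := by
          refine Finset.sum_nonpos fun m _ => ?_
          by_cases hm : m = j'
          · rw [hm, h4]; simp
          · exact mul_nonpos_of_nonneg_of_nonpos (by positivity) (R.C_nonpos hm)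
        have h10 : (R.co a j : ℤ) * R.C j j' < 0 :=
          mul_neg_of_pos_of_neg (by exact_mod_cast h2) (lt_of_le_of_ne (R.C_nonpos h6) hC)
        omega
      simp only [if_true] at h7
      omega

end RC

namespace HW

variable {ι Φ : Type} [Fintype ι] [DecidableEq ι] [DecidableEq Φ] {R : RC ι Φ} {p : ℕ} {k L : Type} [Field k]
  [AddCommGroup L] [Module k L] (H : HW R p k L)

/-! ### the Weyl group -/

/-- a word acting on the module -/
def nnl (l : List ι) : L ≃ₗ[k] L := l.foldr (fun i e => e.trans (H.nn i)) (LinearEquiv.refl k L)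

theorem nnl_nil (v : L) : H.nnl [] v = v := rfl

theorem nnl_cons (i : ι) (l : List ι) (v : L) : H.nnl (i :: l) v = H.nn i (H.nnl l v) := rfl

theorem nnl_w (l : List ι) {μ : ι → ℤ} {v : L} (hv : v ∈ H.w μ) : H.nnl l v ∈ H.w (R.swl l μ) := by
  induction l with
  | nil => exact hv
  | cons i l ih => exact H.nn_w i _ _ ih

theorem nnl_E (l : List ι) (x : Bool × Φ) :
    ∃ ε : kˣ, ∀ n v, H.nnl l (H.E x n v) = (ε : k) ^ n • H.E (R.srl l x) n (H.nnl l v) := by
  induction l with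
  | nil => exact ⟨1, fun n v => by simp [nnl_nil, RC.srl_nil]⟩
  | cons i l ih =>
    obtain ⟨ε, h⟩ := ih
    obtain ⟨ε', h'⟩ := H.nn_E i (R.srl l x)
    refine ⟨ε * ε', fun n v => ?_⟩
    rw [nnl_cons, h, map_smul, h', smul_smul, nnl_cons, RC.srl_cons, Units.val_mul, mul_pow]

theorem E_nnl_eq_zero (l : List ι) (x : Bool × Φ) (n : ℕ) (v : L) :
    H.E (R.srl l x) n (H.nnl l v) = 0 ↔ H.E x n v = 0 := by
  obtain ⟨ε, h⟩ := H.nnl_E l x
  rw [← (H.nnl l).map_eq_zero_iff (x := H.E x n v), h, smul_eq_zero, or_iff_right (pow_ne_zero _ ε.ne_zero)]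

theorem m_le_swl (l : List ι) (μ : ι → ℤ) : H.m μ ≤ H.m (R.swl l μ) := by
  have := H.fd
  rw [m, ← LinearEquiv.finrank_map_eq (H.nnl l)]
  exact Submodule.finrank_mono (by rintro _ ⟨v, hv, rfl⟩; exact H.nnl_w l hv)

theorem m_swl (l : List ι) (μ : ι → ℤ) : H.m (R.swl l μ) = H.m μ :=
  le_antisymm (by have := H.m_le_swl l.reverse (R.swl l μ); rwa [RC.swl_rev_swl] at this) (H.m_le_swl l μ)

theorem m_rf (x : Bool × Φ) (μ : ι → ℤ) : H.m (R.rf x μ) = H.m μ := by
  obtain ⟨l, hl⟩ := R.exists_rf_eq x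
  rw [hl, m_swl]

theorem isWt_swl (l : List ι) (μ : ι → ℤ) : H.IsWt (R.swl l μ) ↔ H.IsWt μ := by
  rw [isWt_iff_m, isWt_iff_m, m_swl]

theorem isWt_sw (i : ι) (μ : ι → ℤ) : H.IsWt (R.sw i μ) ↔ H.IsWt μ := H.isWt_swl [i] μ

theorem isWt_rf (x : Bool × Φ) (μ : ι → ℤ) : H.IsWt (R.rf x μ) ↔ H.IsWt μ := by
  rw [isWt_iff_m, isWt_iff_m, m_rf]

theorem map_nnl (l : List ι) (μ : ι → ℤ) : (H.w μ).map (H.nnl l).toLinearMap = H.w (R.swl l μ) := by
  have := H.fd
  refine Submodule.eq_of_le_of_finrank_eq (by rintro _ ⟨v, hv, rfl⟩; exact H.nnl_w l hv) ?_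
  rw [LinearEquiv.finrank_map_eq]
  exact (H.m_swl l μ).symm

theorem exists_nnl (l : List ι) {μ : ι → ℤ} {v : L} (hv : v ∈ H.w (R.swl l μ)) : ∃ u ∈ H.w μ, H.nnl l u = v := by
  rw [← map_nnl] at hv; exact hv

/-! ### depth -/

open Classical in
/-- the depth of a weight: `μ = λ - ∑ dep μ j • α_j` -/
noncomputable def dep (μ : ι → ℤ) : ι → ℤ := if h : ∃ c, μ = H.lz - R.toWt c then h.choose else 0

theorem dep_eq {μ c : ι → ℤ} (h : μ = H.lz - R.toWt c) : H.dep μ = c := by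
  have h1 : ∃ c, μ = H.lz - R.toWt c := ⟨c, h⟩
  rw [dep, dif_pos h1]
  exact R.toWt_inj (sub_right_injective (h1.choose_spec.symm.trans h))

theorem dep_spec {μ : ι → ℤ} (h : H.IsWt μ) : μ = H.lz - R.toWt (H.dep μ) := by
  obtain ⟨c, hc⟩ := H.le_top μ h
  rw [H.dep_eq hc]; exact hc

theorem dep_nonneg {μ : ι → ℤ} (h : H.IsWt μ) (j : ι) : 0 ≤ H.dep μ j := by
  obtain ⟨c, hc⟩ := H.le_top μ h
  rw [H.dep_eq hc]; exact Int.natCast_nonneg _

theorem dep_lz : H.dep H.lz = 0 := H.dep_eq (by rw [R.toWt_zero, sub_zero])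

theorem dep_add_toWt {μ : ι → ℤ} (h : H.IsWt μ) (c : ι → ℤ) : H.dep (μ + R.toWt c) = H.dep μ - c :=
  H.dep_eq (by rw [R.toWt_sub, ← sub_add, ← H.dep_spec h])

theorem dep_add {μ : ι → ℤ} (h : H.IsWt μ) (n : ℤ) (x : Bool × Φ) :
    H.dep (μ + n • R.wt x) = H.dep μ - n • R.vec x := by
  rw [RC.wt, ← R.toWt_smul, H.dep_add_toWt h]

theorem dep_add_wt {μ : ι → ℤ} (h : H.IsWt μ) (x : Bool × Φ) : H.dep (μ + R.wt x) = H.dep μ - R.vec x :=
  H.dep_add_toWt h _

/-- induction on the weights, downwards from the highest weight -/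
theorem dep_induction {P : (ι → ℤ) → Prop}
    (h : ∀ μ, H.IsWt μ → (∀ ν, H.IsWt ν → ∑ j, H.dep ν j < ∑ j, H.dep μ j → P ν) → P μ) (μ : ι → ℤ)
    (hμ : H.IsWt μ) : P μ := by
  induction hn : (∑ j, H.dep μ j).toNat using Nat.strong_induction_on generalizing μ with
  | _ n ih =>
    refine h μ hμ fun ν hν hlt => ih _ ?_ ν hν rfl
    have : 0 ≤ ∑ j, H.dep ν j := Finset.sum_nonneg fun j _ => H.dep_nonneg hν j
    omega

theorem sum_dep_lt {μ : ι → ℤ} (h : H.IsWt μ) (b : Φ) {n : ℤ} (hn : 0 < n) :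
    ∑ j, H.dep (μ + n • R.wt (true, b)) j < ∑ j, H.dep μ j := by
  rw [H.dep_add h]
  obtain ⟨i, hi⟩ := R.exists_cf_pos b
  refine Finset.sum_lt_sum (fun j _ => ?_) ⟨i, Finset.mem_univ _, ?_⟩
  · simp only [Pi.sub_apply, Pi.smul_apply, smul_eq_mul, RC.vec_true]
    have : 0 ≤ n * R.cf b j := by positivity
    omega
  · simp only [Pi.sub_apply, Pi.smul_apply, smul_eq_mul, RC.vec_true]
    have : 0 < n * R.cf b i := by positivity
    omega

theorem not_isWt_of_dep {μ : ι → ℤ} (h : H.IsWt μ) {n : ℤ} {x : Bool × Φ} {j : ι} (hj : H.dep μ j < n * R.vec x j) :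
    ¬ H.IsWt (μ + n • R.wt x) := fun h' => by
  have h1 := H.dep_nonneg h' j
  rw [H.dep_add h] at h1
  simp only [Pi.sub_apply, Pi.smul_apply, smul_eq_mul] at h1
  omega

theorem not_isWt_lz_add (b : Φ) {n : ℤ} (hn : 0 < n) : ¬ H.IsWt (H.lz + n • R.wt (true, b)) := by
  obtain ⟨j, hj⟩ := R.exists_cf_pos b
  refine H.not_isWt_of_dep H.isWt_lz (j := j) ?_
  rw [dep_lz, RC.vec_true, Pi.zero_apply]
  positivity

theorem E_top {v : L} (hv : v ∈ H.w H.lz) (b : Φ) {n : ℕ} (hn : 0 < n) : H.E (true, b) n v = 0 :=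
  H.eq_zero_of_not_isWt (H.not_isWt_lz_add b (by exact_mod_cast hn)) (H.E_w _ n _ v hv)

theorem top_le_kerG (S : Finset Φ) : H.w H.lz ≤ H.kerG S := fun v hv => H.mem_kerG.mpr fun b _ n hn => H.E_top hv b hn

theorem cG_lt_d (S : Finset Φ) : H.cG S < H.d := by
  have := H.fd
  have h1 := Submodule.finrank_mono (H.top_le_kerG S)
  have h2 := H.cG_add S
  have h3 := H.m_lz
  rw [m] at h3
  omega

theorem cL_lt_d (S : Finset Φ) : H.cL S < H.d := lt_of_le_of_lt (H.cL_le_cG S) (H.cG_lt_d S)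

/-- every weight is conjugate to a dominant weight -/
theorem exists_dom (μ : ι → ℤ) (hμ : H.IsWt μ) : ∃ l, Dom (R.swl l μ) := by
  refine H.dep_induction (P := fun μ => ∃ l, Dom (R.swl l μ)) (fun μ hμ ih => ?_) μ hμ
  by_cases hd : Dom μ
  · exact ⟨[], hd⟩
  · obtain ⟨i, hi⟩ : ∃ i, μ i < 0 := by
      by_contra hc
      push Not at hc
      exact hd hc
    obtain ⟨l, hl⟩ := ih (R.sw i μ) ((H.isWt_sw i μ).mpr hμ) (by
      rw [RC.sw, sub_eq_add_neg, ← neg_smul]; exact H.sum_dep_lt hμ _ (by omega))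
    exact ⟨l ++ [i], by rwa [RC.swl_append]⟩

theorem pair_le_of_dom_co {μ : ι → ℤ} (h : H.IsWt μ) {x : Bool × Φ}
    (hx : ∀ j, 0 ≤ R.pair (R.wt (true, R.zi j)) x) : R.pair μ x ≤ R.pair H.lz x := by
  rw [H.dep_spec h, R.pair_sub, R.pair_toWt]
  have : 0 ≤ ∑ j, H.dep μ j * R.pair (R.wt (true, R.zi j)) x :=
    Finset.sum_nonneg fun j _ => mul_nonneg (H.dep_nonneg h j) (hx j)
  omega

theorem exists_pair_le [Fintype Φ] (x : Bool × Φ) : ∃ l b, R.srl l x = (true, b) ∧
    (∀ j, 0 ≤ R.pair (R.wt (true, R.zi j)) (true, b)) ∧ ∀ μ, H.IsWt μ → R.pair μ x ≤ R.pair H.lz (true, b) := by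
  obtain ⟨l, b, h1, h2⟩ := R.exists_dom_co x
  refine ⟨l, b, h1, h2, fun μ hμ => ?_⟩
  rw [← R.pair_swl_srl l, h1]
  exact H.pair_le_of_dom_co ((H.isWt_swl l μ).mpr hμ) h2

theorem pair_le [Fintype Φ] {M : ℤ} (hM : ∀ b, R.pair H.lz (true, b) ≤ M) {μ : ι → ℤ} (h : H.IsWt μ) (x : Bool × Φ) :
    R.pair μ x ≤ M := by
  obtain ⟨l, b, -, -, h1⟩ := H.exists_pair_le x
  exact le_trans (h1 μ h) (hM b)

theorem le_of_isWt_add {x : Bool × Φ} {M : ℤ} (hM : ∀ μ, H.IsWt μ → R.pair μ x ≤ M) {μ : ι → ℤ} {n : ℤ}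
    (h : H.IsWt μ) (h' : H.IsWt (μ + n • R.wt x)) : -M ≤ R.pair μ x ∧ R.pair μ x + 2 * n ≤ M := by
  have h1 := hM _ h'
  have h2 := hM _ ((H.isWt_rf x μ).mpr h)
  rw [R.pair_add, R.pair_smul, R.pair_wt_self] at h1
  rw [R.pair_rf] at h2
  omega

theorem E_eq_zero {x : Bool × Φ} {M : ℤ} (hM : ∀ μ, H.IsWt μ → R.pair μ x ≤ M) {n : ℕ} (hn : M < n) : H.E x n = 0 :=
  (H.hom_E x n).eq_zero fun μ hμ h' => by have := H.le_of_isWt_add hM hμ h'; omega

/-- the weights lie above the lowest weight -/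
theorem dep_le_low [Fintype Φ] {l : List ι} (hl : Dom (-R.swl l H.lz)) {μ : ι → ℤ} (h : H.IsWt μ) (j : ι) :
    H.dep μ j ≤ H.dep (R.swl l H.lz) j := by
  obtain ⟨l₀, h0⟩ := R.exists_w0
  have h1 : R.swl l₀ H.lz = R.swl l H.lz := by
    have h2 := R.swl_eq_of_dom hl (l₀ ++ l.reverse) (by
      rw [RC.swl_append, RC.swl_neg, RC.swl_rev_swl, RC.swl_neg]; exact R.dom_neg_w0 h0 H.lz_dom)
    rw [RC.swl_append, RC.swl_neg, RC.swl_rev_swl, RC.swl_neg] at h2
    exact neg_injective h2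
  obtain ⟨c, hc⟩ := H.le_top _ ((H.isWt_swl l₀.reverse μ).mpr h)
  have h3 := congrArg (R.swl l₀) hc
  rw [RC.swl_swl_rev, RC.swl_sub, ← RC.toWt_svl, sub_eq_add_neg, ← RC.toWt_neg] at h3
  have h4 : μ = R.swl l H.lz + R.toWt (-R.svl l₀ fun j => c j) := h1 ▸ h3
  rw [h4, H.dep_add_toWt ((H.isWt_swl l _).mpr H.isWt_lz)]
  have := R.svl_w0_nonpos h0 c j
  simp only [Pi.sub_apply, Pi.neg_apply]
  omega

theorem exists_low [Fintype Φ] : ∃ l, Dom (-R.swl l H.lz) := by
  obtain ⟨l₀, h0⟩ := R.exists_w0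
  exact ⟨l₀, R.dom_neg_w0 h0 H.lz_dom⟩

/-! ### extremal weights -/

/-- an extremal weight -/
def Ext (ν : ι → ℤ) : Prop := ∃ l, ν = R.swl l H.lz

theorem ext_lz : H.Ext H.lz := ⟨[], rfl⟩

variable {H} in
theorem Ext.swl {ν : ι → ℤ} (h : H.Ext ν) (l : List ι) : H.Ext (R.swl l ν) := by
  obtain ⟨l', rfl⟩ := h; exact ⟨l ++ l', (R.swl_append _ _ _).symm⟩

variable {H} in
theorem Ext.sw {ν : ι → ℤ} (h : H.Ext ν) (i : ι) : H.Ext (R.sw i ν) := h.swl [i]

variable {H} in
theorem Ext.rf {ν : ι → ℤ} (h : H.Ext ν) (x : Bool × Φ) : H.Ext (R.rf x ν) := by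
  obtain ⟨l, hl⟩ := R.exists_rf_eq x
  rw [hl]; exact h.swl l

variable {H} in
theorem Ext.m_eq {ν : ι → ℤ} (h : H.Ext ν) : H.m ν = 1 := by
  obtain ⟨l, rfl⟩ := h; rw [m_swl, m_lz]

variable {H} in
theorem Ext.isWt {ν : ι → ℤ} (h : H.Ext ν) : H.IsWt ν := H.isWt_iff_m.mpr (by rw [h.m_eq]; exact Nat.one_pos)

variable {H} in
/-- an extremal weight is the end of every root string through it -/
theorem Ext.not_isWt {ν : ι → ℤ} (h : H.Ext ν) {x : Bool × Φ} (hx : 0 ≤ R.pair ν x) {n : ℤ} (hn : 0 < n) :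
    ¬ H.IsWt (ν + n • R.wt x) := by
  obtain ⟨l, rfl⟩ := h
  rw [← R.srl_srl_rev l x, R.wt_srl, ← R.swl_smul, ← R.swl_add, isWt_swl]
  rw [R.pair_swl] at hx
  generalize R.srl l.reverse x = y at hx
  rcases y with ⟨_ | _, b⟩
  · intro h'
    have h1 := R.pair_false_nonpos H.lz_dom b
    have h2 := (H.isWt_rf (false, b) _).mpr h'
    rw [RC.rf, R.pair_add, R.pair_smul, R.pair_wt_self, le_antisymm h1 hx, R.wt_false] at h2
    refine H.not_isWt_lz_add b hn ?_
    convert h2 using 1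
    module
  · exact H.not_isWt_lz_add b hn

variable {H} in
theorem Ext.le_of_isWt {ν : ι → ℤ} (h : H.Ext ν) {x : Bool × Φ} {n : ℤ} (hn : 0 < n) (h' : H.IsWt (ν + n • R.wt x)) :
    n ≤ -R.pair ν x := by
  have h0 : R.pair ν x < 0 := by
    by_contra hc; exact h.not_isWt (by omega) hn h'
  by_contra hc
  refine (h.rf x).not_isWt (x := x) (by rw [R.pair_rf]; omega) (n := n + R.pair ν x) (by omega) ?_
  convert h' using 1
  rw [RC.rf]; module

variable {H} in
theorem Ext.E_eq_zero {ν : ι → ℤ} (h : H.Ext ν) {x : Bool × Φ} (hx : 0 ≤ R.pair ν x) {n : ℕ} (hn : 0 < n) {v : L}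
    (hv : v ∈ H.w ν) : H.E x n v = 0 :=
  H.eq_zero_of_not_isWt (h.not_isWt hx (by exact_mod_cast hn)) (H.E_w x n _ v hv)

/-- `λ` = a dominant weight `μ` + a dominant weight: the orbit of `μ` embeds in the extremal weights -/
theorem swl_inj_of_le {μ : ι → ℤ} (hμ : Dom μ) (hle : ∀ i, μ i ≤ H.lam i) {l l' : List ι}
    (h : R.swl l H.lz = R.swl l' H.lz) : R.swl l μ = R.swl l' μ :=
  R.swl_eq_of_add hμ (ν := H.lz - μ) (fun i => by have := hle i; simp only [Pi.sub_apply, lz_apply]; omega)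
    (by rwa [add_sub_cancel])

theorem pair_swl_le {μ : ι → ℤ} (hμ : Dom μ) (hle : ∀ i, μ i ≤ H.lam i) {l : List ι} {x : Bool × Φ}
    (h : R.pair (R.swl l μ) x < 0) : R.pair (R.swl l H.lz) x ≤ R.pair (R.swl l μ) x := by
  have := R.pair_swl_add_le hμ (ν := H.lz - μ)
    (fun i => by have := hle i; simp only [Pi.sub_apply, lz_apply]; omega) h
  rwa [add_sub_cancel] at this

theorem single_le {j : ι} (hj : H.lam j ≠ 0) (i : ι) : (Pi.single j 1 : ι → ℤ) i ≤ H.lam i := by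
  by_cases h : i = j
  · subst h; simp; omega
  · simp [h]

theorem dom_single (j : ι) : Dom (Pi.single j 1 : ι → ℤ) := fun i => by
  by_cases h : i = j <;> simp [h]

/-! ### divided powers and brackets -/

theorem ef' (x : Bool × Φ) : ∃ ε : kˣ, ∀ μ, ∀ v ∈ H.w μ,
    H.E x 1 (H.E (ng x) 1 v) - H.E (ng x) 1 (H.E x 1 v) = ((ε : k) * (R.pair μ x : k)) • v := by
  rcases x with ⟨_ | _, b⟩
  · obtain ⟨ε, h⟩ := H.ef b
    refine ⟨ε, fun μ v hv => ?_⟩
    rw [ng_false, ← neg_sub, h μ v hv, R.pair_false, Int.cast_neg, mul_neg, neg_smul]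
  · exact H.ef b

theorem E_mul_E1 (x : Bool × Φ) (n : ℕ) : H.E x n * H.E x 1 = ((n + 1 : ℕ) : k) • H.E x (n + 1) := by
  rw [H.E_mul, Nat.choose_succ_self_right n]

variable [CharP k p]

theorem E_of_E1 {x : Bool × Φ} {v : L} (h : H.E x 1 v = 0) {n : ℕ} (hn : ¬ p ∣ n) : H.E x n v = 0 := by
  obtain ⟨n, rfl⟩ : ∃ m, n = m + 1 := ⟨n - 1, by rcases n with _ | n <;> simp only [_root_.dvd_zero, _root_.not_true_eq_false, _root_.add_tsub_cancel_right, _root_.Nat.add_left_cancel_iff] at hn ⊢⟩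
  have h1 := congrArg (fun f : Module.End k L => f v) (H.E_mul_E1 x n)
  simp only [Module.End.mul_apply, h, map_zero, LinearMap.smul_apply] at h1
  exact (smul_eq_zero.mp h1.symm).resolve_left fun h2 => hn ((CharP.cast_eq_zero_iff k p _).mp h2)

/-- injectivity of a root operator on a weight space of negative weight -/
theorem inj1 {x : Bool × Φ} {μ : ι → ℤ} (hx : R.pair μ x < 0)
    (hp : ∀ n : ℕ, 0 < n → p ∣ n → ¬ H.IsWt (μ + (n : ℤ) • R.wt x)) {v : L} (hv : v ∈ H.w μ) (h : H.E x 1 v = 0) :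
    v = 0 :=
  H.inj x μ v hv hx fun n hn => by
    by_cases h1 : p ∣ n
    · exact H.eq_zero_of_not_isWt (hp n hn h1) (H.E_w x n μ v hv)
    · exact H.E_of_E1 h h1

theorem inj1_of_le {x : Bool × Φ} {M : ℤ} (hM : ∀ μ, H.IsWt μ → R.pair μ x ≤ M) {μ : ι → ℤ} (hx : R.pair μ x < 0)
    (hp : M < R.pair μ x + 2 * p) {v : L} (hv : v ∈ H.w μ) (h : H.E x 1 v = 0) : v = 0 := by
  by_contra h0
  refine h0 (H.inj1 hx (fun n hn hd h' => ?_) hv h)
  have h1 := (H.le_of_isWt_add hM (H.isWt_of_mem hv h0) h').2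
  have h2 := Nat.le_of_dvd hn hd
  omega

/-- injectivity at the end of a root string -/
theorem inj_of_ef {x : Bool × Φ} {μ : ι → ℤ} (hx : ¬ (p : ℤ) ∣ R.pair μ x) {v : L} (hv : v ∈ H.w μ)
    (h' : H.E (ng x) 1 v = 0) (h : H.E x 1 v = 0) : v = 0 := by
  obtain ⟨ε, hε⟩ := H.ef' x
  have h1 := hε μ v hv
  rw [h, h', map_zero, map_zero, sub_zero] at h1
  refine (smul_eq_zero.mp h1.symm).resolve_left (mul_ne_zero ε.ne_zero fun h2 => hx ?_)
  exact (CharP.intCast_eq_zero_iff k p _).mp h2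

theorem E_false_ne_of_chain {j : ι} (hj : H.lam j ≠ 0) {a : Φ} (h : R.Chain p j a) {v : L} (hv : v ∈ H.w H.lz)
    (h0 : v ≠ 0) : H.E (false, a) 1 v ≠ 0 := by
  induction h with
  | base =>
    intro h1
    refine h0 (H.inj_of_ef (x := (false, R.zi j)) ?_ hv (H.E_top hv _ Nat.one_pos) h1)
    rw [R.pair_false, R.pair_zi, dvd_neg, lz_apply, Int.natCast_dvd_natCast]
    exact Nat.not_dvd_of_pos_of_lt (Nat.pos_of_ne_zero hj) (H.lam_lt j)
  | step a β a' h1 h2 _ ih =>
    intro h3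
    obtain ⟨N, hN, hN'⟩ := H.br (true, β) (false, a) (false, a') (funext fun i => by simp [RC.vec, h1])
    have h4 := congrArg (fun f : Module.End k L => f v) hN
    simp only [LinearMap.sub_apply, Module.End.mul_apply, h3, H.E_top hv β Nat.one_pos, map_zero, sub_zero,
      LinearMap.smul_apply] at h4
    exact ih ((smul_eq_zero.mp h4.symm).resolve_left (hN' h2))

omit [CharP k p] in
/-- the negative root operators do not kill the highest weight vector unless they have to -/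
def X : Prop := ∀ a, 0 < R.pair H.lz (true, a) → ∀ v ∈ H.w H.lz, H.E (false, a) 1 v = 0 → v = 0

theorem x_of_ch {J : ι → Prop} (hc : R.Ch p J) (hJ : ∀ j, H.lam j ≠ 0 → J j) : H.X := by
  intro a ha v hv h1
  by_contra h0
  obtain ⟨j, hj⟩ : ∃ j, R.cov (true, a) j * H.lz j ≠ 0 := by
    by_contra hn
    push Not at hn
    rw [RC.pair, Finset.sum_eq_zero fun j _ => hn j] at ha
    exact lt_irrefl _ ha
  rw [R.cov_true, lz_apply] at hj
  have h2 : H.lam j ≠ 0 := fun e => hj (by simp [e])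
  have h3 : R.co a j ≠ 0 := fun e => hj (by simp [e])
  exact H.E_false_ne_of_chain h2 (hc a j (hJ j h2) (Nat.pos_of_ne_zero h3)) hv h0 h1

omit [CharP k p]

variable {H} in
/-- **ext**: a root operator does not kill an extremal vector of negative weight -/
theorem X.ext (hX : H.X) {ν : ι → ℤ} (h : H.Ext ν) {x : Bool × Φ} (hx : R.pair ν x < 0) {v : L} (hv : v ∈ H.w ν)
    (h1 : H.E x 1 v = 0) : v = 0 := by
  obtain ⟨l, rfl⟩ := h
  obtain ⟨u, hu, rfl⟩ := H.exists_nnl l hv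
  rw [← R.srl_srl_rev l x, E_nnl_eq_zero] at h1
  rw [R.pair_swl] at hx
  have h2 := R.neg_of_pair H.lz_dom hx
  generalize R.srl l.reverse x = y at hx h1 h2
  rcases y with ⟨e, a⟩
  cases h2
  rw [hX a (by rw [R.pair_false] at hx; omega) u hu h1, map_zero]

variable {H} in
theorem X.isWt_add (hX : H.X) {ν : ι → ℤ} (h : H.Ext ν) {x : Bool × Φ} (hx : R.pair ν x < 0) :
    H.IsWt (ν + R.wt x) := by
  obtain ⟨v, hv, h0⟩ := H.isWt_iff.mp h.isWt
  exact H.isWt_of_mem (H.E1_w x hv) fun h1 => h0 (hX.ext h hx hv h1)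

variable {H} in
theorem X.isWt_sub (hX : H.X) {ν : ι → ℤ} (h : H.Ext ν) {x : Bool × Φ} (hx : 0 < R.pair ν x) :
    H.IsWt (ν - R.wt x) := by
  have := hX.isWt_add h (x := ng x) (by rw [R.pair_ng]; omega)
  rwa [R.wt_ng, ← sub_eq_add_neg] at this

variable {H} in
/-- extremal weights with a negative pairing count for the codimension -/
theorem X.card_le_cL (hX : H.X) (S : Finset Φ) (A : Finset (ι → ℤ))
    (h : ∀ ν ∈ A, H.Ext ν ∧ ∃ b ∈ S, R.pair ν (true, b) < 0) : A.card ≤ H.cL S :=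
  H.card_le_cL S A fun ν hν => by
    obtain ⟨h1, b, hb, h2⟩ := h ν hν
    obtain ⟨v, hv, h0⟩ := H.isWt_iff.mp h1.isWt
    exact ⟨b, hb, v, hv, fun h3 => h0 (hX.ext h1 h2 hv h3)⟩

variable {H} in
/-- the count for `λ` is at least the count for a dominant weight `μ ≤ λ` (coordinatewise, e.g. `ω_j`) -/
theorem X.card_le_cL_of_le (hX : H.X) (S : Finset Φ) {μ : ι → ℤ} (hμ : Dom μ) (hle : ∀ i, μ i ≤ H.lam i)
    (A : Finset (ι → ℤ)) (h : ∀ ν ∈ A, (∃ l, ν = R.swl l μ) ∧ ∃ b ∈ S, R.pair ν (true, b) < 0) :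
    A.card ≤ H.cL S := by
  classical
  choose! f hf using fun ν hν => (h ν hν).1
  rw [← Finset.card_image_of_injOn (f := fun ν => R.swl (f ν) H.lz) (s := A) fun ν hν ν' hν' e => by
    rw [hf ν hν, hf ν' hν']; exact H.swl_inj_of_le hμ hle e]
  refine hX.card_le_cL S _ fun ν₀ hν₀ => ?_
  obtain ⟨ν, hν, rfl⟩ := Finset.mem_image.mp hν₀
  obtain ⟨b, hb, h1⟩ := (h ν hν).2
  rw [hf ν hν] at h1
  exact ⟨⟨_, rfl⟩, b, hb, lt_of_le_of_lt (H.pair_swl_le hμ hle h1) h1⟩

theorem card_le_d_of_le {μ : ι → ℤ} (hμ : Dom μ) (hle : ∀ i, μ i ≤ H.lam i)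
    (A : Finset (ι → ℤ)) (h : ∀ ν ∈ A, ∃ l, ν = R.swl l μ) : A.card ≤ H.d := by
  classical
  choose! f hf using h
  rw [← Finset.card_image_of_injOn (f := fun ν => R.swl (f ν) H.lz) (s := A) fun ν hν ν' hν' e => by
    rw [hf ν hν, hf ν' hν']; exact H.swl_inj_of_le hμ hle e]
  refine H.card_le_d _ fun ν₀ hν₀ => ?_
  obtain ⟨ν, hν, rfl⟩ := Finset.mem_image.mp hν₀
  exact Ext.isWt ⟨_, rfl⟩

variable {H} in
theorem X.E_ne_zero (hX : H.X) {x : Bool × Φ} {j : ι} (hj : H.lam j ≠ 0) {l : List ι} {a : Φ}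
    (h : R.srl l x = (true, a)) (ha : 0 < R.co a j) : H.E x 1 ≠ 0 := by
  obtain ⟨l', hl'⟩ := R.exists_rf_eq (true, a)
  have h1 : R.pair (R.swl l.reverse (R.swl l' (Pi.single j 1))) x < 0 := by
    rw [R.pair_swl, List.reverse_reverse, h, ← hl', R.pair_rf, R.pair_single, R.cov_true]; omega
  rw [← R.swl_append] at h1
  have h2 := lt_of_le_of_lt (H.pair_swl_le (dom_single j) (H.single_le hj) h1) h1
  obtain ⟨v, hv, h0⟩ := H.isWt_iff.mp (Ext.isWt (H := H) ⟨l.reverse ++ l', rfl⟩)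
  exact fun h3 => h0 (hX.ext ⟨_, rfl⟩ h2 hv (by rw [h3]; rfl))

variable {H} in
theorem X.faith (hX : H.X) (hR : R.Conn) (x : Bool × Φ) : H.E x 1 ≠ 0 := by
  obtain ⟨j, hj⟩ := H.exists_lam_pos
  obtain ⟨l, a, h1, h2⟩ := hR.exists_co_pos x j
  exact hX.E_ne_zero hj.ne' h1 h2

end HW

/-- **Faith** from the chain condition -/
theorem faith_of_ch {ι Φ : Type} [Fintype ι] [DecidableEq ι] [Fintype Φ] [DecidableEq Φ] (R : RC ι Φ) (p : ℕ)
    (k : Type) [Field k] [CharP k p] {J : ι → Prop} (hc : R.Ch p J) (hR : R.Conn) {ok : (ι → ℕ) → Prop}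
    (hok : ∀ l, ok l → ∀ j, l j ≠ 0 → J j) : Faith R p k ok :=
  fun L _ _ H h b => (H.x_of_ch hc (hok _ h)).faith hR _

end Cfsg.Agent.TwoF.DC
end

private theorem dce_9b34ed4e0d62 : _root_.True := by
  try have : _root_.True := by simp only [_root_.Cfsg.Agent.TwoF.DC.HW.kerL.eq_1]
  try have : _root_.True := by simp only [_root_.Cfsg.Agent.TwoF.DC.RC.vec.eq_1]
  try have : _root_.True := by simp only [_root_.Cfsg.Agent.TwoF.DC.RC.sv.eq_1]
  try have : _root_.True := by simp only [_root_.Cfsg.Agent.TwoF.DC.RC.rf.eq_1]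
  try have : _root_.True := by simp only [_root_.Cfsg.Agent.TwoF.DC.HW.kerG.eq_1]
  try have : _root_.True := by simp only [_root_.Cfsg.Agent.TwoF.DC.HW.m.eq_1]
  try have : _root_.True := by simp only [_root_.Cfsg.Agent.TwoF.DC.RC.pair.eq_1]
  try have : _root_.True := by simp only [_root_.Cfsg.Agent.TwoF.DC.HW.IsWt.eq_1]
  try have : _root_.True := by simp only [_root_.Cfsg.Agent.TwoF.DC.ng.eq_1]
  try have : _root_.True := by simp only [_root_.Cfsg.Agent.TwoF.DC.RC.sr.eq_1]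
  try have : _root_.True := by simp only [_root_.Cfsg.Agent.TwoF.DC.HW.cG.eq_1]
  try have : _root_.True := by simp only [_root_.Cfsg.Agent.TwoF.DC.RC.toWt.eq_1]
  try have : _root_.True := by simp only [_root_.Cfsg.Agent.TwoF.DC.RC.NZ.eq_1]
  try have : _root_.True := by simp only [_root_.Cfsg.Agent.TwoF.DC.RC.sw.eq_1]
  try have : _root_.True := by simp only [_root_.Cfsg.Agent.TwoF.DC.RC.wt.eq_1]
  try have : _root_.True := by simp only [_root_.Cfsg.Agent.TwoF.DC.RC.cov.eq_1]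
  try have : _root_.True := by simp only [_root_.Cfsg.Agent.TwoF.DC.HW.dep.eq_1]
  try have : _root_.True := by simp only [_root_.Cfsg.Agent.TwoF.DC.HW.d.eq_1]
  try have : _root_.True := by simp only [_root_.Cfsg.Agent.TwoF.DC.HW.Wts.eq_1]
  try have : _root_.True := by simp only [_root_.Cfsg.Agent.TwoF.DC.HW.cL.eq_1]
  exact _root_.True.intro
end

-- part: TwoF/DC/Rep
section
set_option linter.all false
open scoped Cfsg.Agent.FastGrp

/-!
# TwoF, defining characteristic: modules with a group action (`HW.Rep`), intertwiners (helper85)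
-/

set_option autoImplicit false
set_option linter.unusedSectionVars false
set_option linter.unusedVariables false

namespace Cfsg.Agent.TwoF.DC

open Module Finset Cfsg.Agent.H45.Uni Cfsg.Agent.H45.UniE Cfsg.Agent.TwoF.Gen

/-- vector valued polynomial functions over an infinite field -/
theorem eq_zero_of_sum_pow {k W : Type*} [Field k] [Infinite k] [AddCommGroup W] [Module k W] {N : ℕ} {a : ℕ → W}
    (h : ∀ t : k, ∑ n ∈ range N, t ^ n • a n = 0) {n : ℕ} (hn : n < N) : a n = 0 := by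
  rw [← Module.forall_dual_apply_eq_zero_iff k]
  intro φ
  have h1 : (∑ m ∈ range N, Polynomial.monomial m (φ (a m)) : Polynomial k) = 0 := by
    apply Polynomial.funext
    intro t
    have h2 := congrArg φ (h t)
    rw [map_sum, map_zero] at h2
    rw [Polynomial.eval_finsetSum, Polynomial.eval_zero, ← h2]
    refine Finset.sum_congr rfl fun m _ => ?_
    rw [Polynomial.eval_monomial, map_smul, smul_eq_mul, mul_comm]
  have h3 := congrArg (fun P : Polynomial k => P.coeff n) h1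
  simp only [Polynomial.finsetSum_coeff, Polynomial.coeff_monomial, Polynomial.coeff_zero] at h3
  rwa [Finset.sum_ite_eq', if_pos (mem_range.2 hn)] at h3

theorem eq_of_sum_pow {k W : Type*} [Field k] [Infinite k] [AddCommGroup W] [Module k W] {N : ℕ} {a b : ℕ → W}
    (h : ∀ t : k, ∑ n ∈ range N, t ^ n • a n = ∑ n ∈ range N, t ^ n • b n) {n : ℕ} (hn : n < N) : a n = b n := by
  rw [← sub_eq_zero]
  refine eq_zero_of_sum_pow (k := k) (a := fun n => a n - b n) (fun t => ?_) hn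
  simp only [smul_sub, Finset.sum_sub_distrib, h t, sub_self]

/-- characters of the multiplicative group of an infinite field -/
theorem int_eq_of_zpow {k : Type*} [Field k] [Infinite k] {m n : ℤ} (h : ∀ c : kˣ, c ^ m = c ^ n) : m = n := by
  by_contra hne
  have h1 : ∀ c : kˣ, c ^ (m - n).natAbs = 1 := fun c => by
    have h2 : c ^ (m - n) = 1 := by rw [zpow_sub, h, mul_inv_cancel]
    rcases Int.natAbs_eq (m - n) with h3 | h3
    · rw [← zpow_natCast, ← h3, h2]
    · rw [h3, zpow_neg, inv_eq_one, zpow_natCast] at h2; exact h2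
  have h0 : 0 < (m - n).natAbs := Int.natAbs_pos.2 (sub_ne_zero.2 hne)
  have h4 : (Polynomial.X ^ (m - n).natAbs - 1 : Polynomial k) = 0 := by
    apply Polynomial.eq_zero_of_infinite_isRoot
    apply Set.Infinite.mono (s := ({(0 : k)}ᶜ : Set k))
    · intro s hs
      have hs' : s ≠ 0 := hs
      have h5 := congrArg (fun u : kˣ => (u : k)) (h1 (Units.mk0 s hs'))
      simp only [Units.val_pow_eq_pow_val, Units.val_mk0, Units.val_one] at h5
      show Polynomial.eval s _ = 0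
      rw [Polynomial.eval_sub, Polynomial.eval_pow, Polynomial.eval_X, Polynomial.eval_one, h5, sub_self]
    · exact (Set.finite_singleton (0 : k)).infinite_compl
  have h6 := congrArg (Polynomial.eval (0 : k)) h4
  rw [Polynomial.eval_sub, Polynomial.eval_pow, Polynomial.eval_X, zero_pow h0.ne', Polynomial.eval_one,
    Polynomial.eval_zero] at h6
  simp at h6

/-- the commutator space with a group generated by a symmetric set -/
theorem cm_closure_le {k Y V : Type*} [Field k] [Group Y] [AddCommGroup V] [Module k V] {ρ : Representation k Y V}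
    {X : Set Y} (hX : ∀ x ∈ X, x⁻¹ ∈ X) {U W : Submodule k V} (hUW : U ≤ W) (h : ∀ x ∈ X, ∀ v ∈ W, ρ x v - v ∈ U) :
    cm ρ W (Subgroup.closure X) ≤ U := by
  have h1 : ∀ x ∈ X, ∀ u ∈ U, ρ x u ∈ U := fun x hx u hu => by simpa using U.add_mem (h x hx u (hUW hu)) hu
  refine cm_le_iff.2 fun b hb v hv => ?_
  exact ((Subgroup.closure_le (stabQ ρ U v)).2
    (fun x hx => ⟨fun u hu => ⟨h1 x hx u hu, h1 _ (hX x hx) u hu⟩, h x hx v hv⟩) hb).2

variable {p : ℕ} {ι Φ k G : Type} [Fintype ι] [DecidableEq ι] [Fintype Φ] [DecidableEq Φ] [Field k] [Group G]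

namespace HW

section

variable {R : RC ι Φ} {L : Type} [AddCommGroup L] [Module k L] (H : HW R p k L)

theorem exists_E_zero : ∃ N : ℕ, ∀ x n, N ≤ n → H.E x n = 0 := by
  obtain ⟨M, hM⟩ := ((H.Wts ×ˢ (univ : Finset (Bool × Φ))).image fun y => R.pair y.1 y.2).bddAbove
  refine ⟨M.toNat + 1, fun x n hn => H.E_eq_zero (M := M) (fun μ hμ => hM ?_) (by omega)⟩
  exact Finset.mem_coe.2 (Finset.mem_image.2 ⟨(μ, x), Finset.mem_product.2 ⟨H.mem_Wts.2 hμ, mem_univ _⟩, rfl⟩)

/-- a bound for the degrees of the root elements -/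
noncomputable def bd : ℕ := H.exists_E_zero.choose

theorem E_bd (x : Bool × Φ) {n : ℕ} (hn : H.bd ≤ n) : H.E x n = 0 := H.exists_E_zero.choose_spec x n hn

theorem finsum_E (x : Bool × Φ) (t : k) {N : ℕ} (hN : H.bd ≤ N) :
    ∑ᶠ n : ℕ, t ^ n • H.E x n = ∑ n ∈ range N, t ^ n • H.E x n := by
  refine finsum_eq_sum_of_support_subset _ fun n hn => ?_
  rw [Finset.coe_range, Set.mem_Iio]
  by_contra h
  exact hn (show t ^ n • H.E x n = 0 by rw [H.E_bd x (by omega), smul_zero])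

theorem op_add (u v : Φ → k) : H.op (u + v) = H.op u + H.op v := by
  simp only [op, Pi.add_apply, add_smul, Finset.sum_add_distrib]

theorem op_smul (c : k) (u : Φ → k) : H.op (c • u) = c • H.op u := by
  simp only [op, Pi.smul_apply, smul_eq_mul, mul_smul, Finset.smul_sum]

theorem op_zero : H.op 0 = 0 := by simp only [op, Pi.zero_apply, zero_smul, Finset.sum_const_zero]

/-- `op` as a linear map -/
noncomputable def opL : (Φ → k) →ₗ[k] Module.End k L where
  toFun := H.op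
  map_add' := H.op_add
  map_smul' := H.op_smul

theorem op_single (b : Φ) (c : k) : H.op (Pi.single b c) = c • H.E (true, b) 1 := by
  rw [op, Finset.sum_eq_single b (fun b' _ h => by rw [Pi.single_eq_of_ne h, zero_smul])
    (fun h => (h (mem_univ _)).elim), Pi.single_eq_same]

theorem mem_kerOp {𝔞 : Submodule k (Φ → k)} {v : L} : v ∈ H.kerOp 𝔞 ↔ ∀ u ∈ 𝔞, H.op u v = 0 := by
  simp [kerOp, Submodule.mem_iInf]

theorem mem_kerOp_span {X : Set (Φ → k)} {v : L} : v ∈ H.kerOp (Submodule.span k X) ↔ ∀ u ∈ X, H.op u v = 0 := by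
  rw [mem_kerOp]
  refine ⟨fun h u hu => h u (Submodule.subset_span hu), fun h u hu => ?_⟩
  induction hu using Submodule.span_induction with
  | mem u hu => exact h u hu
  | zero => rw [op_zero, LinearMap.zero_apply]
  | add a b _ _ h1 h2 => rw [op_add, LinearMap.add_apply, h1, h2, add_zero]
  | smul c a _ h1 => rw [op_smul, LinearMap.smul_apply, h1, smul_zero]

end

namespace Rep

variable {D : RDat p ι Φ k G} {L L' : Type} [AddCommGroup L] [Module k L] [AddCommGroup L'] [Module k L']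
  {H : HW D.R p k L} {H' : HW D.R p k L'} (r : H.Rep D) (r' : H'.Rep D)

theorem z_sum (b : Φ) (t : k) {N : ℕ} (hN : H.bd ≤ N) : r.ρ (D.z b t) = ∑ n ∈ range N, t ^ n • H.E (true, b) n := by
  rw [r.ρ_z, H.finsum_E _ _ hN]

theorem w_sum (b : Φ) (t : k) {N : ℕ} (hN : H.bd ≤ N) :
    r.ρ (D.τ (D.z b t)) = ∑ n ∈ range N, t ^ n • H.E (false, b) n := by
  rw [r.ρ_w, H.finsum_E _ _ hN]

theorem z_sub_one (b : Φ) (t : k) :
    r.ρ (D.z b t) - 1 = ∑ n ∈ range H.bd, t ^ (n + 1) • H.E (true, b) (n + 1) := by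
  rw [r.z_sum b t (Nat.le_succ _), Finset.sum_range_succ', pow_zero, one_smul, H.E_zero, add_sub_cancel_right]

theorem z_apply_sub (b : Φ) (t : k) (v : L) :
    r.ρ (D.z b t) v - v = ∑ n ∈ range H.bd, t ^ (n + 1) • H.E (true, b) (n + 1) v := by
  have h := DFunLike.congr_fun (r.z_sub_one b t) v
  rw [LinearMap.sum_apply] at h
  exact h

/-- the weight spaces are the common eigenspaces of the coroot elements -/
theorem mem_w_iff [Infinite k] {μ : ι → ℤ} {v : L} :
    v ∈ H.w μ ↔ ∀ i (c : kˣ), r.ρ (D.hh i c) v = ((c ^ μ i : kˣ) : k) • v := by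
  refine ⟨fun hv i c => r.ρ_hh i c μ v hv, fun h => H.mem_w_of_pr fun ν hν => ?_⟩
  by_contra h0
  apply hν
  funext i
  apply int_eq_of_zpow (k := k)
  intro c
  have h1 : ∀ u : L, H.pr ν (r.ρ (D.hh i c) u) = ((c ^ ν i : kˣ) : k) • H.pr ν u := by
    intro u
    induction u using H.w_induction with
    | h0 => simp
    | hadd a b ha hb => simp only [map_add, ha, hb, smul_add]
    | hw κ u hu =>
      rw [r.ρ_hh i c κ u hu, map_smul]
      by_cases hκ : κ = ν
      · rw [hκ]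
      · rw [H.pr_of_ne hu hκ, smul_zero, smul_zero]
  have h2 := h1 v
  rw [h, map_smul] at h2
  exact Units.ext (smul_left_injective k h0 h2).symm

theorem kerG_le_fx (S : Finset Φ) : H.kerG S ≤ fx r.ρ (Subgroup.closure {g | ∃ b ∈ S, ∃ t, g = D.z b t}) := by
  intro v hv
  rw [mem_fx_closure]
  rintro _ ⟨b, hb, t, rfl⟩
  rw [← sub_eq_zero, r.z_apply_sub]
  exact Finset.sum_eq_zero fun n _ => by rw [H.mem_kerG.1 hv b hb _ n.succ_pos, smul_zero]

theorem cod_le_cG {S : Finset Φ} {B : Subgroup G} (hB : B ≤ Subgroup.closure {g | ∃ b ∈ S, ∃ t, g = D.z b t}) :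
    cod r.ρ B ≤ H.cG S := by
  have := H.fd
  exact Nat.sub_le_sub_left (Submodule.finrank_mono ((r.kerG_le_fx S).trans (fx_anti hB))) _

/-- the sum of the images of `W` under the root operators -/
def up (H : HW D.R p k L) (S : Finset Φ) (W : Submodule k L) : Submodule k L :=
  ⨆ b ∈ S, ⨆ (n : ℕ) (_ : 0 < n), W.map (H.E (true, b) n)

theorem mem_up {S : Finset Φ} {W : Submodule k L} {b : Φ} (hb : b ∈ S) {n : ℕ} (hn : 0 < n) {v : L} (hv : v ∈ W) :
    H.E (true, b) n v ∈ up H S W :=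
  Submodule.mem_iSup_of_mem b (Submodule.mem_iSup_of_mem hb (Submodule.mem_iSup_of_mem n
    (Submodule.mem_iSup_of_mem hn ⟨v, hv, rfl⟩)))

theorem up_le {S : Finset Φ} {W U : Submodule k L} (h : ∀ b ∈ S, ∀ n, 0 < n → ∀ v ∈ W, H.E (true, b) n v ∈ U) :
    up H S W ≤ U :=
  iSup₂_le fun b hb => iSup₂_le fun n hn => by rintro _ ⟨v, hv, rfl⟩; exact h b hb n hn v hv

theorem up_mono {S : Finset Φ} {W U : Submodule k L} (h : W ≤ U) : up H S W ≤ up H S U :=
  up_le fun b hb n hn v hv => mem_up hb hn (h hv)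

theorem cm_le_up {S : Finset Φ} {W : Submodule k L} (h : up H S W ≤ W) :
    cm r.ρ W (Subgroup.closure {g | ∃ b ∈ S, ∃ t, g = D.z b t}) ≤ up H S W := by
  refine cm_closure_le ?_ h ?_
  · rintro _ ⟨b, hb, t, rfl⟩
    exact ⟨b, hb, -t, (D.z_neg b t).symm⟩
  · rintro _ ⟨b, hb, t, rfl⟩ v hv
    rw [r.z_apply_sub]
    exact Submodule.sum_mem _ fun n _ => Submodule.smul_mem _ _ (mem_up hb n.succ_pos hv)

/-- cubic action of a group generated by root groups -/
theorem cub {S : Finset Φ} (h : ∀ a ∈ S, ∀ b ∈ S, ∀ c ∈ S, ∀ l m n, 0 < l → 0 < m → 0 < n →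
    H.E (true, a) l * H.E (true, b) m * H.E (true, c) n = 0) :
    Cub r.ρ (Subgroup.closure {g | ∃ b ∈ S, ∃ t, g = D.z b t}) := by
  have h1 : up H S ⊤ ≤ ⊤ := _root_.le_top
  have h2 : up H S (up H S ⊤) ≤ up H S ⊤ := up_mono h1
  have h3 : up H S (up H S (up H S ⊤)) ≤ ⊥ := by
    refine up_le fun a ha l hl => ?_
    refine up_le (U := (⊥ : Submodule k L).comap (H.E (true, a) l)) fun b hb m hm => ?_
    refine up_le (U := ((⊥ : Submodule k L).comap (H.E (true, a) l)).comap (H.E (true, b) m)) fun c hc n hn v _ => ?_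
    exact DFunLike.congr_fun (h a ha b hb c hc l m n hl hm hn) v
  rw [cub_iff, ← le_bot_iff]
  refine (cm_mono ((cm_mono (r.cm_le_up h1) le_rfl).trans (r.cm_le_up h2)) le_rfl).trans
    ((r.cm_le_up (h3.trans bot_le)).trans h3)

/-- quadratic action of a group generated by root groups -/
theorem quad {S : Finset Φ} (h : ∀ a ∈ S, ∀ b ∈ S, ∀ l m, 0 < l → 0 < m → H.E (true, a) l * H.E (true, b) m = 0)
    {x y : G} (hx : x ∈ Subgroup.closure {g | ∃ b ∈ S, ∃ t, g = D.z b t})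
    (hy : y ∈ Subgroup.closure {g | ∃ b ∈ S, ∃ t, g = D.z b t}) : (r.ρ x - 1) * (r.ρ y - 1) = 0 := by
  have h1 : up H S ⊤ ≤ ⊤ := _root_.le_top
  have h3 : up H S (up H S ⊤) ≤ ⊥ := by
    refine up_le fun a ha l hl => ?_
    refine up_le (U := (⊥ : Submodule k L).comap (H.E (true, a) l)) fun b hb m hm v _ => ?_
    exact DFunLike.congr_fun (h a ha b hb l m hl hm) v
  ext v
  exact h3 (r.cm_le_up (h3.trans bot_le) (mem_cm hx (r.cm_le_up h1 (mem_cm hy Submodule.mem_top))))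

end Rep

end HW

/-! ### endomorphisms which permute the simple root groups -/

namespace RDat

variable (D : RDat p ι Φ k G)

/-- the coroot elements in terms of the root elements -/
theorem hh_eq (i : ι) (c : kˣ) : D.hh i c = D.y i (-((c - 1) / c)) * D.x i 1 * D.y i (c - 1) * D.x i (-(1 / c)) := by
  have h := D.rank i 1 (c - 1) c (by ring)
  rw [D.y_neg, D.x_neg, mul_assoc (D.y i _)⁻¹, h]
  group

theorem map_hh {α : G →* G} {γ : ι → ι} (ω : k →+* k) (hx : ∀ i t, α (D.x i t) = D.x (γ i) (ω t))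
    (hy : ∀ i t, α (D.y i t) = D.y (γ i) (ω t)) (i : ι) (c : kˣ) :
    α (D.hh i c) = D.hh (γ i) (Units.map ω.toMonoidHom c) := by
  rw [hh_eq, hh_eq, map_mul, map_mul, map_mul, hx, hx, hy, hy]
  simp only [map_neg, map_div₀, map_sub, map_one, Units.coe_map, RingHom.toMonoidHom_eq_coe, MonoidHom.coe_coe]

/-- two homomorphisms which agree on the simple root elements -/
theorem hom_ext {G' : Type*} [Group G'] {α β : G →* G'} (hx : ∀ i t, α (D.x i t) = β (D.x i t))
    (hy : ∀ i t, α (D.y i t) = β (D.y i t)) : α = β := by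
  refine MonoidHom.eq_of_eqOn_dense D.gen ?_
  rintro _ ⟨i, t, rfl | rfl⟩
  · exact hx i t
  · exact hy i t

theorem map_τ {α : G →* G} {γ : ι → ι} {ω : k → k} (hx : ∀ i t, α (D.x i t) = D.x (γ i) (ω t))
    (hy : ∀ i t, α (D.y i t) = D.y (γ i) (ω t)) (g : G) : α (D.τ g) = D.τ (α g) := by
  have hg : g ∈ Subgroup.closure {g | ∃ i s, g = D.x i s ∨ g = D.y i s} := by rw [D.gen]; trivial
  induction hg using Subgroup.closure_induction with
  | mem g hg =>
    obtain ⟨i, t, rfl | rfl⟩ := hg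
    · rw [D.τ_x, hx, hy, D.τ_x]
    · rw [D.τ_y, hx, hy, D.τ_y]
  | one => rw [D.τ_one, map_one, D.τ_one]
  | mul a b _ _ h1 h2 => rw [D.τ_mul, map_mul, map_mul, D.τ_mul, h1, h2]
  | inv a _ h1 => rw [D.τ_inv, map_inv, map_inv, D.τ_inv, h1]

end RDat

namespace HW.Rep

variable {D : RDat p ι Φ k G} {L L' : Type} [AddCommGroup L] [Module k L] [AddCommGroup L'] [Module k L']
  {H : HW D.R p k L} {H' : HW D.R p k L'} (r : H.Rep D) (r' : H'.Rep D) [Infinite k]
  {α : G →* G} {γ : Equiv.Perm ι} {g : L →ₗ[k] L'}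

/-- intertwiners permute the weight spaces -/
theorem tw_w (hx : ∀ i t, α (D.x i t) = D.x (γ i) t) (hy : ∀ i t, α (D.y i t) = D.y (γ i) t)
    (hg : ∀ x v, g (r.ρ x v) = r'.ρ (α x) (g v)) {μ : ι → ℤ} {v : L} (hv : v ∈ H.w μ) : g v ∈ H'.w (μ ∘ γ.symm) := by
  rw [r'.mem_w_iff]
  intro i c
  have h1 := D.map_hh (α := α) (γ := γ) (RingHom.id k) hx hy (γ.symm i) c
  rw [Equiv.apply_symm_apply] at h1
  have h2 : Units.map (RingHom.id k).toMonoidHom c = c := Units.ext rfl
  rw [h2] at h1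
  rw [← h1, ← hg, r.ρ_hh _ c μ v hv, map_smul]
  rfl

/-- intertwiners permute the positive root operators -/
theorem tw_E {b b' : Φ} {ε : k} (hz : ∀ t, α (D.z b t) = D.z b' (ε * t))
    (hg : ∀ x v, g (r.ρ x v) = r'.ρ (α x) (g v)) (n : ℕ) (v : L) :
    g (H.E (true, b) n v) = ε ^ n • H'.E (true, b') n (g v) := by
  refine eq_of_sum_pow (k := k) (N := H.bd + H'.bd + n + 1) (a := fun n => g (H.E (true, b) n v))
    (b := fun n => ε ^ n • H'.E (true, b') n (g v)) (fun t => ?_) (by omega)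
  have h1 := hg (D.z b t) v
  rw [hz, r.z_sum b t (N := H.bd + H'.bd + n + 1) (by omega), r'.z_sum b' _ (N := H.bd + H'.bd + n + 1) (by omega),
    LinearMap.sum_apply, LinearMap.sum_apply, map_sum] at h1
  simp only [LinearMap.smul_apply, map_smul] at h1
  rw [h1]
  exact Finset.sum_congr rfl fun m _ => by rw [smul_smul, mul_pow, mul_comm]

/-- intertwiners permute the negative root operators -/
theorem tw_F (hx : ∀ i t, α (D.x i t) = D.x (γ i) t) (hy : ∀ i t, α (D.y i t) = D.y (γ i) t)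
    {b b' : Φ} {ε : k} (hz : ∀ t, α (D.z b t) = D.z b' (ε * t))
    (hg : ∀ x v, g (r.ρ x v) = r'.ρ (α x) (g v)) (n : ℕ) (v : L) :
    g (H.E (false, b) n v) = ε ^ n • H'.E (false, b') n (g v) := by
  refine eq_of_sum_pow (k := k) (N := H.bd + H'.bd + n + 1) (a := fun n => g (H.E (false, b) n v))
    (b := fun n => ε ^ n • H'.E (false, b') n (g v)) (fun t => ?_) (by omega)
  have h1 := hg (D.τ (D.z b t)) v
  rw [D.map_τ (ω := id) hx hy, hz, r.w_sum b t (N := H.bd + H'.bd + n + 1) (by omega),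
    r'.w_sum b' _ (N := H.bd + H'.bd + n + 1) (by omega), LinearMap.sum_apply, LinearMap.sum_apply, map_sum] at h1
  simp only [LinearMap.smul_apply, map_smul] at h1
  rw [h1]
  exact Finset.sum_congr rfl fun m _ => by rw [smul_smul, mul_pow, mul_comm]

/-- intertwiners and fixed coefficient vectors -/
theorem tw_op {γ' : Equiv.Perm Φ} {ε : Φ → kˣ} (hz : ∀ b t, α (D.z b t) = D.z (γ' b) (ε b * t))
    (hg : ∀ x v, g (r.ρ x v) = r'.ρ (α x) (g v)) {u : Φ → k} (hu : ∀ b, u (γ' b) = ε b * u b) (v : L) :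
    g (H.op u v) = H'.op u (g v) := by
  rw [HW.op, HW.op, LinearMap.sum_apply, LinearMap.sum_apply, map_sum,
    ← Equiv.sum_comp γ' fun b => (u b • H'.E (true, b) 1) (g v)]
  refine Finset.sum_congr rfl fun b _ => ?_
  rw [LinearMap.smul_apply, LinearMap.smul_apply, map_smul, r.tw_E r' (hz b) hg, pow_one, smul_smul, hu, mul_comm]

end HW.Rep

/-- an operator which permutes the weight spaces by a symmetry preserves the heights -/
theorem HW.lev_of_sym {D : RDat p ι Φ k G} {L : Type} [AddCommGroup L] [Module k L] (H : HW D.R p k L)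
    {γ : Equiv.Perm ι} (hC : ∀ i j, D.R.C (γ i) (γ j) = D.R.C i j) (hht : ∀ i, D.ht (D.zi (γ i)) = D.ht (D.zi i))
    (hl : H.lam ∘ γ.symm = H.lam) {g : Module.End k L} (hg : ∀ μ, ∀ v ∈ H.w μ, g v ∈ H.w (μ ∘ γ.symm)) :
    H.Lev g := by
  intro c v hv
  refine ⟨c ∘ γ.symm, ?_, ?_⟩
  · have h1 := hg _ v hv
    have h2 : ((fun i => (H.lam i : ℤ)) - D.R.toWt c) ∘ γ.symm = (fun i => (H.lam i : ℤ)) - D.R.toWt (c ∘ γ.symm) := by
      funext i
      have h3 := congrFun hl i
      simp only [Function.comp_apply, Pi.sub_apply, RC.toWt] at h3 ⊢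
      rw [h3, ← Equiv.sum_comp γ fun j => D.R.C i j * c (γ.symm j)]
      congr 1
      refine Finset.sum_congr rfl fun j _ => ?_
      rw [← hC (γ.symm i) j, Equiv.apply_symm_apply, Equiv.symm_apply_apply]
    rwa [h2] at h1
  · rw [← Equiv.sum_comp γ]
    exact Finset.sum_congr rfl fun j _ => by rw [Function.comp_apply, Equiv.symm_apply_apply, hht]

theorem HW.lev_one {D : RDat p ι Φ k G} {L : Type} [AddCommGroup L] [Module k L] (H : HW D.R p k L) : H.Lev 1 :=
  fun c v hv => ⟨c, hv, rfl⟩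

end Cfsg.Agent.TwoF.DC

private theorem dce_696c7c3eb45d : _root_.True := by
  try have : _root_.True := by simp only [_root_.Cfsg.Agent.TwoF.DC.HW.kerOp.eq_1]
  try have : _root_.True := by simp only [_root_.Cfsg.Agent.TwoF.DC.HW.op.eq_1]
  exact _root_.True.intro
end

-- part: TwoF/DC/Mod/Pol
section
prune_inst 0x7f421307c443942000000180080c3000300580000020040880420000e040341a462a040a80006000112102a000828040028119800b0420000000a0000000004000018409000a1480000000010000080400000000000000000000000000000010004000000000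
set_option linter.all false
open scoped Cfsg.Agent.FastGrp

/-!
# TwoF, defining characteristic, TH1a (1): polynomial functions with values in an algebra, root elements (helper7)
-/

set_option autoImplicit false
set_option linter.unusedSectionVars false
set_option linter.unusedVariables false

namespace Cfsg.Agent.TwoF.DC

open Module Finset

section pol

variable {k A W : Type} [Field k] [Ring A] [Algebra k A] [AddCommGroup W] [Module k W]

variable (k W) in
/-- polynomial functions -/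
def Pol : Submodule k (k → W) := Submodule.span k {f | ∃ (n : ℕ) (a : W), f = fun t => t ^ n • a}

theorem pol_mono (n : ℕ) (a : W) : (fun t : k => t ^ n • a) ∈ Pol k W := Submodule.subset_span ⟨n, a, rfl⟩

theorem pol_const (a : W) : (fun _ : k => a) ∈ Pol k W := by simpa using pol_mono (k := k) 0 a

theorem pol_sum {α : Type} (s : Finset α) {f : α → k → W} (h : ∀ a ∈ s, f a ∈ Pol k W) :
    (fun t => ∑ a ∈ s, f a t) ∈ Pol k W := by
  have := Submodule.sum_mem _ h
  rwa [Finset.sum_fn] at this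

theorem pol_mul {f g : k → A} (hf : f ∈ Pol k A) (hg : g ∈ Pol k A) : (fun t => f t * g t) ∈ Pol k A := by
  induction hf using Submodule.span_induction with
  | mem f hf =>
    obtain ⟨n, a, rfl⟩ := hf
    induction hg using Submodule.span_induction with
    | mem g hg =>
      obtain ⟨m, b, rfl⟩ := hg
      simpa only [smul_mul_smul_comm, ← pow_add] using pol_mono (k := k) (n + m) (a * b)
    | zero => simp only [Pi.zero_apply, mul_zero]; exact (Pol k A).zero_mem
    | add g g' _ _ h h' => simp only [Pi.add_apply, mul_add]; exact (Pol k A).add_mem h h'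
    | smul c g _ h => simp only [Pi.smul_apply, mul_smul_comm]; exact (Pol k A).smul_mem c h
  | zero => simp only [Pi.zero_apply, zero_mul]; exact (Pol k A).zero_mem
  | add f f' _ _ h h' => simp only [Pi.add_apply, add_mul]; exact (Pol k A).add_mem h h'
  | smul c f _ h => simp only [Pi.smul_apply, smul_mul_assoc]; exact (Pol k A).smul_mem c h

theorem pol_smul (n : ℕ) {f : k → A} (hf : f ∈ Pol k A) : (fun t => t ^ n • f t) ∈ Pol k A := by
  simpa using pol_mul (pol_mono n (1 : A)) hf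

theorem pol_map {W' : Type} [AddCommGroup W'] [Module k W'] (φ : W →ₗ[k] W') {f : k → W} (hf : f ∈ Pol k W) :
    (fun t => φ (f t)) ∈ Pol k W' := by
  induction hf using Submodule.span_induction with
  | mem f hf => obtain ⟨n, a, rfl⟩ := hf; simpa only [map_smul] using pol_mono (k := k) n (φ a)
  | zero => simp only [Pi.zero_apply, map_zero]; exact (Pol k W').zero_mem
  | add f f' _ _ h h' => simp only [Pi.add_apply, map_add]; exact (Pol k W').add_mem h h'
  | smul c f _ h => simp only [Pi.smul_apply, map_smul]; exact (Pol k W').smul_mem c h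

theorem pol_dual {f : k → W} (hf : f ∈ Pol k W) (φ : Module.Dual k W) :
    ∃ P : Polynomial k, ∀ t, φ (f t) = P.eval t := by
  induction hf using Submodule.span_induction with
  | mem f hf => obtain ⟨n, a, rfl⟩ := hf; exact ⟨Polynomial.monomial n (φ a), fun t => by simp [mul_comm]⟩
  | zero => exact ⟨0, fun t => by simp⟩
  | add f g _ _ h h' =>
    obtain ⟨P, hP⟩ := h
    obtain ⟨Q, hQ⟩ := h'
    exact ⟨P + Q, fun t => by simp [hP, hQ]⟩
  | smul c f _ h => obtain ⟨P, hP⟩ := h; exact ⟨Polynomial.C c * P, fun t => by simp [hP]⟩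

theorem pol_eq_zero [Infinite k] {f : k → W} (hf : f ∈ Pol k W) (B : Finset k) (h : ∀ t, t ∉ B → f t = 0) (t : k) :
    f t = 0 := by
  rw [← Module.forall_dual_apply_eq_zero_iff k (f t)]
  intro φ
  obtain ⟨P, hP⟩ := pol_dual hf φ
  rw [hP, H45.UniE.GDat.eq_zero_of_cofin (P := P) (B := B) fun s hs => by rw [← hP, h s hs, map_zero],
    Polynomial.eval_zero]

/-- the expansion of order one -/
def Tay (f : k → W) (a b : W) : Prop := ∃ R ∈ Pol k W, ∀ t, f t = a + t • b + t ^ 2 • R t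

theorem tay_const (a : W) : Tay (fun _ : k => a) a 0 := ⟨0, (Pol k W).zero_mem, fun t => by simp⟩

theorem Tay.map {W' : Type} [AddCommGroup W'] [Module k W'] (φ : W →ₗ[k] W') {f : k → W} {a b : W} (h : Tay f a b) :
    Tay (fun t => φ (f t)) (φ a) (φ b) := by
  obtain ⟨R, hR, h⟩ := h
  exact ⟨_, pol_map φ hR, fun t => by simp only [h, map_add, map_smul]⟩

theorem Tay.mul {f g : k → A} {a b a' b' : A} (h : Tay f a b) (h' : Tay g a' b') :
    Tay (fun t => f t * g t) (a * a') (a * b' + b * a') := by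
  obtain ⟨R, hR, h⟩ := h
  obtain ⟨R', hR', h'⟩ := h'
  refine ⟨fun t => a * R' t + b * b' + R t * a' + t ^ 1 • (b * R' t + R t * b') + t ^ 2 • (R t * R' t), ?_, fun t => ?_⟩
  · exact (Pol k A).add_mem ((Pol k A).add_mem ((Pol k A).add_mem ((Pol k A).add_mem (pol_mul (pol_const a) hR')
      (pol_const _)) (pol_mul hR (pol_const a'))) (pol_smul 1 ((Pol k A).add_mem (pol_mul (pol_const b) hR')
        (pol_mul hR (pol_const b'))))) (pol_smul 2 (pol_mul hR hR'))
  · beta_reduce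
    rw [h, h']
    simp only [add_mul, mul_add, smul_mul_assoc, mul_smul_comm, smul_add]
    module

theorem Tay.unique [Infinite k] {f g : k → W} {a b b' : W} (h : Tay f a b) (h' : Tay g a b') (B : Finset k)
    (he : ∀ t, t ∉ B → f t = g t) : b = b' := by
  classical
  obtain ⟨R, hR, h⟩ := h
  obtain ⟨R', hR', h'⟩ := h'
  rw [← sub_eq_zero, ← Module.forall_dual_apply_eq_zero_iff k (b - b')]
  intro φ
  have h1 := pol_eq_zero (f := fun t => φ (b - b') + t ^ 1 • φ (R t - R' t))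
    ((Pol k k).add_mem (pol_const _) (pol_smul 1 (pol_map φ ((Pol k W).sub_mem hR hR')))) (insert 0 B) (fun t ht => by
      rw [Finset.mem_insert, not_or] at ht
      have h2 := he t ht.2
      rw [h, h'] at h2
      rw [← map_smul, ← map_add, (smul_eq_zero.mp (?_ : t • (b - b' + t ^ 1 • (R t - R' t)) = 0)).resolve_left ht.1,
        map_zero]
      rw [← sub_eq_zero.mpr h2]; module) 0
  simpa using h1

theorem tay_sum {N : ℕ} (hN : 2 ≤ N) (a : ℕ → W) : Tay (fun t : k => ∑ n ∈ range N, t ^ n • a n) (a 0) (a 1) := by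
  obtain ⟨N, rfl⟩ := Nat.exists_eq_add_of_le' hN
  refine ⟨fun t => ∑ n ∈ range N, t ^ n • a (n + 1 + 1), pol_sum _ fun n _ => pol_mono _ _, fun t => ?_⟩
  beta_reduce
  rw [Finset.sum_range_succ', Finset.sum_range_succ', Finset.smul_sum]
  simp only [pow_zero, one_smul, zero_add, pow_one, smul_smul]
  rw [add_comm, add_comm _ (t • a 1), ← add_assoc]
  congr 1
  exact Finset.sum_congr rfl fun n _ => by congr 1; ring

theorem tay_sum_pow {N : ℕ} (hN : 2 ≤ N) (a : ℕ → W) (c : k) {m : ℕ} (hm : 0 < m) :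
    Tay (fun t : k => ∑ n ∈ range N, (c * t ^ m) ^ n • a n) (a 0) (if m = 1 then c • a 1 else 0) := by
  split_ifs with h
  · subst h
    simpa only [pow_one, mul_pow, mul_comm (c ^ _), mul_smul, pow_zero, one_smul] using
      tay_sum (k := k) hN fun n => c ^ n • a n
  · obtain ⟨N, rfl⟩ : ∃ M, N = M + 1 := ⟨N - 1, by omega⟩
    refine ⟨fun t => ∑ n ∈ range N, t ^ (m * (n + 1) - 2) • (c ^ (n + 1) • a (n + 1)),
      pol_sum _ fun n _ => pol_mono _ _, fun t => ?_⟩
    beta_reduce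
    rw [Finset.sum_range_succ', Finset.smul_sum, pow_zero, one_smul, smul_zero, add_zero, add_comm]
    congr 1
    refine Finset.sum_congr rfl fun n _ => ?_
    have h1 : m * (n + 1) = 2 + (m * (n + 1) - 2) := by
      have : 2 ≤ m * (n + 1) := by nlinarith [show 2 ≤ m by omega]
      omega
    rw [smul_smul, smul_smul, mul_pow, ← pow_mul, ← pow_add, ← h1, mul_comm]

theorem tay_one_add (m : ℕ) : Tay (fun t : k => (1 + t) ^ m • (1 : A)) 1 ((m : k) • 1) := by
  induction m with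
  | zero => simpa using tay_const (k := k) (1 : A)
  | succ m ih =>
    have h1 : Tay (fun t : k => (1 + t) • (1 : A)) 1 1 := ⟨0, (Pol k A).zero_mem, fun t => by simp [add_smul]⟩
    have h2 := ih.mul h1
    simp only [smul_mul_smul_comm, mul_one, ← pow_succ] at h2
    rwa [Nat.cast_succ, add_smul, one_smul, add_comm ((m : k) • (1 : A))]

theorem pol_one_add_smul (m : ℕ) {f : k → W} (hf : f ∈ Pol k W) : (fun t : k => (1 + t) ^ m • f t) ∈ Pol k W := by
  have h1 : ∀ f ∈ Pol k W, (fun t : k => t • f t) ∈ Pol k W := fun f hf => by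
    induction hf using Submodule.span_induction with
    | mem f hf => obtain ⟨n, a, rfl⟩ := hf; simpa only [smul_smul, ← pow_succ'] using pol_mono (k := k) (n + 1) a
    | zero => simp only [Pi.zero_apply, smul_zero]; exact (Pol k W).zero_mem
    | add f f' _ _ h h' => simp only [Pi.add_apply, smul_add]; exact (Pol k W).add_mem h h'
    | smul c f _ h => simp only [Pi.smul_apply, smul_comm _ c]; exact (Pol k W).smul_mem c h
  induction m with
  | zero => simpa using hf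
  | succ m ih => simp only [pow_succ', mul_smul, add_smul, one_smul]; exact (Pol k W).add_mem ih (h1 _ ih)

end pol

variable {p : ℕ} {ι Φ k G : Type} [Fintype ι] [DecidableEq ι] [Fintype Φ] [DecidableEq Φ] [Field k] [Group G]

namespace RDat

variable (D : RDat p ι Φ k G)

/-- the root elements for all roots -/
def ζ (x : Bool × Φ) (t : k) : G := if x.1 then D.z x.2 t else D.τ (D.z x.2 t)

/-- the Weyl group elements -/
def nw (i : ι) : G := D.x i 1 * D.y i (-1) * D.x i 1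

theorem ζ_true (b : Φ) (t : k) : D.ζ (true, b) t = D.z b t := rfl

theorem ζ_false (b : Φ) (t : k) : D.ζ (false, b) t = D.τ (D.z b t) := rfl

theorem ζ_x (i : ι) (t : k) : D.ζ (true, D.R.zi i) t = D.x i t := by rw [ζ_true, D.zi_eq, D.x_eq]

theorem ζ_y (i : ι) (t : k) : D.ζ (false, D.R.zi i) t = D.y i t := by rw [ζ_false, D.zi_eq, ← D.x_eq, D.τ_x]

theorem ζ_add (x : Bool × Φ) (s t : k) : D.ζ x (s + t) = D.ζ x s * D.ζ x t := by
  rcases x with ⟨_ | _, b⟩
  · rw [ζ_false, ζ_false, ζ_false, add_comm, D.z_add, D.τ_mul]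
  · exact D.z_add b s t

theorem ζ_zero (x : Bool × Φ) : D.ζ x 0 = 1 := by
  have h := D.ζ_add x 0 0
  rw [add_zero] at h
  exact mul_eq_left.1 h.symm

theorem hh_ζ (i : ι) (c : kˣ) (x : Bool × Φ) (a : k) :
    D.hh i c * D.ζ x a = D.ζ x (((c ^ D.R.wt x i : kˣ) : k) * a) * D.hh i c := by
  rcases x with ⟨_ | _, b⟩
  · have h := congrArg D.τ (D.hh_z i c b (((c ^ D.R.wt (false, b) i : kˣ) : k) * a))
    rw [D.τ_mul, D.τ_mul, D.τ_T _ (D.hh_mem i c), ← mul_assoc, ← Units.val_mul, ← zpow_add, D.R.wt_false, Pi.neg_apply,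
      add_neg_cancel, zpow_zero, Units.val_one, one_mul] at h
    rw [ζ_false, ζ_false, D.R.wt_false, Pi.neg_apply, h]
  · exact D.hh_z i c b a

theorem hh_one (i : ι) : D.hh i 1 = 1 := by
  have h := D.hh_mul i 1 1
  rw [mul_one] at h
  exact mul_eq_left.1 h.symm

theorem hh_x (j i : ι) (c : kˣ) (a : k) : D.hh j c * D.x i a = D.x i (((c ^ D.R.C j i : kˣ) : k) * a) * D.hh j c := by
  rw [← ζ_x, ← ζ_x, hh_ζ, D.R.wt_zi]

theorem hh_y (j i : ι) (c : kˣ) (a : k) : D.hh j c * D.y i a = D.y i (((c ^ (-D.R.C j i) : kˣ) : k) * a) * D.hh j c := by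
  rw [← ζ_y, ← ζ_y, hh_ζ, D.R.wt_false, Pi.neg_apply, D.R.wt_zi]

theorem hh_x_self (i : ι) (c : kˣ) (a : k) : D.hh i c * D.x i a = D.x i ((c : k) ^ 2 * a) * D.hh i c := by
  rw [hh_x, D.R.C_self, zpow_ofNat, Units.val_pow_eq_pow_val]

theorem nw_u (i : ι) (u : kˣ) : D.x i u * D.y i (-(u : k)⁻¹) * D.x i u = D.nw i * D.hh i u⁻¹ := by
  have h1 := D.rank i (u - 1) (-(u : k)⁻¹) u⁻¹ (by simp; field_simp; ring)
  have h2 : D.x i u = D.x i 1 * D.x i (u - 1) := by rw [← D.x_add]; congr 1; ring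
  have h3 := D.hh_x_self i u⁻¹ ((u : k) ^ 2)
  have h4 : -(u : k)⁻¹ / (u⁻¹ : kˣ) = -1 := by simp
  have h5 : ((u⁻¹ : kˣ) : k) ^ 2 * (u : k) ^ 2 = 1 := by simp
  have h6 : D.x i ((u - 1) / (u⁻¹ : kˣ)) * D.x i u = D.x i ((u : k) ^ 2) := by
    rw [← D.x_add]; congr 1; simp; ring
  rw [h4] at h1
  rw [h5] at h3
  calc D.x i u * D.y i (-(u : k)⁻¹) * D.x i u = D.x i 1 * (D.x i (u - 1) * D.y i (-(u : k)⁻¹)) * D.x i u := by
        rw [← mul_assoc (D.x i 1), ← h2]
    _ = D.x i 1 * D.y i (-1) * (D.hh i u⁻¹ * (D.x i ((u - 1) / (u⁻¹ : kˣ)) * D.x i u)) := by rw [h1]; group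
    _ = D.nw i * D.hh i u⁻¹ := by rw [h6, h3, nw]; group

theorem hh_nw (j i : ι) (c : kˣ) : D.hh j c * D.nw i = D.nw i * D.hh i (c ^ (-D.R.C j i)) * D.hh j c := by
  have h1 := D.nw_u i (c ^ D.R.C j i)
  rw [← zpow_neg] at h1
  rw [← h1, nw, ← mul_assoc, ← mul_assoc, hh_x, mul_assoc _ (D.hh j c), hh_y, ← mul_assoc, mul_assoc _ (D.hh j c), hh_x,
    ← mul_assoc]
  simp

theorem nw_x [Infinite k] (i : ι) (t : k) : D.nw i * D.x i t = D.y i (-t) * D.nw i := by
  have key : ∀ t : k, 1 + t ≠ 0 → D.nw i * D.x i t = D.y i (-t) * D.nw i := by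
    intro t ht
    let c : kˣ := Units.mk0 _ ht
    have hc : (c : k) = 1 + t := rfl
    have h1 := D.rank i t 1 c (by rw [hc, mul_one])
    have h2 := D.rank i 1 (-t / c) c⁻¹ (by rw [Units.val_inv_eq_inv_val, hc]; field_simp; ring)
    have h3 := D.hh_x_self i c⁻¹ (1 / (c⁻¹ : kˣ))
    have h4 : -t / c / (c⁻¹ : kˣ) = -t := by simp
    have h5 : D.y i (-1) * D.y i (1 / c) = D.y i (-t / c) := by
      rw [← D.y_add]; congr 1; rw [hc]; field_simp; ring
    have h6 : D.hh i c⁻¹ * D.hh i c = 1 := by rw [← D.hh_mul, inv_mul_cancel, hh_one]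
    have h7 := D.hh_x_self i c (t / c - 1)
    have h8 : D.x i (1 / (c⁻¹ : kˣ)) * D.x i ((c : k) ^ 2 * (t / c - 1)) = 1 := by
      rw [← D.x_add, ← D.x_zero i]; congr 1
      rw [Units.val_inv_eq_inv_val, hc]; field_simp; ring
    rw [h4] at h2
    have h9 : D.nw i * D.x i t * (D.nw i)⁻¹ = D.y i (-t) := by
      calc D.nw i * D.x i t * (D.nw i)⁻¹ = D.x i 1 * D.y i (-1) * (D.x i t * D.y i 1) * D.x i (-1) := by
            rw [nw, D.y_neg, D.x_neg, mul_assoc _ (D.x i 1) (D.x i t), ← D.x_add, add_comm, D.x_add]; group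
        _ = D.x i 1 * (D.y i (-1) * D.y i (1 / c)) * (D.hh i c * (D.x i (t / c) * D.x i (-1))) := by rw [h1]; group
        _ = D.y i (-t) * D.hh i c⁻¹ * (D.x i (1 / (c⁻¹ : kˣ)) * D.x i ((c : k) ^ 2 * (t / c - 1))) * D.hh i c := by
            rw [h5, h2, ← D.x_add, ← sub_eq_add_neg, h7]; group
        _ = D.y i (-t) := by rw [h8, mul_one, mul_assoc, h6, mul_one]
    rw [← h9, inv_mul_cancel_right]
  by_cases ht : 1 + t = 0
  · classical
    obtain ⟨a, ha⟩ := Infinite.exists_notMem_finset ({0, -1} : Finset k)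
    simp only [Finset.mem_insert, Finset.mem_singleton, not_or] at ha
    have h1 : t = a + (t - a) := by ring
    rw [h1, D.x_add, ← mul_assoc, key a fun h => ha.2 (by linear_combination h), mul_assoc,
      key (t - a) fun h => ha.1 (by linear_combination ht - h), ← mul_assoc, ← D.y_add, neg_add]
  · exact key t ht

theorem nw_y [Infinite k] (i : ι) (t : k) : D.nw i * D.y i t = D.x i (-t) * D.nw i := by
  have h1 := D.nw_u i (-1)
  have h2 : D.x i ((-1 : kˣ) : k) * D.y i (-((-1 : kˣ) : k)⁻¹) * D.x i ((-1 : kˣ) : k) = (D.nw i)⁻¹ := by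
    simp only [Units.val_neg, Units.val_one, inv_neg, inv_one, neg_neg, nw, D.x_neg, D.y_neg]; group
  rw [h2] at h1
  have h3 := D.hh_x_self i (-1)⁻¹ (-t)
  have h4 : (((-1 : kˣ)⁻¹ : kˣ) : k) ^ 2 * (-t) = -t := by simp
  rw [h4] at h3
  have h5 := D.nw_x i (-t)
  rw [neg_neg] at h5
  have h6 : D.hh i (-1)⁻¹ = (D.nw i)⁻¹ * (D.nw i)⁻¹ := by rw [inv_mul_eq_iff_eq_mul.mpr h1]
  rw [h6] at h3
  calc D.nw i * D.y i t = D.nw i * (D.y i t * D.nw i) * (D.nw i)⁻¹ := by group
    _ = D.nw i * D.nw i * (D.x i (-t) * ((D.nw i)⁻¹ * (D.nw i)⁻¹)) * D.nw i := by rw [← h5]; group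
    _ = D.x i (-t) * D.nw i := by rw [← h3]; group

theorem τ_nw [Infinite k] (i : ι) : D.τ (D.nw i) = (D.nw i)⁻¹ := by
  have h1 : D.nw i * D.nw i = D.y i (-1) * D.x i 1 * D.y i (-1) * D.nw i := by
    conv_lhs => rw [show D.nw i * D.nw i = D.nw i * D.x i 1 * D.y i (-1) * D.x i 1 by rw [nw]; group]
    rw [D.nw_x, mul_assoc (D.y i (-1)), D.nw_y, neg_neg, mul_assoc, mul_assoc, D.nw_x]; group
  rw [nw, D.τ_mul, D.τ_mul, D.τ_x, D.τ_y, ← nw, mul_right_cancel h1, D.x_neg, D.y_neg]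
  group

theorem nw_ζ [Infinite k] (i : ι) (x : Bool × Φ) : ∃ ε : kˣ, ∀ t, D.nw i * D.ζ x t = D.ζ (D.R.sr i x) (ε * t) * D.nw i := by
  rcases x with ⟨e, b⟩
  by_cases hb : b = D.R.zi i
  · subst hb
    refine ⟨-1, fun t => ?_⟩
    rw [D.R.sr_zi]
    rcases e with _ | _
    · rw [Bool.not_false, ζ_x, ζ_y, nw_y]; simp
    · rw [Bool.not_true, ζ_x, ζ_y, nw_x]; simp
  · obtain ⟨ε, h⟩ := D.n_z i b (by rwa [← D.zi_eq])
    refine ⟨ε, fun t => ?_⟩
    rw [D.R.sr_of_ne i e hb]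
    rcases e with _ | _
    · have h1 := congrArg D.τ (h t)
      rw [← nw, D.τ_mul, D.τ_mul, τ_nw] at h1
      rw [ζ_false, ζ_false]
      calc _ = D.nw i * (D.τ (D.z b t) * (D.nw i)⁻¹) * D.nw i := by group
        _ = _ := by rw [h1]; group
    · exact h t

end RDat

end Cfsg.Agent.TwoF.DC

private theorem dce_aff4c2a045e3 : _root_.True := by
  try have : _root_.True := by simp only [_root_.Cfsg.Agent.TwoF.DC.RDat.nw.eq_1]
  exact _root_.True.intro
end

-- part: TwoF/DC/HW/Lev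
section
prune_inst 0x431304d403d4202000018009083000100380004000040880420a0050201010262a042a8410a000512103a900018050020009800a04000000000003000000601209868c200830803040e0009000080000000000000000000000000000000010004000000000
set_option linter.all false
open scoped Cfsg.Agent.FastGrp

-- part: TwoF/DC/HW/Form
section
/-!
# TwoF, defining characteristic, TH1b (4): the invariant form, root strings (helper7)
-/

set_option autoImplicit false
set_option linter.unusedSectionVars false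
set_option linter.unusedVariables false

namespace Cfsg.Agent.TwoF.DC

namespace RC

variable {ι Φ : Type} [Fintype ι] [DecidableEq ι] [Fintype Φ] [DecidableEq Φ] (R : RC ι Φ)

/-- the invariant form on the weight lattice -/
def Qf (μ ν : ι → ℤ) : ℤ := ∑ x : Bool × Φ, R.pair μ x * R.pair ν x

theorem Qf_comm (μ ν : ι → ℤ) : R.Qf μ ν = R.Qf ν μ := Finset.sum_congr rfl fun _ _ => mul_comm _ _

theorem Qf_add (μ μ' ν : ι → ℤ) : R.Qf (μ + μ') ν = R.Qf μ ν + R.Qf μ' ν := by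
  simp [Qf, pair_add, add_mul, Finset.sum_add_distrib]

theorem Qf_smul (n : ℤ) (μ ν : ι → ℤ) : R.Qf (n • μ) ν = n * R.Qf μ ν := by
  simp only [Qf, pair_smul, Finset.mul_sum, mul_assoc]

theorem Qf_neg (μ ν : ι → ℤ) : R.Qf (-μ) ν = -R.Qf μ ν := by
  rw [← neg_one_smul ℤ μ, Qf_smul, neg_one_mul]

theorem Qf_sub (μ μ' ν : ι → ℤ) : R.Qf (μ - μ') ν = R.Qf μ ν - R.Qf μ' ν := by
  rw [sub_eq_add_neg, Qf_add, Qf_neg, ← sub_eq_add_neg]

theorem Qf_smul' (n : ℤ) (μ ν : ι → ℤ) : R.Qf μ (n • ν) = n * R.Qf μ ν := by rw [Qf_comm, Qf_smul, Qf_comm]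

theorem Qf_sub' (μ ν ν' : ι → ℤ) : R.Qf μ (ν - ν') = R.Qf μ ν - R.Qf μ ν' := by
  rw [Qf_comm, Qf_sub, Qf_comm, R.Qf_comm ν']

theorem Qf_swl (l : List ι) (μ ν : ι → ℤ) : R.Qf (R.swl l μ) (R.swl l ν) = R.Qf μ ν := by
  symm
  refine Fintype.sum_bijective (R.srl l) (Finite.injective_iff_bijective.mp (R.srl_inj l)) _ _ fun x => ?_
  rw [pair_swl_srl, pair_swl_srl]

theorem Qf_nonneg (μ : ι → ℤ) : 0 ≤ R.Qf μ μ := Finset.sum_nonneg fun _ _ => mul_self_nonneg _

theorem eq_zero_of_Qf {μ : ι → ℤ} (h : R.Qf μ μ = 0) : μ = 0 := by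
  funext i
  have := (Finset.sum_eq_zero_iff_of_nonneg fun _ _ => mul_self_nonneg _).mp h (true, R.zi i) (Finset.mem_univ _)
  rw [pair_zi] at this
  exact mul_self_eq_zero.mp this

theorem Qf_pos {μ : ι → ℤ} (h : μ ≠ 0) : 0 < R.Qf μ μ :=
  lt_of_le_of_ne (R.Qf_nonneg μ) fun e => h (R.eq_zero_of_Qf e.symm)

/-- the squared length of a root -/
def len (x : Bool × Φ) : ℤ := R.Qf (R.wt x) (R.wt x)

theorem len_pos (x : Bool × Φ) : 0 < R.len x := R.Qf_pos (R.wt_ne_zero x)

theorem two_Qf (μ : ι → ℤ) (x : Bool × Φ) : 2 * R.Qf μ (R.wt x) = R.pair μ x * R.len x := by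
  obtain ⟨l, hl⟩ := R.exists_rf_eq x
  have h := R.Qf_swl l μ (R.wt x)
  rw [← hl, ← hl, rf, rf, pair_wt_self, Qf_sub, Qf_smul, Qf_sub', Qf_sub', Qf_smul', Qf_smul'] at h
  rw [len]
  linarith

theorem pair_len (x y : Bool × Φ) : R.pair (R.wt y) x * R.len x = R.pair (R.wt x) y * R.len y := by
  rw [← two_Qf, ← two_Qf, Qf_comm]

theorem pair_pos_comm (x y : Bool × Φ) : 0 < R.pair (R.wt y) x ↔ 0 < R.pair (R.wt x) y := by
  rw [← mul_pos_iff_of_pos_right (R.len_pos x), pair_len, mul_pos_iff_of_pos_right (R.len_pos y)]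

theorem cov_len (x : Bool × Φ) (j : ι) : R.cov x j * R.len x = R.vec x j * R.len (true, R.zi j) := by
  rw [← pair_single, ← two_Qf, Qf_comm]
  have h1 : R.wt x = ∑ i, R.vec x i • R.wt (true, R.zi i) := by
    funext m; simp [wt_zi, Finset.sum_apply]; simp [wt, toWt, mul_comm]
  have h2 : ∀ (s : Finset ι) (f : ι → ι → ℤ) (ν : ι → ℤ), R.Qf (∑ i ∈ s, f i) ν = ∑ i ∈ s, R.Qf (f i) ν := by
    intro s f ν
    induction s using Finset.induction_on with
    | empty => simp [Qf, pair_zero]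
    | insert a s ha ih => rw [Finset.sum_insert ha, Finset.sum_insert ha, Qf_add, ih]
  rw [h1, h2, Finset.mul_sum, Finset.sum_eq_single j]
  · rw [Qf_smul, mul_left_comm, Qf_comm, two_Qf, pair_zi, Pi.single_eq_same, one_mul]
  · intro i _ hi
    rw [Qf_smul, mul_left_comm, Qf_comm, two_Qf, pair_zi, Pi.single_eq_of_ne hi, zero_mul, mul_zero]
  · intro h; exact (h (Finset.mem_univ _)).elim

theorem co_pos_iff (b : Φ) (j : ι) : 0 < R.co b j ↔ 0 < R.cf b j := by
  have h := R.cov_len (true, b) j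
  rw [cov_true, vec_true] at h
  rw [← Int.natCast_pos, ← Int.natCast_pos, ← mul_pos_iff_of_pos_right (R.len_pos (true, b)), h,
    mul_pos_iff_of_pos_right (R.len_pos _)]

theorem eq_or_ng_of_smul {x y : Bool × Φ} {m n : ℤ} (hm : m ≠ 0) (h : m • R.vec y = n • R.vec x) : y = x ∨ y = ng x := by
  obtain ⟨l, i, rfl⟩ := R.exists_srl_zi x
  have h1 : m • R.vec (R.srl l.reverse y) = n • R.vec (true, R.zi i) := by
    apply R.toWt_inj
    apply R.swl_inj l
    rw [← toWt_svl, ← toWt_svl, svl_smul, svl_smul, ← vec_srl, ← vec_srl, srl_srl_rev, h]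
  rw [← R.srl_srl_rev l y, ← srl_ng]
  generalize R.srl l.reverse y = z at h1
  have h2 : z.2 = R.zi i := by
    refine R.red _ i (R.cf z.2 i) (funext fun j => ?_)
    by_cases hj : j = i
    · simp [hj]
    · have h3 := congrFun h1 j
      rcases z with ⟨_ | _, a⟩ <;> simp [vec_zi, hj, hm, vec] at h3 ⊢ <;> exact h3
  rcases z with ⟨_ | _, a⟩
  · right; cases h2; rfl
  · left; cases h2; rfl

theorem pair_mul_lt {x y : Bool × Φ} (h1 : y ≠ x) (h2 : y ≠ ng x) : R.pair (R.wt y) x * R.pair (R.wt x) y < 4 := by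
  have h3 : (2 : ℤ) • R.wt y - R.pair (R.wt y) x • R.wt x ≠ 0 := by
    intro h
    have h4 : (2 : ℤ) • R.vec y = R.pair (R.wt y) x • R.vec x := by
      apply R.toWt_inj
      rw [toWt_smul, toWt_smul]
      exact sub_eq_zero.mp h
    exact (R.eq_or_ng_of_smul two_ne_zero h4).elim h1 h2
  have h5 := R.Qf_pos h3
  rw [Qf_sub, Qf_smul, Qf_smul, Qf_sub', Qf_sub', Qf_smul', Qf_smul', Qf_smul', Qf_smul', R.Qf_comm (R.wt x) (R.wt y)]
    at h5
  have h6 := R.two_Qf (R.wt y) x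
  have h7 := R.pair_len x y
  have h8 := R.len_pos y
  rw [← len, ← len] at h5
  have e1 := congrArg (R.pair (R.wt y) x * ·) h6
  have e2 := congrArg (R.pair (R.wt y) x * ·) h7
  have h9 : R.pair (R.wt y) x * R.pair (R.wt x) y * R.len y < 4 * R.len y := by linarith
  exact lt_of_mul_lt_mul_right h9 h8.le

theorem pair_le_three (x y : Bool × Φ) : R.pair (R.wt y) x ≤ 3 := by
  by_cases h1 : y = x
  · rw [h1, pair_wt_self]; omega
  by_cases h2 : y = ng x
  · rw [h2, wt_ng, pair_neg, pair_wt_self]; omega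
  by_contra hc
  have h3 := R.pair_mul_lt h1 h2
  have h4 := (R.pair_pos_comm x y).mp (by omega)
  nlinarith

theorem neg_three_le_pair (x y : Bool × Φ) : -3 ≤ R.pair (R.wt y) x := by
  have := R.pair_le_three (ng x) y
  rw [pair_ng] at this
  omega

theorem pair_eq_one_or {x y : Bool × Φ} (h1 : y ≠ x) (h : 0 < R.pair (R.wt y) x) :
    R.pair (R.wt y) x = 1 ∨ R.pair (R.wt x) y = 1 := by
  have h2 : y ≠ ng x := fun e => by rw [e, wt_ng, pair_neg, pair_wt_self] at h; omega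
  have h3 := R.pair_mul_lt h1 h2
  have h4 := (R.pair_pos_comm x y).mp h
  by_contra hc
  push Not at hc
  have h5 : 2 ≤ R.pair (R.wt y) x := by omega
  have h6 : 2 ≤ R.pair (R.wt x) y := by omega
  nlinarith

/-- an acute angle: the difference is a root -/
theorem isRt_sub {x y : Bool × Φ} (h1 : y ≠ x) (h : 0 < R.pair (R.wt y) x) : R.IsRt (R.vec y - R.vec x) := by
  rcases R.pair_eq_one_or h1 h with h2 | h2
  · simpa [h2] using R.isRt_rf x y
  · have := R.isRt_neg (R.isRt_rf y x)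
    simpa [h2] using this

/-- an obtuse angle: the sum is a root -/
theorem isRt_add {x y : Bool × Φ} (h1 : y ≠ ng x) (h : R.pair (R.wt y) x < 0) : R.IsRt (R.vec x + R.vec y) := by
  have := R.isRt_sub h1 (by rw [pair_ng]; omega)
  rwa [vec_ng, sub_neg_eq_add, add_comm] at this

theorem pair_of_isRt {c : ι → ℤ} (h : R.IsRt c) (x : Bool × Φ) :
    -3 ≤ R.pair (R.toWt c) x ∧ R.pair (R.toWt c) x ≤ 3 := by
  obtain ⟨z, rfl⟩ := h
  exact ⟨R.neg_three_le_pair x z, R.pair_le_three x z⟩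

theorem pair_string (x y : Bool × Φ) (n : ℤ) : R.pair (R.toWt (R.vec y - n • R.vec x)) x = R.pair (R.wt y) x - 2 * n := by
  rw [toWt_sub, toWt_smul, pair_sub, pair_smul, ← wt, ← wt, pair_wt_self, mul_comm]

theorem pair_add_string (x y : Bool × Φ) : R.pair (R.toWt (R.vec x + R.vec y)) x = R.pair (R.wt y) x + 2 := by
  rw [toWt_add, pair_add, ← wt, ← wt, pair_wt_self, add_comm]

/-- the lower part of the root string -/
theorem exists_string (x y : Bool × Φ) : ∃ r : ℕ, (∀ j : ℕ, j ≤ r → R.IsRt (R.vec y - (j : ℤ) • R.vec x)) ∧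
    ¬ R.IsRt (R.vec y - ((r : ℤ) + 1) • R.vec x) := by
  classical
  have h : ∃ r : ℕ, ¬ R.IsRt (R.vec y - ((r : ℤ) + 1) • R.vec x) := ⟨3, fun h => by
    have h1 := (R.pair_of_isRt h x).1
    have h2 := R.pair_le_three x y
    rw [pair_string] at h1
    omega⟩
  refine ⟨Nat.find h, fun j hj => ?_, Nat.find_spec h⟩
  rcases j with _ | j
  · simpa using R.isRt_vec y
  · have := Nat.find_min h (m := j) (by omega)
    push Not at this
    exact_mod_cast this

theorem nz_of_string {p : ℕ} {x y : Bool × Φ} (h : R.IsRt (R.vec x + R.vec y))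
    (hp : ∀ r : ℕ, R.IsRt (R.vec y - (r : ℤ) • R.vec x) → ¬ p ∣ r + 1) : R.NZ p x y := by
  obtain ⟨r, h1, h2⟩ := R.exists_string x y
  exact ⟨h, r, h1, h2, hp r (h1 r le_rfl)⟩

/-- all pairings of roots are `< p` : no structure constant vanishes -/
theorem nz_of_lt {p : ℕ} (hp : ∀ x y, R.pair (R.wt x) y < p ∨ x = y) (hp1 : p ≠ 1) {x y : Bool × Φ}
    (h : R.IsRt (R.vec x + R.vec y)) : R.NZ p x y := by
  refine R.nz_of_string h fun r hr hd => ?_
  have h0 := Nat.le_of_dvd (Nat.succ_pos r) hd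
  obtain ⟨z, hz⟩ := h
  obtain ⟨z', hz'⟩ := hr
  have h1 := R.pair_add_string x y
  have h2 := R.pair_string x y r
  rw [← hz, ← wt] at h1
  rw [← hz', ← wt] at h2
  have h4 := hp z' (ng x)
  rw [pair_ng] at h4
  have h5 : z ≠ x := fun e => R.vec_ne_zero y (by rw [e] at hz; exact left_eq_add.mp hz)
  have h3 := (hp z x).resolve_right h5
  rcases h4 with h4 | h4
  · omega
  · rw [h4, vec_ng] at hz'
    have h6 : (1 : ℤ) • R.vec y = ((r : ℤ) - 1) • R.vec x := by
      rw [one_smul, sub_smul, one_smul, ← sub_add_cancel (R.vec y) ((r : ℤ) • R.vec x), ← hz']; abel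
    have h7 : (1 : ℤ) • R.vec z = (r : ℤ) • R.vec x := by
      rw [one_smul] at h6 ⊢; rw [hz, h6, sub_smul, one_smul]; abel
    rcases R.eq_or_ng_of_smul one_ne_zero h7 with h8 | h8
    · exact h5 h8
    · rw [h8, wt_ng, pair_neg, pair_wt_self] at h1
      have := R.neg_three_le_pair x y
      omega

theorem exists_cf_sub {a : Φ} {i : ι} (ha : a ≠ R.zi i) (hi : 0 < R.wt (true, a) i) :
    ∃ a', R.cf a = R.cf (R.zi i) + R.cf a' := by
  obtain ⟨z, hz⟩ := R.isRt_sub (x := (true, R.zi i)) (y := (true, a)) (fun e => ha (congrArg Prod.snd e))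
    (by rwa [pair_zi])
  have h1 : z.1 = true := by
    by_contra hc
    apply ha
    refine R.red a i (R.cf a i) (funext fun j => ?_)
    by_cases hj : j = i
    · simp [hj]
    · have h3 := congrFun hz j
      rcases z with ⟨_ | _, c⟩
      · simp [vec_zi, hj, vec_false, vec_true] at h3 ⊢; omega
      · simp at hc
  rcases z with ⟨e, c⟩
  cases h1
  exact ⟨c, R.cf_of_vec (by rw [hz]; abel)⟩

theorem exists_cf_add {a : Φ} (ha : ∀ i, a ≠ R.zi i) : ∃ i a', R.cf a = R.cf (R.zi i) + R.cf a' := by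
  obtain ⟨i, hi⟩ := R.desc a ha
  obtain ⟨a', h⟩ := R.exists_cf_sub (ha i) (by simpa only [wt, toWt, vec_true] using hi)
  exact ⟨i, a', h⟩

/-- the chain condition holds if `p` is larger than the pairings of different roots -/
theorem ch_of_lt {p : ℕ} (hp : ∀ x y, R.pair (R.wt x) y < p ∨ x = y) (hp1 : p ≠ 1) (J : ι → Prop) : R.Ch p J :=
  R.ch_of_nz (fun _ _ h => R.nz_of_lt hp hp1 h) R.co_pos_iff
    (fun a ha => by obtain ⟨i, a', h⟩ := R.exists_cf_add ha; exact ⟨_, a', h⟩) J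

/-- if the structure constant vanishes, the lower part of the string has length exactly `p - 1` -/
theorem string_of_not_nz {p : ℕ} (hp : p.Prime) {x y : Bool × Φ} (h : R.IsRt (R.vec x + R.vec y)) (hn : ¬ R.NZ p x y) :
    (∀ j : ℕ, j < p → R.IsRt (R.vec y - (j : ℤ) • R.vec x)) ∧ ¬ R.IsRt (R.vec y - (p : ℤ) • R.vec x) := by
  obtain ⟨r, h1, h2⟩ := R.exists_string x y
  have h3 : p ∣ r + 1 := by
    by_contra hc; exact hn ⟨h, r, h1, h2, hc⟩
  have h4 := (R.pair_of_isRt h x).2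
  have h5 := (R.pair_of_isRt (h1 r le_rfl) x).1
  rw [pair_add_string] at h4
  rw [pair_string] at h5
  have h6 : r + 1 = p := by
    obtain ⟨c, hc⟩ := h3
    have h7 := hp.two_le
    rcases c with _ | _ | c
    · omega
    · omega
    · nlinarith
  subst h6
  exact ⟨fun j hj => h1 j (by omega), by exact_mod_cast h2⟩

end RC

namespace HW

variable {ι Φ : Type} [Fintype ι] [DecidableEq ι] [Fintype Φ] [DecidableEq Φ] {R : RC ι Φ} {p : ℕ} {k L : Type}
  [Field k] [AddCommGroup L] [Module k L] (H : HW R p k L)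

theorem E1_pow (x : Bool × Φ) (n : ℕ) : H.E x 1 ^ n = (n.factorial : k) • H.E x n := by
  induction n with
  | zero => simp [H.E_zero]
  | succ n ih => rw [pow_succ, ih, smul_mul_assoc, H.E_mul_E1, smul_smul, Nat.factorial_succ, Nat.cast_mul, mul_comm]

include H in
theorem nontrivial_L : Nontrivial L := by
  obtain ⟨v, -, h0⟩ := H.isWt_iff.mp H.isWt_lz
  exact ⟨v, 0, h0⟩

variable [CharP k p] [Fact p.Prime]

theorem E1_pow_p (x : Bool × Φ) : H.E x 1 ^ p = 0 := by
  rw [E1_pow, (CharP.cast_eq_zero_iff k p _).mpr (Nat.dvd_factorial (Fact.out : p.Prime).pos le_rfl), zero_smul]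

/-- if the structure constant vanishes in characteristic `p`, the root operators commute -/
theorem comm_of_not_nz {x y : Bool × Φ} (h0 : R.vec x + R.vec y ≠ 0) (hn : ¬ R.NZ p x y) :
    H.E x 1 * H.E y 1 = H.E y 1 * H.E x 1 := by
  by_cases h : R.IsRt (R.vec x + R.vec y)
  swap
  · exact H.br0 x y h0 h
  have hp : p.Prime := Fact.out
  obtain ⟨h1, h2⟩ := R.string_of_not_nz hp h hn
  let ad : Module.End k (Module.End k L) := LinearMap.mulLeft k (H.E x 1) - LinearMap.mulRight k (H.E x 1)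
  have had : ∀ f, ad f = H.E x 1 * f - f * H.E x 1 := fun f => rfl
  have hpow : ad ^ p = 0 := by
    have := H.nontrivial_L
    have : CharP (Module.End k (Module.End k L)) p := charP_of_injective_algebraMap (algebraMap k _).injective p
    rw [sub_pow_char_of_commute _ (LinearMap.commute_mulLeft_right _ _), LinearMap.pow_mulLeft, LinearMap.pow_mulRight,
      H.E1_pow_p, LinearMap.mulLeft_zero_eq_zero, LinearMap.mulRight_zero_eq_zero, sub_zero]
  obtain ⟨z₀, hz₀⟩ := h1 (p - 1) (Nat.sub_lt hp.pos Nat.one_pos)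
  have key : ∀ t j : ℕ, t + j + 1 = p → ∀ z, R.vec z = R.vec y - (j : ℤ) • R.vec x →
      ∃ c : k, c ≠ 0 ∧ (ad ^ t) (H.E z₀ 1) = c • H.E z 1 := by
    intro t
    induction t with
    | zero =>
      intro j hj z hz
      have : z = z₀ := R.vec_inj (by rw [hz, hz₀]; congr 3; omega)
      exact ⟨1, one_ne_zero, by simp [this]⟩
    | succ t ih =>
      intro j hj z hz
      obtain ⟨z', hz'⟩ := h1 (j + 1) (by omega)
      obtain ⟨c, hc, h3⟩ := ih (j + 1) (by omega) z' hz'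
      have h4 : R.vec z = R.vec x + R.vec z' := by rw [hz, hz']; push_cast; module
      obtain ⟨N, hN, hN'⟩ := H.br x z' z h4
      have h5 : R.NZ p x z' := by
        refine ⟨⟨z, h4⟩, t, fun i hi => ?_, ?_, Nat.not_dvd_of_pos_of_lt (Nat.succ_pos t) (by omega)⟩
        · have := h1 (j + 1 + i) (by omega)
          convert this using 1
          rw [hz']; push_cast; module
        · intro h6
          apply h2
          convert h6 using 1
          rw [hz', ← hj]; push_cast; module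
      exact ⟨c * N, mul_ne_zero hc (hN' h5), by rw [pow_succ', Module.End.mul_apply, h3, map_smul, had, hN, smul_smul]⟩
  obtain ⟨c, hc, h7⟩ := key (p - 1) 0 (by have := hp.pos; omega) y (by simp)
  have h8 : (ad ^ p) (H.E z₀ 1) = c • ad (H.E y 1) := by
    rw [← map_smul, ← h7, ← Module.End.mul_apply, ← pow_succ', Nat.sub_add_cancel hp.pos]
  rw [hpow, LinearMap.zero_apply, had] at h8
  exact sub_eq_zero.mp ((smul_eq_zero.mp h8.symm).resolve_left hc)

theorem comm_of_ab {S : Finset Φ} (hS : R.Ab p S) {a b : Φ} (ha : a ∈ S) (hb : b ∈ S) :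
    H.E (true, a) 1 * H.E (true, b) 1 = H.E (true, b) 1 * H.E (true, a) 1 := by
  refine H.comm_of_not_nz (fun h => ?_) (hS a ha b hb)
  obtain ⟨j, hj⟩ := R.exists_cf_pos a
  have := congrFun h j
  simp only [Pi.add_apply, RC.vec_true, Pi.zero_apply] at this
  omega

end HW

end Cfsg.Agent.TwoF.DC
end

-- part: TwoF/DC/HW/Lev
section
/-!
# TwoF, defining characteristic, TH1b (5): levels, Smith's theorem, `kerL = kerG`, minuscule modules (helper7)
-/

set_option autoImplicit false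
set_option linter.unusedSectionVars false
set_option linter.unusedVariables false

namespace Cfsg.Agent.TwoF.DC

open Module

/-- the value of the functional `h` on the vector `c` of the root lattice -/
def hd {ι : Type} [Fintype ι] (h c : ι → ℤ) : ℤ := ∑ i, h i * c i

section hd

variable {ι : Type} [Fintype ι] (h : ι → ℤ)

theorem hd_add (c d : ι → ℤ) : hd h (c + d) = hd h c + hd h d := by simp [hd, mul_add, Finset.sum_add_distrib]

theorem hd_smul (n : ℤ) (c : ι → ℤ) : hd h (n • c) = n * hd h c := by simp [hd, Finset.mul_sum, mul_left_comm]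

theorem hd_neg (c : ι → ℤ) : hd h (-c) = -hd h c := by simp [hd]

theorem hd_sub (c d : ι → ℤ) : hd h (c - d) = hd h c - hd h d := by
  rw [sub_eq_add_neg, hd_add, hd_neg, ← sub_eq_add_neg]

theorem hd_single [DecidableEq ι] (j : ι) (c : ι → ℤ) : hd (Pi.single j 1) c = c j := by simp [hd, Pi.single_apply]

end hd

theorem RC.hv_eq {ι Φ : Type} [Fintype ι] [DecidableEq ι] [DecidableEq Φ] (R : RC ι Φ) (h : ι → ℤ) (b : Φ) :
    R.hv h b = hd h (R.vec (true, b)) := by simp [RC.hv, hd, RC.vec_true]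

theorem RC.hv_single {ι Φ : Type} [Fintype ι] [DecidableEq ι] [DecidableEq Φ] (R : RC ι Φ) (j : ι) (b : Φ) :
    R.hv (Pi.single j 1) b = R.cf b j := by rw [RC.hv_eq, hd_single, RC.vec_true]

theorem RC.Up.idl {ι Φ : Type} [Fintype ι] [DecidableEq ι] [DecidableEq Φ] {R : RC ι Φ} {M : Finset Φ} (h : R.Up M)
    (p : ℕ) : R.Idl p M := fun b hb β a h1 _ => h b hb β a 1 (by rw [h1, one_smul])

namespace HW

variable {ι Φ : Type} [Fintype ι] [DecidableEq ι] [DecidableEq Φ] {R : RC ι Φ} {p : ℕ} {k L : Type} [Field k]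
  [AddCommGroup L] [Module k L] (H : HW R p k L)

/-! ### levels -/

/-- the level of a weight for the functional `h` -/
noncomputable def lev (h μ : ι → ℤ) : ℤ := hd h (H.dep μ)

theorem lev_single (j : ι) (μ : ι → ℤ) : H.lev (Pi.single j 1) μ = H.dep μ j := hd_single j _

theorem lev_add_toWt (h : ι → ℤ) {μ : ι → ℤ} (hμ : H.IsWt μ) (c : ι → ℤ) :
    H.lev h (μ + R.toWt c) = H.lev h μ - hd h c := by
  rw [lev, H.dep_add_toWt hμ, hd_sub, lev]

theorem lev_nonneg {h : ι → ℤ} (hh : ∀ i, 0 ≤ h i) {μ : ι → ℤ} (hμ : H.IsWt μ) : 0 ≤ H.lev h μ :=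
  Finset.sum_nonneg fun i _ => mul_nonneg (hh i) (H.dep_nonneg hμ i)

/-- an operator which raises by more than the range of the levels is zero -/
theorem hom_eq_zero_of_lev {f : Module.End k L} {c : ι → ℤ} (hf : H.Hom f (R.toWt c)) (h : ι → ℤ) {lo r : ℤ}
    (hr : ∀ μ, H.IsWt μ → lo ≤ H.lev h μ ∧ H.lev h μ < lo + r) (hc : r ≤ hd h c) : f = 0 :=
  hf.eq_zero fun μ hμ h' => by
    have h1 := (hr _ h').1
    have h2 := (hr _ hμ).2
    rw [H.lev_add_toWt h hμ] at h1
    omega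

theorem cubic_of_lev (S : Finset Φ) (h : ι → ℤ) {t lo : ℤ} (hS : ∀ b ∈ S, t ≤ R.hv h b)
    (hr : ∀ μ, H.IsWt μ → lo ≤ H.lev h μ ∧ H.lev h μ < lo + 3 * t) :
    ∀ a ∈ S, ∀ b ∈ S, ∀ c ∈ S, ∀ l m n, 0 < l → 0 < m → 0 < n →
      H.E (true, a) l * H.E (true, b) m * H.E (true, c) n = 0 := by
  intro a ha b hb c hc l m n hl hm hn
  have h0 := hr _ H.isWt_lz
  have hf := ((H.hom_E (true, a) l).mul (H.hom_E (true, b) m)).mul (H.hom_E (true, c) n)
  simp only [RC.wt, ← R.toWt_smul, ← R.toWt_add] at hf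
  refine H.hom_eq_zero_of_lev hf h hr ?_
  rw [hd_add, hd_add, hd_smul, hd_smul, hd_smul, ← R.hv_eq, ← R.hv_eq, ← R.hv_eq]
  have h1 := hS a ha
  have h2 := hS b hb
  have h3 := hS c hc
  have h4 : (1 : ℤ) ≤ l := by exact_mod_cast hl
  have h5 : (1 : ℤ) ≤ m := by exact_mod_cast hm
  have h6 : (1 : ℤ) ≤ n := by exact_mod_cast hn
  nlinarith

theorem quad_of_lev (S : Finset Φ) (h : ι → ℤ) {t lo : ℤ} (hS : ∀ b ∈ S, t ≤ R.hv h b)
    (hr : ∀ μ, H.IsWt μ → lo ≤ H.lev h μ ∧ H.lev h μ < lo + 2 * t) :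
    ∀ a ∈ S, ∀ b ∈ S, ∀ l m, 0 < l → 0 < m → H.E (true, a) l * H.E (true, b) m = 0 := by
  intro a ha b hb l m hl hm
  have h0 := hr _ H.isWt_lz
  have hf := (H.hom_E (true, a) l).mul (H.hom_E (true, b) m)
  simp only [RC.wt, ← R.toWt_smul, ← R.toWt_add] at hf
  refine H.hom_eq_zero_of_lev hf h hr ?_
  rw [hd_add, hd_smul, hd_smul, ← R.hv_eq, ← R.hv_eq]
  have h1 := hS a ha
  have h2 := hS b hb
  have h4 : (1 : ℤ) ≤ l := by exact_mod_cast hl
  have h5 : (1 : ℤ) ≤ m := by exact_mod_cast hm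
  nlinarith

theorem E_eq_zero_of_lev (b : Φ) (h : ι → ℤ) {r lo : ℤ} (hr : ∀ μ, H.IsWt μ → lo ≤ H.lev h μ ∧ H.lev h μ < lo + r)
    {n : ℕ} (hn : r ≤ n * R.hv h b) : H.E (true, b) n = 0 := by
  have hf := H.hom_E (true, b) n
  simp only [RC.wt, ← R.toWt_smul] at hf
  exact H.hom_eq_zero_of_lev hf h hr (by rwa [hd_smul, ← R.hv_eq])

/-- cubic or quadratic action from the set of weights -/
theorem cubic_of_wt (S : Finset Φ) (h : ∀ a ∈ S, ∀ b ∈ S, ∀ c ∈ S, ∀ l m n : ℕ, 0 < l → 0 < m → 0 < n → ∀ μ, H.IsWt μ →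
    ¬ H.IsWt (μ + ((l : ℤ) • R.wt (true, a) + (m : ℤ) • R.wt (true, b) + (n : ℤ) • R.wt (true, c)))) :
    ∀ a ∈ S, ∀ b ∈ S, ∀ c ∈ S, ∀ l m n, 0 < l → 0 < m → 0 < n →
      H.E (true, a) l * H.E (true, b) m * H.E (true, c) n = 0 := fun a ha b hb c hc l m n hl hm hn =>
  (((H.hom_E (true, a) l).mul (H.hom_E (true, b) m)).mul (H.hom_E (true, c) n)).eq_zero
    (h a ha b hb c hc l m n hl hm hn)

/-! ### the path to the highest weight, Smith's theorem -/

/-- a graded subspace which is invariant under the positive root operators: from every weight there is a path to the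
highest weight -/
theorem path_induction {N : Submodule k L} (hN : ∀ v ∈ N, ∀ β, H.E (true, β) 1 v ∈ N) {P : (ι → ℤ) → Prop}
    (h0 : P H.lz) (h1 : ∀ μ β, (∃ v ∈ N, v ∈ H.w μ ∧ H.E (true, β) 1 v ≠ 0) → P (μ + R.wt (true, β)) → P μ)
    {μ : ι → ℤ} {v : L} (hv : v ∈ N) (hμ : v ∈ H.w μ) (hv0 : v ≠ 0) : P μ := by
  refine H.dep_induction (P := fun μ => ∀ v ∈ N, v ∈ H.w μ → v ≠ 0 → P μ) (fun μ hμ ih v hv hw h2 => ?_) μ
    (H.isWt_of_mem hμ hv0) v hv hμ hv0
  by_cases h3 : ∀ β, H.E (true, β) 1 v = 0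
  · have h4 : v ∈ H.w H.lz := H.curtis v h3
    by_cases h5 : μ = H.lz
    · rw [h5]; exact h0
    · exact (h2 (by rw [← H.pr_of_mem h4, H.pr_of_ne hw h5])).elim
  · push Not at h3
    obtain ⟨β, hβ⟩ := h3
    refine h1 μ β ⟨v, hv, hw, hβ⟩ (ih _ (H.isWt_of_mem (H.E1_w _ hw) hβ) ?_ _ (hN v hv β) (H.E1_w _ hw) hβ)
    simpa using H.sum_dep_lt hμ β one_pos

theorem E_mem_kerL_of_up {S : Finset Φ} (hS : ∀ b ∈ S, ∀ β a, R.cf a = R.cf β + R.cf b → a ∈ S) {v : L}
    (hv : v ∈ H.kerL S) (β : Φ) : H.E (true, β) 1 v ∈ H.kerL S := by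
  refine H.mem_kerL.mpr fun b hb => ?_
  have h0 := H.mem_kerL.mp hv b hb
  by_cases hn : R.IsRt (R.vec (true, β) + R.vec (true, b))
  · obtain ⟨z, hz⟩ := hn
    have h1 : z.1 = true := R.pos_of_vec_ge fun j => by
      rw [hz, Pi.add_apply, RC.vec_true, RC.vec_true]; positivity
    rcases z with ⟨e, a⟩
    cases h1
    obtain ⟨N, hN, -⟩ := H.br _ _ _ hz
    have h2 := congrArg (fun f : Module.End k L => f v) hN
    simp only [LinearMap.sub_apply, Module.End.mul_apply, h0, map_zero, zero_sub, LinearMap.smul_apply,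
      H.mem_kerL.mp hv a (hS b hb β a (R.cf_of_vec hz)), smul_zero, neg_eq_zero] at h2
    exact h2
  · have h1 := H.br0 _ _ (fun h => by
      obtain ⟨j, hj⟩ := R.exists_cf_pos b
      have := congrFun h j
      simp only [Pi.add_apply, RC.vec_true, Pi.zero_apply] at this
      omega) hn
    rw [← Module.End.mul_apply, ← h1, Module.End.mul_apply, h0, map_zero]

section smith

variable {M : Finset Φ} {J : ι → Prop} (hM : ∀ b, b ∈ M ↔ ∃ j, J j ∧ 0 < R.cf b j)
include hM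

/-- **Smith**: the vectors killed by the radical `M` of a parabolic subalgebra lie in the top level -/
theorem smith {μ : ι → ℤ} {v : L} (hv : v ∈ H.kerL M) (hμ : v ∈ H.w μ) (hv0 : v ≠ 0) : ∀ j, J j → H.dep μ j = 0 := by
  refine H.path_induction (P := fun μ => ∀ j, J j → H.dep μ j = 0) (fun v hv β => H.E_mem_kerL_of_up ?_ hv β)
    (fun j _ => by rw [dep_lz]; rfl) ?_ hv hμ hv0
  · intro b hb β a h1
    obtain ⟨j, hj, h2⟩ := (hM b).mp hb
    exact (hM a).mpr ⟨j, hj, by rw [h1, Pi.add_apply]; omega⟩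
  · rintro μ β ⟨v, hv, hw, hβ⟩ h1 j hj
    have h2 : β ∉ M := fun h => hβ (H.mem_kerL.mp hv β h)
    have h3 : R.cf β j = 0 := by
      by_contra h; exact h2 ((hM β).mpr ⟨j, hj, Nat.pos_of_ne_zero h⟩)
    have h4 := h1 j hj
    rw [H.dep_add_wt (H.isWt_of_mem hw fun e => hβ (by rw [e, map_zero])), Pi.sub_apply, RC.vec_true, h3] at h4
    simpa using h4

theorem w_le_kerG {μ : ι → ℤ} (hμ : H.IsWt μ) (h : ∀ j, J j → H.dep μ j = 0) : H.w μ ≤ H.kerG M := fun v hv =>
  H.mem_kerG.mpr fun b hb n hn => by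
    obtain ⟨j, hj, h1⟩ := (hM b).mp hb
    refine H.eq_zero_of_not_isWt (H.not_isWt_of_dep hμ (j := j) ?_) (H.E_w _ n μ v hv)
    rw [h j hj, RC.vec_true]; positivity

theorem kerL_le_kerG_smith : H.kerL M ≤ H.kerG M := fun v hv => by
  rw [← H.sum_pr v]
  refine Submodule.sum_mem _ fun μ hμ => ?_
  by_cases h0 : H.pr μ v = 0
  · rw [h0]; exact Submodule.zero_mem _
  · exact H.w_le_kerG hM (H.mem_Wts.mp hμ) (H.smith hM (H.gr_kerL M v hv μ) (H.pr_mem μ v) h0) (H.pr_mem μ v)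

theorem cG_smith : H.cG M = H.cL M := H.cG_eq_cL (H.kerL_le_kerG_smith hM)

theorem sum_m_le_cL_smith (A : Finset (ι → ℤ)) (hA : ∀ μ ∈ A, ∃ j, J j ∧ H.dep μ j ≠ 0) : ∑ μ ∈ A, H.m μ ≤ H.cL M :=
  H.sum_m_le_cL M A fun μ hμ v hv h => by
    obtain ⟨j, hj, h1⟩ := hA μ hμ
    by_contra h0
    exact h1 (H.smith hM (H.mem_kerL.mpr h) hv h0 j hj)

theorem card_le_cL_smith (A : Finset (ι → ℤ)) (hA : ∀ μ ∈ A, H.IsWt μ ∧ ∃ j, J j ∧ H.dep μ j ≠ 0) :
    A.card ≤ H.cL M := by
  rw [Finset.card_eq_sum_ones]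
  exact le_trans (Finset.sum_le_sum fun μ hμ => H.isWt_iff_m.mp (hA μ hμ).1)
    (H.sum_m_le_cL_smith hM A fun μ hμ => (hA μ hμ).2)

end smith

/-! ### `kerL = kerG` -/

theorem kerL_le_kerG_of_w {S : Finset Φ} (h : ∀ μ, H.IsWt μ → ∀ v ∈ H.w μ, v ∈ H.kerL S → v ∈ H.kerG S) :
    H.kerL S ≤ H.kerG S := fun v hv => by
  rw [← H.sum_pr v]
  exact Submodule.sum_mem _ fun μ hμ => h μ (H.mem_Wts.mp hμ) _ (H.pr_mem μ v) (H.gr_kerL S v hv μ)

theorem kerL_le_kerG [CharP k p] {S : Finset Φ} (h : ∀ b ∈ S, ∀ n, 0 < n → p ∣ n → H.E (true, b) n = 0) :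
    H.kerL S ≤ H.kerG S := fun v hv => H.mem_kerG.mpr fun b hb n hn => by
  by_cases h1 : p ∣ n
  · rw [h b hb n hn h1]; rfl
  · exact H.E_of_E1 (H.mem_kerL.mp hv b hb) h1

/-- a cubic set in odd characteristic -/
theorem kerL_le_kerG_of_three [CharP k p] (hp : 3 ≤ p) {S : Finset Φ} (h : ∀ b ∈ S, ∀ n, 3 ≤ n → H.E (true, b) n = 0) :
    H.kerL S ≤ H.kerG S :=
  H.kerL_le_kerG fun b hb n hn hd => h b hb n (le_trans hp (Nat.le_of_dvd hn hd))

variable {H} in
/-- the weights from which a `p`-th divided power can start are extremal -/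
theorem X.kerL_le_kerG [CharP k p] (hX : H.X) {S : Finset Φ}
    (h : ∀ b ∈ S, ∀ μ (n : ℕ), 0 < n → p ∣ n → H.IsWt μ → H.IsWt (μ + (n : ℤ) • R.wt (true, b)) → H.Ext μ) :
    H.kerL S ≤ H.kerG S :=
  H.kerL_le_kerG_of_w fun μ hμ v hv hk => H.mem_kerG.mpr fun b hb n hn => by
    by_cases h1 : p ∣ n
    · by_contra h0
      have h2 := H.isWt_of_mem (H.E_w _ n μ v hv) h0
      have h3 := h b hb μ n hn h1 hμ h2
      have h4 := h3.le_of_isWt (by exact_mod_cast hn) h2
      exact h0 (by rw [hX.ext h3 (by omega) hv (H.mem_kerL.mp hk b hb), map_zero])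
    · exact H.E_of_E1 (H.mem_kerL.mp hk b hb) h1

/-! ### the bound for strictly triangular operators -/

theorem one_le_cL {S : Finset Φ} {b : Φ} (hb : b ∈ S) (h : H.E (true, b) 1 ≠ 0) : 1 ≤ H.cL S := by
  obtain ⟨μ, -, -, v, hv, h0⟩ := (H.hom_E1 (true, b)).exists_ne h
  simpa using H.card_le_cL S {μ} fun ν hν => by rw [Finset.mem_singleton.mp hν]; exact ⟨b, hb, v, hv, h0⟩

theorem one_le_cL' {S : Finset Φ} (hS : S.Nonempty) (h : ∀ b, H.E (true, b) 1 ≠ 0) : 1 ≤ H.cL S :=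
  H.one_le_cL hS.choose_spec (h _)

/-- **(H1)** `2 |S| ≤ c (2 d - c - 1)` -/
theorem two_card_le (S : Finset Φ) (h : ∀ b ∈ S, H.E (true, b) 1 ≠ 0) :
    2 * S.card + H.cL S * H.cL S + H.cL S ≤ 2 * H.d * H.cL S := by
  classical
  let A := H.Wts.filter fun μ => ¬ H.w μ ≤ H.kerL S
  let B := H.Wts.filter fun μ => H.w μ ≤ H.kerL S
  have hA : A.card ≤ H.cL S := H.card_le_codim (H.gr_kerL S) A fun μ hμ => (Finset.mem_filter.mp hμ).2
  have hB : B.card ≤ finrank k (H.kerL S) := by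
    rw [Finset.card_eq_sum_ones]
    refine H.sum_le_finrank (H.gr_kerL S) B _ fun μ hμ => ?_
    rw [inf_eq_right.mpr (Finset.mem_filter.mp hμ).2]
    exact H.isWt_iff_m.mp (H.mem_Wts.mp (Finset.mem_filter.mp hμ).1)
  choose! f hf using fun b hb => (H.hom_E1 (true, b)).exists_ne (h b hb)
  have hfA : ∀ b ∈ S, f b ∈ A := fun b hb => Finset.mem_filter.mpr ⟨H.mem_Wts.mpr (hf b hb).1, fun hle => by
    obtain ⟨v, hv, h0⟩ := (hf b hb).2.2
    exact h0 (H.mem_kerL.mp (hle hv) b hb)⟩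
  let g : Φ → (ι → ℤ) × (ι → ℤ) := fun b => (f b, f b + R.wt (true, b))
  have hg : Function.Injective g := fun b b' e => by
    have h1 : f b = f b' := congrArg Prod.fst e
    have h2 : f b + R.wt (true, b) = f b' + R.wt (true, b') := congrArg Prod.snd e
    rw [h1] at h2
    exact congrArg Prod.snd (R.wt_inj (add_left_cancel h2))
  let ht : (ι → ℤ) → ℤ := fun μ => ∑ j, H.dep μ j
  let P := (A ×ˢ A).filter fun q => ht q.2 < ht q.1
  have hP : 2 * P.card + A.card ≤ A.card * A.card := by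
    have h1 : P.card = ((A ×ˢ A).filter fun q => ht q.1 < ht q.2).card := by
      refine Finset.card_bij (fun q _ => q.swap) (fun q hq => ?_) (fun q _ q' _ e => Prod.swap_injective e)
        fun q hq => ⟨q.swap, ?_, rfl⟩
      · simp only [P, Finset.mem_filter, Finset.mem_product] at hq ⊢
        exact ⟨⟨hq.1.2, hq.1.1⟩, hq.2⟩
      · simp only [P, Finset.mem_filter, Finset.mem_product] at hq ⊢
        exact ⟨⟨hq.1.2, hq.1.1⟩, hq.2⟩
    have h2 : (P ∪ (A ×ˢ A).filter fun q => ht q.1 < ht q.2) ⊆ A.offDiag := by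
      intro q hq
      simp only [P, Finset.mem_union, Finset.mem_filter, Finset.mem_product, Finset.mem_offDiag] at hq ⊢
      rcases hq with hq | hq
      · exact ⟨hq.1.1, hq.1.2, fun e => by rw [e] at hq; exact lt_irrefl _ hq.2⟩
      · exact ⟨hq.1.1, hq.1.2, fun e => by rw [e] at hq; exact lt_irrefl _ hq.2⟩
    have h3 := Finset.card_le_card h2
    rw [Finset.card_union_of_disjoint (Finset.disjoint_filter.mpr fun q _ h h' => lt_asymm h h'), ← h1,
      Finset.offDiag_card] at h3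
    change P.card + P.card ≤ _ at h3
    have h4 : A.card ≤ A.card * A.card := Nat.le_mul_self _
    omega
  have h5 : S.image g ⊆ P ∪ A ×ˢ B := by
    intro q hq
    obtain ⟨b, hb, rfl⟩ := Finset.mem_image.mp hq
    have h6 := H.mem_Wts.mpr (hf b hb).2.1
    by_cases h7 : H.w (f b + R.wt (true, b)) ≤ H.kerL S
    · exact Finset.mem_union_right _ (Finset.mem_product.mpr ⟨hfA b hb, Finset.mem_filter.mpr ⟨h6, h7⟩⟩)
    · refine Finset.mem_union_left _ (Finset.mem_filter.mpr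
        ⟨Finset.mem_product.mpr ⟨hfA b hb, Finset.mem_filter.mpr ⟨h6, h7⟩⟩, ?_⟩)
      simpa using H.sum_dep_lt (hf b hb).1 b one_pos
  have h8 := le_trans (Finset.card_le_card h5) (Finset.card_union_le _ _)
  rw [Finset.card_image_of_injective _ hg, Finset.card_product] at h8
  have h9 := H.cL_add S
  obtain ⟨e, he⟩ := Nat.exists_eq_add_of_le hA
  have h10 : A.card * B.card ≤ H.cL S * finrank k (H.kerL S) := Nat.mul_le_mul hA hB
  have h11 : e ≤ e * e := Nat.le_mul_self e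
  rw [← h9]
  generalize H.cL S = c at *
  subst he
  nlinarith

/-! ### minuscule modules -/

/-- a minuscule highest weight -/
def Min : Prop := ∀ b, R.pair H.lz (true, b) ≤ 1

section min

variable [Fintype Φ] {H} (hm : H.Min)
include hm

theorem Min.pair_le {μ : ι → ℤ} (hμ : H.IsWt μ) (x : Bool × Φ) : R.pair μ x ≤ 1 := H.pair_le hm hμ x

theorem Min.E_eq_zero (x : Bool × Φ) {n : ℕ} (hn : 2 ≤ n) : H.E x n = 0 :=
  H.E_eq_zero (M := 1) (fun μ hμ => hm.pair_le hμ x) (by omega)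

theorem Min.pair_of_isWt_add {μ : ι → ℤ} (hμ : H.IsWt μ) {x : Bool × Φ} {n : ℤ} (hn : 0 < n)
    (h : H.IsWt (μ + n • R.wt x)) : n = 1 ∧ R.pair μ x = -1 := by
  have := H.le_of_isWt_add (fun μ hμ => hm.pair_le hμ x) hμ h
  omega

theorem Min.ext {μ : ι → ℤ} (hμ : H.IsWt μ) : H.Ext μ := by
  obtain ⟨l, hl⟩ := H.exists_dom μ hμ
  suffices h : R.swl l μ = H.lz by rw [← R.swl_rev_swl l μ, h]; exact ⟨_, rfl⟩
  obtain ⟨v, hv, h0⟩ := H.isWt_iff.mp ((H.isWt_swl l μ).mpr hμ)
  have h1 : v ∈ H.w H.lz := H.curtis v fun b => H.eq_zero_of_not_isWt (fun h => by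
    have h2 := (hm.pair_of_isWt_add ((H.isWt_swl l μ).mpr hμ) one_pos (by rwa [one_smul])).2
    have h3 := R.pair_true_nonneg hl b
    omega) (H.E1_w _ hv)
  by_contra h5
  exact h0 (by rw [← H.pr_of_mem h1, H.pr_of_ne hv h5])

theorem Min.m_eq {μ : ι → ℤ} (hμ : H.IsWt μ) : H.m μ = 1 := (hm.ext hμ).m_eq

theorem Min.x : H.X := fun a ha v hv h =>
  H.inj (false, a) _ v hv (by rw [R.pair_false]; omega) fun n hn => by
    rcases Nat.lt_or_ge n 2 with h1 | h1
    · rw [show n = 1 by omega, h]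
    · rw [hm.E_eq_zero _ h1]; rfl

theorem Min.kerL_le_kerG (S : Finset Φ) : H.kerL S ≤ H.kerG S := fun v hv => H.mem_kerG.mpr fun b hb n hn => by
  rcases Nat.lt_or_ge n 2 with h1 | h1
  · rw [show n = 1 by omega]; exact H.mem_kerL.mp hv b hb
  · rw [hm.E_eq_zero _ h1]; rfl

theorem Min.d_eq : H.d = H.Wts.card := by
  rw [H.d_eq, Finset.card_eq_sum_ones]
  exact Finset.sum_congr rfl fun μ hμ => hm.m_eq (H.mem_Wts.mp hμ)

theorem Min.d_le (A : Finset (ι → ℤ)) (h0 : H.lz ∈ A) (hA : ∀ μ ∈ A, ∀ i, R.sw i μ ∈ A) : H.d ≤ A.card := by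
  rw [hm.d_eq]
  refine Finset.card_le_card fun μ hμ => ?_
  obtain ⟨l, rfl⟩ := hm.ext (H.mem_Wts.mp hμ)
  induction l with
  | nil => exact h0
  | cons i l ih => exact hA _ (ih (H.mem_Wts.mpr (Ext.isWt ⟨l, rfl⟩))) i

theorem Min.cG_le (S : Finset Φ) (A : Finset (ι → ℤ))
    (hA : ∀ μ, H.Ext μ → (∃ b ∈ S, R.pair μ (true, b) < 0) → μ ∈ A) : H.cG S ≤ A.card := by
  classical
  refine le_trans (H.cG_le_sum S (A.filter H.IsWt) fun μ hμ h b hb n hn h' => h ?_) ?_
  · refine Finset.mem_filter.mpr ⟨hA μ (hm.ext hμ) ⟨b, hb, ?_⟩, hμ⟩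
    have := (hm.pair_of_isWt_add hμ (by exact_mod_cast hn) h').2
    omega
  · rw [Finset.sum_congr rfl fun μ hμ => hm.m_eq (Finset.mem_filter.mp hμ).2, ← Finset.card_eq_sum_ones]
    exact Finset.card_filter_le _ _

end min

/-- the extremal weights lie in every reflection invariant set containing the highest weight -/
theorem Ext.mem {H : HW R p k L} {A : Set (ι → ℤ)} (h0 : H.lz ∈ A) (hA : ∀ μ ∈ A, ∀ i, R.sw i μ ∈ A) {ν : ι → ℤ}
    (h : H.Ext ν) : ν ∈ A := by
  obtain ⟨l, rfl⟩ := h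
  induction l with
  | nil => exact h0
  | cons i l ih => exact hA _ ih i

/-- the weights lie in every reflection invariant set containing the dominant weights below the highest weight -/
theorem isWt_mem {A : Set (ι → ℤ)} (h0 : ∀ μ, H.IsWt μ → Dom μ → μ ∈ A) (hA : ∀ μ ∈ A, ∀ i, R.sw i μ ∈ A)
    {μ : ι → ℤ} (h : H.IsWt μ) : μ ∈ A := by
  obtain ⟨l, hl⟩ := H.exists_dom μ h
  rw [← R.swl_rev_swl l μ]
  have h1 := h0 _ ((H.isWt_swl l μ).mpr h) hl
  generalize l.reverse = l'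
  induction l' with
  | nil => exact h1
  | cons i l' ih => exact hA _ ih i

end HW

end Cfsg.Agent.TwoF.DC
end

private theorem dce_9ad5b183bcb1 : _root_.True := by
  try have : _root_.True := by simp only [_root_.Cfsg.Agent.TwoF.DC.RC.Qf.eq_1]
  try have : _root_.True := by simp only [_root_.Cfsg.Agent.TwoF.DC.RC.hv.eq_1]
  try have : _root_.True := by simp only [_root_.Cfsg.Agent.TwoF.DC.HW.lz.eq_1]
  try have : _root_.True := by simp only [_root_.Cfsg.Agent.TwoF.DC.RC.len.eq_1]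
  try have : _root_.True := by simp only [_root_.Cfsg.Agent.TwoF.DC.HW.lev.eq_1]
  try have : _root_.True := by simp only [_root_.Cfsg.Agent.TwoF.DC.hd.eq_1]
  exact _root_.True.intro
end

-- part: TwoF/DC/HW/Deg
section
prune_inst 0x7f431305d403d42020000180592d3001a06be000502006b880428e0070607c1ab62a047ae610ea00512103e9c4818350048101000b000200000000034000002012098ead2029348af043e000f801000400000000000000000000000000000010004000000000
set_option linter.all false
open scoped Cfsg.Agent.FastGrp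

/-!
# TwoF, defining characteristic, TH1b (6): filtrations, leading terms, degeneration of subspaces and kernels (helper7)

`Idm k V α` : a decomposition of `V` by orthogonal idempotents; a level function `ℓ : α → ℤ` gives a filtration `F ℓ t`,
components `P ℓ t`, the initial spaces `ini ℓ t N` of a subspace, and the notions `Ge`, `Hm`, `Ld` for operators.
-/

set_option autoImplicit false
set_option linter.unusedSectionVars false
set_option linter.unusedVariables false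

namespace Cfsg.Agent.TwoF.DC

open Module

/-- a finite family of orthogonal idempotents with sum one -/
structure Idm (k V α : Type) [Field k] [AddCommGroup V] [Module k V] where
  s : Finset α
  pr : α → V →ₗ[k] V
  sum : ∀ v, ∑ a ∈ s, pr a v = v
  orth : ∀ a b v, a ≠ b → pr a (pr b v) = 0
  zero : ∀ a, a ∉ s → ∀ v, pr a v = 0

namespace Idm

variable {k V α : Type} [Field k] [AddCommGroup V] [Module k V] (I : Idm k V α) (ℓ : α → ℤ)

theorem idem (a : α) (v : V) : I.pr a (I.pr a v) = I.pr a v := by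
  conv_rhs => rw [← I.sum v, map_sum]
  by_cases ha : a ∈ I.s
  · rw [Finset.sum_eq_single a (fun b _ hb => I.orth a b v hb.symm) fun h => (h ha).elim]
  · rw [I.zero a ha]; exact (Finset.sum_eq_zero fun b _ => I.zero a ha _).symm

theorem eq_zero {v : V} (h : ∀ a, I.pr a v = 0) : v = 0 := by
  rw [← I.sum v]; exact Finset.sum_eq_zero fun a _ => h a

/-- the vectors of level at least `t` -/
def F (t : ℤ) : Submodule k V := ⨅ (a : α) (_ : ℓ a < t), LinearMap.ker (I.pr a)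

/-- the vectors of level `t` -/
def Lv (t : ℤ) : Submodule k V := ⨅ (a : α) (_ : ℓ a ≠ t), LinearMap.ker (I.pr a)

/-- the component of level `t` -/
def P (t : ℤ) : V →ₗ[k] V := ∑ a ∈ I.s.filter (fun a => ℓ a = t), I.pr a

theorem mem_F {t : ℤ} {v : V} : v ∈ I.F ℓ t ↔ ∀ a, ℓ a < t → I.pr a v = 0 := by simp [F, Submodule.mem_iInf]

theorem mem_Lv {t : ℤ} {v : V} : v ∈ I.Lv ℓ t ↔ ∀ a, ℓ a ≠ t → I.pr a v = 0 := by simp [Lv, Submodule.mem_iInf]

theorem Lv_le_F (t : ℤ) : I.Lv ℓ t ≤ I.F ℓ t := fun _ hv => (I.mem_F ℓ).mpr fun a ha => (I.mem_Lv ℓ).mp hv a ha.ne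

theorem F_anti {t t' : ℤ} (h : t ≤ t') : I.F ℓ t' ≤ I.F ℓ t := fun _ hv =>
  (I.mem_F ℓ).mpr fun a ha => (I.mem_F ℓ).mp hv a (by omega)

theorem pr_P (a : α) (t : ℤ) (v : V) : I.pr a (I.P ℓ t v) = if ℓ a = t then I.pr a v else 0 := by
  rw [P, LinearMap.sum_apply, map_sum]
  split_ifs with h
  · by_cases ha : a ∈ I.s
    · rw [Finset.sum_eq_single a (fun b _ hb => I.orth a b v hb.symm)
        (fun h' => (h' (Finset.mem_filter.mpr ⟨ha, h⟩)).elim), idem]
    · rw [I.zero a ha]; exact Finset.sum_eq_zero fun b _ => I.zero a ha _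
  · exact Finset.sum_eq_zero fun b hb => I.orth a b v fun e => h (e ▸ (Finset.mem_filter.mp hb).2)

theorem P_mem (t : ℤ) (v : V) : I.P ℓ t v ∈ I.Lv ℓ t := (I.mem_Lv ℓ).mpr fun a ha => by rw [pr_P, if_neg ha]

theorem pr_mem_Lv (a : α) (v : V) : I.pr a v ∈ I.Lv ℓ (ℓ a) :=
  (I.mem_Lv ℓ).mpr fun b hb => I.orth b a v fun e => hb (by rw [e])

theorem sub_P_mem {t : ℤ} {v : V} (hv : v ∈ I.F ℓ t) : v - I.P ℓ t v ∈ I.F ℓ (t + 1) :=
  (I.mem_F ℓ).mpr fun a ha => by
    rw [map_sub, pr_P]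
    split_ifs with h
    · exact sub_self _
    · rw [(I.mem_F ℓ).mp hv a (by omega), sub_zero]

theorem P_of_mem {t : ℤ} {v : V} (hv : v ∈ I.Lv ℓ t) : I.P ℓ t v = v := by
  rw [← sub_eq_zero]
  refine I.eq_zero fun a => ?_
  rw [map_sub, pr_P]
  split_ifs with h
  · exact sub_self _
  · rw [(I.mem_Lv ℓ).mp hv a h, sub_zero]

theorem P_eq_zero {t : ℤ} {v : V} (hv : v ∈ I.F ℓ (t + 1)) : I.P ℓ t v = 0 :=
  I.eq_zero fun a => by
    rw [pr_P]
    split_ifs with h
    · exact (I.mem_F ℓ).mp hv a (by omega)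
    · rfl

theorem P_eq_zero_of_Lv {t t' : ℤ} (h : t ≠ t') {v : V} (hv : v ∈ I.Lv ℓ t') : I.P ℓ t v = 0 :=
  I.eq_zero fun a => by
    rw [pr_P]
    split_ifs with h1
    · exact (I.mem_Lv ℓ).mp hv a (by omega)
    · rfl

theorem eq_zero_of_Lv {t : ℤ} {v : V} (hv : v ∈ I.Lv ℓ t) (hv' : v ∈ I.F ℓ (t + 1)) : v = 0 := by
  rw [← I.P_of_mem ℓ hv, I.P_eq_zero ℓ hv']

theorem exists_range : ∃ (lo : ℤ) (n : ℕ), I.F ℓ lo = ⊤ ∧ I.F ℓ (lo + n) = ⊥ := by
  obtain ⟨lo, hlo⟩ := (I.s.image ℓ).bddBelow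
  obtain ⟨hi, hhi⟩ := (I.s.image ℓ).bddAbove
  refine ⟨lo, (hi + 1 - lo).toNat, eq_top_iff.mpr fun v _ => (I.mem_F ℓ).mpr fun a ha => I.zero a (fun h => ?_) v,
    eq_bot_iff.mpr fun v hv => I.eq_zero fun a => ?_⟩
  · have := hlo (Finset.mem_coe.mpr (Finset.mem_image_of_mem ℓ h))
    omega
  · by_cases h : a ∈ I.s
    · have := hhi (Finset.mem_coe.mpr (Finset.mem_image_of_mem ℓ h))
      exact (I.mem_F ℓ).mp hv a (by omega)
    · exact I.zero a h v

/-- the lowest nonzero component -/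
theorem exists_low {v : V} (hv : v ≠ 0) : ∃ t, v ∈ I.F ℓ t ∧ I.P ℓ t v ≠ 0 := by
  obtain ⟨lo, n, h1, h2⟩ := I.exists_range ℓ
  by_contra hc
  push Not at hc
  have : ∀ m : ℕ, v ∈ I.F ℓ (lo + m) := by
    intro m
    induction m with
    | zero => rw [Nat.cast_zero, add_zero, h1]; trivial
    | succ m ih =>
      have h3 := I.sub_P_mem ℓ ih
      rw [hc _ ih, sub_zero] at h3
      rwa [Nat.cast_succ, ← add_assoc]
  exact hv (by simpa [h2] using this n)

/-- the initial space of `N` in level `t` -/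
def ini (t : ℤ) (N : Submodule k V) : Submodule k V := (N ⊓ I.F ℓ t).map (I.P ℓ t)

theorem mem_ini {t : ℤ} {N : Submodule k V} {u : V} : u ∈ I.ini ℓ t N ↔ ∃ v ∈ N, v ∈ I.F ℓ t ∧ I.P ℓ t v = u :=
  ⟨fun ⟨v, hv, h⟩ => ⟨v, hv.1, hv.2, h⟩, fun ⟨v, h1, h2, h⟩ => ⟨v, ⟨h1, h2⟩, h⟩⟩

theorem ini_le_Lv (t : ℤ) (N : Submodule k V) : I.ini ℓ t N ≤ I.Lv ℓ t := by
  rintro _ ⟨v, -, rfl⟩; exact I.P_mem ℓ t v

theorem le_ini {t : ℤ} {N : Submodule k V} {u : V} (h : u ∈ N) (h' : u ∈ I.Lv ℓ t) : u ∈ I.ini ℓ t N :=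
  (I.mem_ini ℓ).mpr ⟨u, h, I.Lv_le_F ℓ t h', I.P_of_mem ℓ h'⟩

variable [FiniteDimensional k V]

theorem finrank_step (t : ℤ) (N : Submodule k V) :
    finrank k ↥(N ⊓ I.F ℓ t) = finrank k (I.ini ℓ t N) + finrank k ↥(N ⊓ I.F ℓ (t + 1)) := by
  have h1 := LinearMap.finrank_range_add_finrank_ker ((I.P ℓ t).domRestrict (N ⊓ I.F ℓ t))
  rw [LinearMap.range_domRestrict, LinearMap.ker_domRestrict] at h1
  have h2 : (LinearMap.ker (I.P ℓ t)).comap (N ⊓ I.F ℓ t).subtype = (N ⊓ I.F ℓ (t + 1)).comap (N ⊓ I.F ℓ t).subtype := by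
    ext v
    simp only [Submodule.mem_comap, Submodule.subtype_apply, LinearMap.mem_ker, Submodule.mem_inf]
    refine ⟨fun h => ⟨v.2.1, ?_⟩, fun h => I.P_eq_zero ℓ h.2⟩
    simpa [h] using I.sub_P_mem ℓ v.2.2
  rw [h2, (Submodule.comapSubtypeEquivOfLe (inf_le_inf_left N (I.F_anti ℓ (by omega)))).finrank_eq] at h1
  exact h1.symm

theorem finrank_sum (N : Submodule k V) (lo : ℤ) (n : ℕ) : finrank k ↥(N ⊓ I.F ℓ lo) =
    ∑ m ∈ Finset.range n, finrank k (I.ini ℓ (lo + m) N) + finrank k ↥(N ⊓ I.F ℓ (lo + n)) := by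
  induction n with
  | zero => rw [Finset.sum_range_zero, zero_add, Nat.cast_zero, add_zero]
  | succ n ih => rw [Finset.sum_range_succ, ih, I.finrank_step ℓ (lo + n), Nat.cast_succ, add_assoc, add_assoc]

theorem finrank_eq_sum {lo : ℤ} {n : ℕ} (h1 : I.F ℓ lo = ⊤) (h2 : I.F ℓ (lo + n) = ⊥) (N : Submodule k V) :
    finrank k N = ∑ m ∈ Finset.range n, finrank k (I.ini ℓ (lo + m) N) := by
  have := I.finrank_sum ℓ N lo n
  rwa [h1, h2, inf_top_eq, inf_bot_eq, finrank_bot, add_zero] at this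

/-- **degeneration**: a space containing the initial vectors of `N` has at least the dimension of `N` -/
theorem finrank_le_of_ini {N N' : Submodule k V} (h : ∀ t, I.ini ℓ t N ≤ N') : finrank k N ≤ finrank k N' := by
  obtain ⟨lo, n, h1, h2⟩ := I.exists_range ℓ
  rw [I.finrank_eq_sum ℓ h1 h2 N, I.finrank_eq_sum ℓ h1 h2 N']
  exact Finset.sum_le_sum fun m _ => Submodule.finrank_mono fun u hu => I.le_ini ℓ (h _ hu) (I.ini_le_Lv ℓ _ _ hu)

omit [FiniteDimensional k V] in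
/-- the span of the initial vectors -/
def gr (N : Submodule k V) : Submodule k V := ⨆ t, I.ini ℓ t N

omit [FiniteDimensional k V] in
theorem ini_le_gr (t : ℤ) (N : Submodule k V) : I.ini ℓ t N ≤ I.gr ℓ N := le_iSup (fun t => I.ini ℓ t N) t

omit [FiniteDimensional k V] in
theorem P_mem_ini_of_gr {N : Submodule k V} {v : V} (hv : v ∈ I.gr ℓ N) (t : ℤ) : I.P ℓ t v ∈ I.ini ℓ t N := by
  refine Submodule.iSup_induction (fun t => I.ini ℓ t N) (motive := fun v => I.P ℓ t v ∈ I.ini ℓ t N) hv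
    (fun t' u hu => ?_) (by simp) fun u u' h h' => by rw [map_add]; exact Submodule.add_mem _ h h'
  by_cases h : t = t'
  · subst h; rwa [I.P_of_mem ℓ (I.ini_le_Lv ℓ _ _ hu)]
  · rw [I.P_eq_zero_of_Lv ℓ h (I.ini_le_Lv ℓ _ _ hu)]; exact Submodule.zero_mem _

omit [FiniteDimensional k V] in
theorem ini_gr (t : ℤ) (N : Submodule k V) : I.ini ℓ t (I.gr ℓ N) = I.ini ℓ t N :=
  le_antisymm (by rintro _ ⟨v, hv, rfl⟩; exact I.P_mem_ini_of_gr ℓ hv.1 t)
    fun u hu => I.le_ini ℓ (I.ini_le_gr ℓ t N hu) (I.ini_le_Lv ℓ _ _ hu)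

theorem finrank_gr (N : Submodule k V) : finrank k (I.gr ℓ N) = finrank k N := by
  obtain ⟨lo, n, h1, h2⟩ := I.exists_range ℓ
  rw [I.finrank_eq_sum ℓ h1 h2 N, I.finrank_eq_sum ℓ h1 h2 (I.gr ℓ N)]
  exact Finset.sum_congr rfl fun m _ => by rw [ini_gr]

omit [FiniteDimensional k V]

/-! ### operators -/

/-- the operator raises the level by at least `s` -/
def Ge (s : ℤ) (f : Module.End k V) : Prop := ∀ t, ∀ v ∈ I.F ℓ t, f v ∈ I.F ℓ (t + s)

/-- the operator raises the level by exactly `s` -/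
def Hm (s : ℤ) (f : Module.End k V) : Prop := ∀ t, ∀ v ∈ I.Lv ℓ t, f v ∈ I.Lv ℓ (t + s)

/-- `g` is the leading part, of degree `s`, of `f` -/
def Ld (s : ℤ) (f g : Module.End k V) : Prop := I.Hm ℓ s g ∧ I.Ge ℓ (s + 1) (f - g)

theorem ge_of_pr {s : ℤ} {f : Module.End k V} (h : ∀ a v, f (I.pr a v) ∈ I.F ℓ (ℓ a + s)) : I.Ge ℓ s f := by
  intro t v hv
  rw [← I.sum v, map_sum]
  refine Submodule.sum_mem _ fun a _ => ?_
  by_cases ha : ℓ a < t
  · rw [(I.mem_F ℓ).mp hv a ha, map_zero]; exact Submodule.zero_mem _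
  · exact I.F_anti ℓ (by omega) (h a v)

theorem hm_of_pr {s : ℤ} {f : Module.End k V} (h : ∀ a v, f (I.pr a v) ∈ I.Lv ℓ (ℓ a + s)) : I.Hm ℓ s f := by
  intro t v hv
  rw [← I.sum v, map_sum]
  refine Submodule.sum_mem _ fun a _ => ?_
  by_cases ha : ℓ a = t
  · rw [← ha]; exact h a v
  · rw [(I.mem_Lv ℓ).mp hv a ha, map_zero]; exact Submodule.zero_mem _

variable {I ℓ} {s s' : ℤ} {f f' g g' : Module.End k V}

theorem Hm.ge (h : I.Hm ℓ s f) : I.Ge ℓ s f := I.ge_of_pr ℓ fun a v => I.Lv_le_F ℓ _ (h _ _ (I.pr_mem_Lv ℓ a v))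

theorem Ge.mono (h : I.Ge ℓ s f) (hs : s' ≤ s) : I.Ge ℓ s' f := fun t v hv => I.F_anti ℓ (by omega) (h t v hv)

theorem Ge.mul (h : I.Ge ℓ s f) (h' : I.Ge ℓ s' f') : I.Ge ℓ (s + s') (f * f') := fun t v hv => by
  have := h _ _ (h' t v hv)
  rwa [add_assoc, add_comm s'] at this

theorem Hm.mul (h : I.Hm ℓ s f) (h' : I.Hm ℓ s' f') : I.Hm ℓ (s + s') (f * f') := fun t v hv => by
  have := h _ _ (h' t v hv)
  rwa [add_assoc, add_comm s'] at this

theorem Ge.add (h : I.Ge ℓ s f) (h' : I.Ge ℓ s f') : I.Ge ℓ s (f + f') := fun t v hv =>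
  Submodule.add_mem _ (h t v hv) (h' t v hv)

theorem Ge.sub (h : I.Ge ℓ s f) (h' : I.Ge ℓ s f') : I.Ge ℓ s (f - f') := fun t v hv =>
  Submodule.sub_mem _ (h t v hv) (h' t v hv)

theorem Ge.smul (h : I.Ge ℓ s f) (c : k) : I.Ge ℓ s (c • f) := fun t v hv => Submodule.smul_mem _ c (h t v hv)

theorem Hm.add (h : I.Hm ℓ s f) (h' : I.Hm ℓ s f') : I.Hm ℓ s (f + f') := fun t v hv =>
  Submodule.add_mem _ (h t v hv) (h' t v hv)

theorem Hm.sub (h : I.Hm ℓ s f) (h' : I.Hm ℓ s f') : I.Hm ℓ s (f - f') := fun t v hv =>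
  Submodule.sub_mem _ (h t v hv) (h' t v hv)

theorem Hm.smul (h : I.Hm ℓ s f) (c : k) : I.Hm ℓ s (c • f) := fun t v hv => Submodule.smul_mem _ c (h t v hv)

theorem ge_zero : I.Ge ℓ s 0 := fun _ _ _ => Submodule.zero_mem _

theorem hm_zero : I.Hm ℓ s 0 := fun _ _ _ => Submodule.zero_mem _

theorem hm_one : I.Hm ℓ 0 1 := fun t v hv => by rwa [add_zero]

theorem ge_sum {β : Type} {S : Finset β} {x : β → Module.End k V} (h : ∀ b ∈ S, I.Ge ℓ s (x b)) :
    I.Ge ℓ s (∑ b ∈ S, x b) := fun t v hv => by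
  rw [LinearMap.sum_apply]; exact Submodule.sum_mem _ fun b hb => h b hb t v hv

theorem hm_sum {β : Type} {S : Finset β} {x : β → Module.End k V} (h : ∀ b ∈ S, I.Hm ℓ s (x b)) :
    I.Hm ℓ s (∑ b ∈ S, x b) := fun t v hv => by
  rw [LinearMap.sum_apply]; exact Submodule.sum_mem _ fun b hb => h b hb t v hv

theorem Hm.eq_zero (h : I.Hm ℓ s f) (h' : I.Ge ℓ (s + 1) f) : f = 0 := by
  ext v
  rw [← I.sum v, map_sum, LinearMap.zero_apply]
  refine Finset.sum_eq_zero fun a _ => I.eq_zero_of_Lv ℓ (h _ _ (I.pr_mem_Lv ℓ a v)) ?_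
  rw [add_assoc]
  exact h' _ _ (I.Lv_le_F ℓ _ (I.pr_mem_Lv ℓ a v))

theorem Hm.ld (h : I.Hm ℓ s f) : I.Ld ℓ s f f := ⟨h, by rw [sub_self]; exact ge_zero⟩

theorem Ld.ge (h : I.Ld ℓ s f g) : I.Ge ℓ s f := by
  have := (h.2.mono (s' := s) (by omega)).add h.1.ge
  rwa [sub_add_cancel] at this

theorem Ld.mul (h : I.Ld ℓ s f g) (h' : I.Ld ℓ s' f' g') : I.Ld ℓ (s + s') (f * f') (g * g') := by
  refine ⟨h.1.mul h'.1, ?_⟩
  have h1 : f * f' - g * g' = (f - g) * f' + g * (f' - g') := by noncomm_ring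
  rw [h1]
  exact ((h.2.mul h'.ge).mono (by omega)).add ((h.1.ge.mul h'.2).mono (by omega))

theorem Ld.add (h : I.Ld ℓ s f g) (h' : I.Ld ℓ s f' g') : I.Ld ℓ s (f + f') (g + g') :=
  ⟨h.1.add h'.1, by rw [add_sub_add_comm]; exact h.2.add h'.2⟩

theorem Ld.add_ge (h : I.Ld ℓ s f g) (h' : I.Ge ℓ (s + 1) f') : I.Ld ℓ s (f + f') g :=
  ⟨h.1, by rw [add_sub_right_comm]; exact h.2.add h'⟩

theorem Ld.pow (h : I.Ld ℓ s f g) (n : ℕ) : I.Ld ℓ (n * s) (f ^ n) (g ^ n) := by
  induction n with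
  | zero => simpa using (hm_one (I := I) (ℓ := ℓ)).ld
  | succ n ih => rw [pow_succ, pow_succ, Nat.cast_succ, add_mul, one_mul]; exact ih.mul h

theorem Ld.unique (h : I.Ld ℓ s f g) (h' : I.Ld ℓ s f g') : g = g' := by
  rw [← sub_eq_zero]
  refine (h.1.sub h'.1).eq_zero ?_
  have := h'.2.sub h.2
  rwa [sub_sub_sub_cancel_left] at this

theorem Ld.eq_zero (h : I.Ld ℓ s 0 g) : g = 0 := h.unique hm_zero.ld

theorem Ld.commute (h : I.Ld ℓ s f g) (h' : I.Ld ℓ s' f' g') (hc : Commute f f') : Commute g g' := by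
  have h1 := h'.mul h
  rw [add_comm, ← hc.eq] at h1
  exact (h.mul h').unique h1

theorem Ld.pow_eq_zero (h : I.Ld ℓ s f g) {n : ℕ} (hn : f ^ n = 0) : g ^ n = 0 := by
  have := h.pow n
  rw [hn] at this
  exact this.eq_zero

/-- the leading part kills the initial vectors of the kernel -/
theorem Ld.ini_le (h : I.Ld ℓ s f g) {N : Submodule k V} (hN : N ≤ LinearMap.ker f) (t : ℤ) :
    I.ini ℓ t N ≤ LinearMap.ker g := by
  rintro _ ⟨v, hv, rfl⟩
  refine I.eq_zero_of_Lv ℓ (h.1 _ _ (I.P_mem ℓ t v)) ?_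
  have h1 : g (I.P ℓ t v) = -((f - g) v) - g (v - I.P ℓ t v) := by
    rw [LinearMap.sub_apply, LinearMap.mem_ker.mp (hN hv.1), map_sub]; abel
  rw [h1]
  refine Submodule.sub_mem _ (Submodule.neg_mem _ ?_) ?_
  · rw [add_assoc]; exact h.2 t v hv.2
  · rw [add_right_comm]; exact h.1.ge _ _ (I.sub_P_mem ℓ hv.2)

end Idm

namespace HW

variable {ι Φ : Type} [Fintype ι] [DecidableEq ι] [DecidableEq Φ] {R : RC ι Φ} {p : ℕ} {k L : Type} [Field k]
  [AddCommGroup L] [Module k L] (H : HW R p k L)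

/-- the weight decomposition -/
noncomputable def idm : Idm k L (ι → ℤ) where
  s := H.Wts
  pr := H.pr
  sum := H.sum_pr
  orth := fun a b v h => H.pr_of_ne (H.pr_mem b v) h.symm
  zero := fun a ha => H.pr_eq_zero fun h => ha (H.mem_Wts.mpr h)

/-- the level function of a functional on the root lattice; positive root operators of positive value raise it -/
noncomputable def lf (φ : (ι → ℤ) →+ ℤ) (μ : ι → ℤ) : ℤ := -φ (H.dep μ)

theorem mem_Lv_of_w (ℓ : (ι → ℤ) → ℤ) {μ : ι → ℤ} {v : L} (hv : v ∈ H.w μ) : v ∈ H.idm.Lv ℓ (ℓ μ) := by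
  have := H.idm.pr_mem_Lv ℓ μ v
  rwa [show H.idm.pr μ v = v from H.pr_of_mem hv] at this

theorem hm_of_w {ℓ : (ι → ℤ) → ℤ} {s : ℤ} {f : Module.End k L}
    (h : ∀ μ, H.IsWt μ → ∀ v ∈ H.w μ, ∃ ν, f v ∈ H.w ν ∧ ℓ ν = ℓ μ + s) : H.idm.Hm ℓ s f :=
  H.idm.hm_of_pr ℓ fun μ v => by
    by_cases hμ : H.IsWt μ
    · obtain ⟨ν, h1, h2⟩ := h μ hμ _ (H.pr_mem μ v)
      rw [← h2]; exact H.mem_Lv_of_w ℓ h1
    · rw [show H.idm.pr μ v = 0 from H.pr_eq_zero hμ v, map_zero]; exact Submodule.zero_mem _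

variable {H} in
theorem Hom.hm {f : Module.End k L} {c : ι → ℤ} (hf : H.Hom f (R.toWt c)) (φ : (ι → ℤ) →+ ℤ) :
    H.idm.Hm (H.lf φ) (φ c) f :=
  H.hm_of_w fun μ hμ v hv => ⟨_, hf μ v hv, by rw [lf, lf, H.dep_add_toWt hμ, map_sub]; ring⟩

theorem hm_E (φ : (ι → ℤ) →+ ℤ) (x : Bool × Φ) (n : ℕ) : H.idm.Hm (H.lf φ) (n * φ (R.vec x)) (H.E x n) := by
  have h := H.hom_E x n
  rw [RC.wt, ← R.toWt_smul] at h
  have h1 := h.hm φ
  rwa [map_zsmul, smul_eq_mul] at h1

theorem hm_E1 (φ : (ι → ℤ) →+ ℤ) (x : Bool × Φ) : H.idm.Hm (H.lf φ) (φ (R.vec x)) (H.E x 1) := by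
  simpa using H.hm_E φ x 1

/-- **degeneration of kernels** along a functional -/
theorem finrank_ker_le (ℓ : (ι → ℤ) → ℤ) {N : Submodule k L} {β : Type} {A : Set β} {g : β → Module.End k L}
    (h : ∀ b ∈ A, ∃ s f, H.idm.Ld ℓ s f (g b) ∧ N ≤ LinearMap.ker f) :
    finrank k N ≤ finrank k ↥(⨅ b ∈ A, LinearMap.ker (g b)) := by
  have := H.fd
  refine H.idm.finrank_le_of_ini ℓ fun t => le_iInf₂ fun b hb => ?_
  obtain ⟨s, f, h1, h2⟩ := h b hb
  exact h1.ini_le h2 t

end HW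

end Cfsg.Agent.TwoF.DC

private theorem dce_2652821b31dc : _root_.True := by
  try have : _root_.True := by simp only [_root_.Cfsg.Agent.TwoF.DC.Idm.P.eq_1]
  try have : _root_.True := by simp only [_root_.Cfsg.Agent.TwoF.DC.Idm.Lv.eq_1]
  try have : _root_.True := by simp only [_root_.Cfsg.Agent.TwoF.DC.Idm.F.eq_1]
  try have : _root_.True := by simp only [_root_.Cfsg.Agent.TwoF.DC.HW.lf.eq_1]
  exact _root_.True.intro
end

-- part: TwoF/DC/D2/Ad
section
prune_inst 0x7f4313059003d42020000180092c3000300300004020040880400e00706030120600043a8410a2005121032080008050000009800a00020000000000000000401001800900091080100060008000000400000000000000000000000000000000000000000000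
set_option linter.all false
open scoped Cfsg.Agent.FastGrp

-- part: TwoF/DC/D2/Vec
section
/-!
# TwoF, defining characteristic, TH3b (1): degeneration of spaces of coefficient vectors (helper7)
-/

set_option autoImplicit false
set_option linter.unusedSectionVars false
set_option linter.unusedVariables false

namespace Cfsg.Agent.TwoF.DC

open Module

/-! ### generic functionals -/

theorem exists_lex {A : Type} [AddCommGroup A] (s : Finset A) (φ ψ : A →+ ℤ) :
    ∃ χ : A →+ ℤ, ∀ u ∈ s, (0 < φ u → 0 < χ u) ∧ (φ u < 0 → χ u < 0) ∧ (φ u = 0 → χ u = ψ u) := by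
  obtain ⟨M, hM⟩ := (s.image fun u => |ψ u|).bddAbove
  refine ⟨(|M| + 1) • φ + ψ, fun u hu => ?_⟩
  have h1 : |ψ u| ≤ M := hM (Finset.mem_coe.mpr (Finset.mem_image_of_mem (fun u => |ψ u|) hu))
  have h2 := le_abs_self M
  have h3 := le_abs_self (ψ u)
  have h4 := neg_abs_le (ψ u)
  have h5 := abs_nonneg M
  simp only [AddMonoidHom.add_apply, AddMonoidHom.smul_apply, smul_eq_mul]
  refine ⟨fun h => by nlinarith, fun h => by nlinarith, fun h => by rw [h, mul_zero, zero_add]⟩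

theorem exists_generic {ι : Type} (s : Finset (ι → ℤ)) : ∃ φ : (ι → ℤ) →+ ℤ, ∀ u ∈ s, u ≠ 0 → φ u ≠ 0 := by
  classical
  induction s using Finset.induction_on with
  | empty => exact ⟨0, fun u hu => by simp at hu⟩
  | insert v s _ ih =>
    obtain ⟨φ, hφ⟩ := ih
    by_cases hv : v = 0
    · exact ⟨φ, fun u hu h0 => hφ u ((Finset.mem_insert.mp hu).resolve_left fun e => h0 (e.trans hv)) h0⟩
    obtain ⟨i, hi⟩ := Function.ne_iff.mp hv
    obtain ⟨χ, hχ⟩ := exists_lex (insert v s) φ (Pi.evalAddMonoidHom (fun _ => ℤ) i)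
    refine ⟨χ, fun u hu h0 => ?_⟩
    obtain ⟨h1, h2, h3⟩ := hχ u hu
    rcases lt_trichotomy (φ u) 0 with h | h | h
    · exact (h2 h).ne
    · rcases Finset.mem_insert.mp hu with rfl | hu
      · rw [h3 h]; exact hi
      · exact (hφ u hu h0 h).elim
    · exact (h1 h).ne'

/-- the coordinate decomposition -/
noncomputable def cidm (Φ k : Type) [Fintype Φ] [DecidableEq Φ] [Field k] : Idm k (Φ → k) Φ where
  s := Finset.univ
  pr b := LinearMap.single k (fun _ => k) b ∘ₗ LinearMap.proj b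
  sum := fun v => Finset.univ_sum_single v
  orth := fun a b v h => by simp [h]
  zero := fun a ha => (ha (Finset.mem_univ a)).elim

section cidm

variable {Φ k : Type} [Fintype Φ] [DecidableEq Φ] [Field k] (ℓ : Φ → ℤ)

theorem cidm_pr (b : Φ) (u : Φ → k) : (cidm Φ k).pr b u = Pi.single b (u b) := rfl

theorem cidm_pr_eq_zero {b : Φ} {u : Φ → k} : (cidm Φ k).pr b u = 0 ↔ u b = 0 := by
  rw [cidm_pr, Pi.single_eq_zero_iff]

theorem cmem_F {t : ℤ} {u : Φ → k} : u ∈ (cidm Φ k).F ℓ t ↔ ∀ b, ℓ b < t → u b = 0 := by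
  simp only [Idm.mem_F, cidm_pr_eq_zero]

theorem cmem_Lv {t : ℤ} {u : Φ → k} : u ∈ (cidm Φ k).Lv ℓ t ↔ ∀ b, ℓ b ≠ t → u b = 0 := by
  simp only [Idm.mem_Lv, cidm_pr_eq_zero]

theorem cP_apply (t : ℤ) (u : Φ → k) (b : Φ) : (cidm Φ k).P ℓ t u b = if ℓ b = t then u b else 0 := by
  have h := congrFun ((cidm Φ k).pr_P ℓ b t u) b
  rw [cidm_pr, Pi.single_eq_same] at h
  rw [h]
  split_ifs
  · rw [cidm_pr, Pi.single_eq_same]
  · rfl

/-- the vectors supported on `S` -/
def Mon (k : Type) [Field k] (S : Finset Φ) : Submodule k (Φ → k) :=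
  Submodule.span k (Set.range fun b : S => (Pi.single b.1 1 : Φ → k))

theorem single_mem_Mon {S : Finset Φ} {b : Φ} (hb : b ∈ S) : (Pi.single b 1 : Φ → k) ∈ Mon k S :=
  Submodule.subset_span ⟨⟨b, hb⟩, rfl⟩

theorem eq_sum_single (u : Φ → k) : u = ∑ b, u b • (Pi.single b 1 : Φ → k) := by
  funext a; simp only [Finset.sum_apply, Pi.single_apply, _root_.Pi.smul_apply, _root_.smul_eq_mul, _root_.mul_ite, _root_.mul_one, _root_.MulZeroClass.mul_zero, _root_.Finset.sum_ite_eq, _root_.Finset.mem_univ, ↓ _root_.reduceIte]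

theorem mem_Mon {S : Finset Φ} {u : Φ → k} : u ∈ Mon k S ↔ ∀ b, b ∉ S → u b = 0 := by
  constructor
  · intro hu b hb
    induction hu using Submodule.span_induction with
    | mem u hu =>
      obtain ⟨a, rfl⟩ := hu
      exact Pi.single_eq_of_ne (fun e => hb (by rw [e]; exact a.2)) _
    | zero => rfl
    | add u v _ _ h1 h2 => rw [Pi.add_apply, h1, h2, add_zero]
    | smul c u _ h1 => rw [Pi.smul_apply, h1, smul_zero]
  · intro h
    rw [eq_sum_single u]
    refine Submodule.sum_mem _ fun b _ => ?_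
    by_cases hb : b ∈ S
    · exact Submodule.smul_mem _ _ (single_mem_Mon hb)
    · rw [h b hb, zero_smul]; exact Submodule.zero_mem _

theorem finrank_Mon (S : Finset Φ) : finrank k (Mon k S) = S.card := by
  have h := (Pi.basisFun k Φ).linearIndependent.comp (fun b : S => b.1) Subtype.val_injective
  have h1 : ((Pi.basisFun k Φ) ∘ fun b : S => b.1) = fun b : S => (Pi.single b.1 1 : Φ → k) := by
    funext b; simp
  rw [h1] at h
  rw [Mon, finrank_span_eq_card h, Fintype.card_coe]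

open Classical in
/-- the set of lowest terms -/
noncomputable def low (𝔞 : Submodule k (Φ → k)) : Finset Φ :=
  Finset.univ.filter fun b => ∃ u ∈ 𝔞, u b ≠ 0 ∧ ∀ a, ℓ a < ℓ b → u a = 0

theorem mem_low {𝔞 : Submodule k (Φ → k)} {b : Φ} : b ∈ low ℓ 𝔞 ↔ ∃ u ∈ 𝔞, u b ≠ 0 ∧ ∀ a, ℓ a < ℓ b → u a = 0 := by
  simp only [low, _root_.ne_eq, _root_.Finset.mem_filter, _root_.Finset.mem_univ, _root_.true_and]

variable {ℓ}

theorem gr_eq_Mon (hℓ : Function.Injective ℓ) (𝔞 : Submodule k (Φ → k)) : (cidm Φ k).gr ℓ 𝔞 = Mon k (low ℓ 𝔞) := by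
  apply le_antisymm
  · refine iSup_le fun t => ?_
    rintro _ ⟨u, hu, rfl⟩
    refine mem_Mon.mpr fun b hb => ?_
    rw [cP_apply]
    split_ifs with h
    · by_contra h0
      exact hb ((mem_low ℓ).mpr ⟨u, hu.1, h0, fun a ha => (cmem_F ℓ).mp hu.2 a (h ▸ ha)⟩)
    · rfl
  · refine Submodule.span_le.mpr ?_
    rintro _ ⟨⟨b, hb⟩, rfl⟩
    obtain ⟨u, hu, h0, h1⟩ := (mem_low ℓ).mp hb
    have h2 : (Pi.single b 1 : Φ → k) = (u b)⁻¹ • (cidm Φ k).P ℓ (ℓ b) u := by
      funext a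
      rw [Pi.smul_apply, cP_apply]
      by_cases ha : a = b
      · subst ha; simp [h0]
      · rw [if_neg fun e => ha (hℓ e), smul_zero, Pi.single_eq_of_ne ha]
    show (Pi.single b 1 : Φ → k) ∈ _
    rw [h2]
    exact Submodule.smul_mem _ _ ((cidm Φ k).ini_le_gr ℓ _ _ ⟨u, ⟨hu, (cmem_F ℓ).mpr h1⟩, rfl⟩)

theorem card_low (hℓ : Function.Injective ℓ) (𝔞 : Submodule k (Φ → k)) : (low ℓ 𝔞).card = finrank k 𝔞 := by
  rw [← finrank_Mon (k := k), ← gr_eq_Mon hℓ, Idm.finrank_gr]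

theorem card_low_filter (hℓ : Function.Injective ℓ) (𝔞 : Submodule k (Φ → k)) (t : ℤ) :
    ((low ℓ 𝔞).filter fun b => t ≤ ℓ b).card = finrank k ↥(𝔞 ⊓ (cidm Φ k).F ℓ t) := by
  rw [← card_low hℓ]
  congr 1
  ext b
  simp only [Finset.mem_filter, mem_low]
  constructor
  · rintro ⟨⟨u, hu, h0, h1⟩, h2⟩
    exact ⟨u, ⟨hu, (cmem_F ℓ).mpr fun a ha => h1 a (by omega)⟩, h0, h1⟩
  · rintro ⟨u, hu, h0, h1⟩
    exact ⟨⟨u, hu.1, h0, h1⟩, by by_contra h; exact h0 ((cmem_F ℓ).mp hu.2 b (by omega))⟩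

theorem low_top (hℓ : Function.Injective ℓ) (𝔞 : Submodule k (Φ → k)) (t : ℤ) :
    ((low ℓ 𝔞).filter fun b => t ≤ ℓ b).card ≤ ((low (-ℓ) 𝔞).filter fun b => t ≤ ℓ b).card ∧
    ∀ u ∈ 𝔞, ∀ a, ℓ a = t → u a ≠ 0 → a ∉ low ℓ 𝔞 →
      ((low ℓ 𝔞).filter fun b => t ≤ ℓ b).card < ((low (-ℓ) 𝔞).filter fun b => t ≤ ℓ b).card := by
  have hℓ' : Function.Injective (-ℓ) := fun a b h => hℓ (neg_injective h)
  have h1 := card_low_filter hℓ 𝔞 t
  have h2 := card_low_filter hℓ' 𝔞 (1 - t)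
  have h3 := Finset.card_filter_add_card_filter_not (s := low (-ℓ) 𝔞) (fun b => t ≤ ℓ b)
  rw [card_low hℓ', Finset.filter_congr (p := fun b => ¬ t ≤ ℓ b) (q := fun b => 1 - t ≤ (-ℓ) b)
    fun b _ => by rw [Pi.neg_apply]; omega, h2] at h3
  have h4 := Submodule.finrank_sup_add_finrank_inf_eq (𝔞 ⊓ (cidm Φ k).F ℓ t) (𝔞 ⊓ (cidm Φ k).F (-ℓ) (1 - t))
  have h5 : (𝔞 ⊓ (cidm Φ k).F ℓ t) ⊓ (𝔞 ⊓ (cidm Φ k).F (-ℓ) (1 - t)) = ⊥ := by
    refine eq_bot_iff.mpr fun u hu => funext fun b => ?_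
    by_cases hb : ℓ b < t
    · exact (cmem_F ℓ).mp hu.1.2 b hb
    · exact (cmem_F (-ℓ)).mp hu.2.2 b (by rw [Pi.neg_apply]; omega)
  have h6 : (𝔞 ⊓ (cidm Φ k).F ℓ t) ⊔ (𝔞 ⊓ (cidm Φ k).F (-ℓ) (1 - t)) ≤ 𝔞 := sup_le inf_le_left inf_le_left
  have h7 := Submodule.finrank_mono h6
  rw [h5, finrank_bot] at h4
  refine ⟨by omega, fun u hu a ha h0 hn => ?_⟩
  by_contra hc
  rw [← Submodule.eq_of_le_of_finrank_le h6 (by (clear * - h1 h3 h4 hc; omega))] at hu
  obtain ⟨x, hx, y, hy, rfl⟩ := Submodule.mem_sup.mp hu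
  refine hn ((mem_low ℓ).mpr ⟨x, hx.1, ?_, fun b hb => (cmem_F ℓ).mp hx.2 b (by omega)⟩)
  rwa [Pi.add_apply, (cmem_F (-ℓ)).mp hy.2 a (by rw [Pi.neg_apply]; omega), add_zero] at h0

variable (ℓ) in
/-- the potential of a set of roots -/
def pot (S : Finset Φ) : ℕ := ∑ a, (S.filter fun b => ℓ a ≤ ℓ b).card

theorem pot_lt (hℓ : Function.Injective ℓ) {𝔞 : Submodule k (Φ → k)} {u : Φ → k} (hu : u ∈ 𝔞) {a : Φ} (h0 : u a ≠ 0)
    (hn : a ∉ low ℓ 𝔞) : pot ℓ (low ℓ 𝔞) < pot ℓ (low (-ℓ) 𝔞) :=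
  Finset.sum_lt_sum (fun b _ => (low_top hℓ 𝔞 _).1) ⟨a, Finset.mem_univ _, (low_top hℓ 𝔞 _).2 u hu a rfl h0 hn⟩

end cidm

variable {p : ℕ} {ι Φ k G : Type} [Fintype ι] [DecidableEq ι] [Fintype Φ] [DecidableEq Φ] [Field k] [Group G]

/-- the value of a functional on the positive roots -/
def RC.lv (R : RC ι Φ) (φ : (ι → ℤ) →+ ℤ) (b : Φ) : ℤ := φ (R.vec (true, b))

theorem RC.exists_pos_generic (R : RC ι Φ) :
    ∃ φ : (ι → ℤ) →+ ℤ, Function.Injective (R.lv φ) ∧ ∀ b, 0 < R.lv φ b := by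
  classical
  let s : Finset (ι → ℤ) := (Finset.univ.image fun q : Φ × Φ => R.vec (true, q.1) - R.vec (true, q.2)) ∪
    Finset.univ.image fun b => R.vec (true, b)
  obtain ⟨ψ, hψ⟩ := exists_generic s
  let φ : (ι → ℤ) →+ ℤ := ∑ i, Pi.evalAddMonoidHom (fun _ => ℤ) i
  obtain ⟨χ, hχ⟩ := exists_lex s φ ψ
  refine ⟨χ, fun b b' h => ?_, fun b => ?_⟩
  · by_contra hne
    have h1 : R.vec (true, b) - R.vec (true, b') ∈ s :=
      Finset.mem_union_left _ (Finset.mem_image.mpr ⟨(b, b'), Finset.mem_univ _, rfl⟩)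
    have h2 : χ (R.vec (true, b) - R.vec (true, b')) = 0 := by rw [map_sub]; exact sub_eq_zero.mpr h
    obtain ⟨h3, h4, h5⟩ := hχ _ h1
    have h6 := hψ _ h1 fun e => hne (congrArg Prod.snd (R.vec_inj (sub_eq_zero.mp e)))
    omega
  · refine (hχ _ (Finset.mem_union_right _ (Finset.mem_image.mpr ⟨b, Finset.mem_univ _, rfl⟩))).1 ?_
    obtain ⟨j, hj⟩ := R.exists_cf_pos b
    simp only [φ, AddMonoidHom.finsetSum_apply, Pi.evalAddMonoidHom_apply, RC.vec_true]
    exact Finset.sum_pos' (fun _ _ => by positivity) ⟨j, Finset.mem_univ _, by exact_mod_cast hj⟩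

namespace HW

variable {R : RC ι Φ} {L : Type} [AddCommGroup L] [Module k L] (H : HW R p k L) (φ : (ι → ℤ) →+ ℤ)

theorem op_sub (u v : Φ → k) : H.op (u - v) = H.op u - H.op v := map_sub H.opL u v

theorem hm_op {t : ℤ} {u : Φ → k} (hu : u ∈ (cidm Φ k).Lv (R.lv φ) t) : H.idm.Hm (H.lf φ) t (H.op u) :=
  Idm.hm_sum fun b _ => by
    by_cases h : R.lv φ b = t
    · rw [← h]; exact (H.hm_E1 φ (true, b)).smul _
    · rw [(cmem_Lv _).mp hu b h, zero_smul]; exact Idm.hm_zero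

theorem ge_op {t : ℤ} {u : Φ → k} (hu : u ∈ (cidm Φ k).F (R.lv φ) t) : H.idm.Ge (H.lf φ) t (H.op u) :=
  Idm.ge_sum fun b _ => by
    by_cases h : R.lv φ b < t
    · rw [(cmem_F _).mp hu b h, zero_smul]; exact Idm.ge_zero
    · exact (((H.hm_E1 φ (true, b)).smul _).ge).mono (not_lt.mp h)

theorem ld_op {t : ℤ} {u : Φ → k} (hu : u ∈ (cidm Φ k).F (R.lv φ) t) :
    H.idm.Ld (H.lf φ) t (H.op u) (H.op ((cidm Φ k).P (R.lv φ) t u)) :=
  ⟨H.hm_op φ ((cidm Φ k).P_mem _ t u), by rw [← op_sub]; exact H.ge_op φ ((cidm Φ k).sub_P_mem _ hu)⟩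

theorem kerOp_Mon (S : Finset Φ) : H.kerOp (Mon k S) = H.kerL S := by
  ext v
  rw [Mon, mem_kerOp_span, mem_kerL]
  constructor
  · intro h b hb
    have := h _ ⟨⟨b, hb⟩, rfl⟩
    rwa [op_single, one_smul] at this
  · rintro h _ ⟨b, rfl⟩
    rw [op_single, one_smul]; exact h b.1 b.2

theorem ini_le_kerOp_gr {𝔞 : Submodule k (Φ → k)} {N : Submodule k L} (hN : N ≤ H.kerOp 𝔞) (t : ℤ) :
    H.idm.ini (H.lf φ) t N ≤ H.kerOp ((cidm Φ k).gr (R.lv φ) 𝔞) := by
  intro v hv
  refine H.mem_kerOp.mpr fun u hu => ?_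
  refine Submodule.iSup_induction _ (motive := fun u => H.op u v = 0) hu ?_ (by rw [op_zero]; rfl)
    fun u u' h h' => by rw [op_add, LinearMap.add_apply, h, h', add_zero]
  rintro s _ ⟨u, hu, rfl⟩
  exact (H.ld_op φ hu.2).ini_le (fun w hw => H.mem_kerOp.mp (hN hw) u hu.1) t hv

theorem kerOp_gr (𝔞 : Submodule k (Φ → k)) :
    finrank k (H.kerOp 𝔞) ≤ finrank k (H.kerOp ((cidm Φ k).gr (R.lv φ) 𝔞)) := by
  have := H.fd
  exact H.idm.finrank_le_of_ini (H.lf φ) fun t => H.ini_le_kerOp_gr φ le_rfl t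

theorem kerOp_gr_inf (𝔞 : Submodule k (Φ → k)) {g : Module.End k L} (hg : H.idm.Hm (H.lf φ) 0 g) :
    finrank k ↥(H.kerOp 𝔞 ⊓ LinearMap.ker (g - 1)) ≤
      finrank k ↥(H.kerOp ((cidm Φ k).gr (R.lv φ) 𝔞) ⊓ LinearMap.ker (g - 1)) := by
  have := H.fd
  exact H.idm.finrank_le_of_ini (H.lf φ) fun t =>
    le_inf (H.ini_le_kerOp_gr φ inf_le_left t) ((hg.sub Idm.hm_one).ld.ini_le inf_le_right t)

theorem commute_gr {𝔞 : Submodule k (Φ → k)} (h : ∀ u ∈ 𝔞, ∀ v ∈ 𝔞, Commute (H.op u) (H.op v)) :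
    ∀ u ∈ (cidm Φ k).gr (R.lv φ) 𝔞, ∀ v ∈ (cidm Φ k).gr (R.lv φ) 𝔞, Commute (H.op u) (H.op v) := by
  intro u hu v hv
  refine Submodule.iSup_induction _ (motive := fun u => Commute (H.op u) (H.op v)) hu ?_
    (by rw [op_zero]; exact Commute.zero_left _) fun u u' h h' => by rw [op_add]; exact h.add_left h'
  rintro s _ ⟨u, hu, rfl⟩
  refine Submodule.iSup_induction _ (motive := fun v => Commute (H.op ((cidm Φ k).P (R.lv φ) s u)) (H.op v)) hv ?_
    (by rw [op_zero]; exact Commute.zero_right _) fun u u' h h' => by rw [op_add]; exact h.add_right h'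
  rintro s' _ ⟨v, hv, rfl⟩
  exact (H.ld_op φ hu.2).commute (H.ld_op φ hv.2) (h u hu.1 v hv.1)

theorem pow_ini {𝔞 : Submodule k (Φ → k)} {n : ℕ} (h : ∀ u ∈ 𝔞, H.op u ^ n = 0) {t : ℤ} {u : Φ → k}
    (hu : u ∈ (cidm Φ k).ini (R.lv φ) t 𝔞) : H.op u ^ n = 0 := by
  obtain ⟨v, hv, rfl⟩ := hu
  exact (H.ld_op φ hv.2).pow_eq_zero (h v hv.1)

/-- monomial degeneration along an injective functional -/
theorem kerOp_le_low {φ : (ι → ℤ) →+ ℤ} (hφ : Function.Injective (R.lv φ)) (𝔞 : Submodule k (Φ → k)) :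
    finrank k (H.kerOp 𝔞) ≤ finrank k (H.kerL (low (R.lv φ) 𝔞)) := by
  rw [← kerOp_Mon, ← gr_eq_Mon hφ]; exact H.kerOp_gr φ 𝔞

end HW

theorem RDat.Com.gr {D : RDat p ι Φ k G} {𝔞 : Submodule k (Φ → k)} (h : D.Com 𝔞) (φ : (ι → ℤ) →+ ℤ) :
    D.Com ((cidm Φ k).gr (D.R.lv φ) 𝔞) := fun L _ _ H r => H.commute_gr φ (h L H r)

theorem RDat.Com.low {D : RDat p ι Φ k G} {𝔞 : Submodule k (Φ → k)} (h : D.Com 𝔞) {φ : (ι → ℤ) →+ ℤ}
    (hφ : Function.Injective (D.R.lv φ)) : D.Com (Mon k (low (D.R.lv φ) 𝔞)) := by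
  rw [← gr_eq_Mon hφ]; exact h.gr φ

theorem RDat.Com.ab {D : RDat p ι Φ k G} (hF : D.Fa) {S : Finset Φ} (h : D.Com (Mon k S)) : D.R.Ab p S := by
  intro b hb b' hb' hn
  obtain ⟨z, hz⟩ := hn.1
  have h1 : z.1 = true := D.R.pos_of_vec_ge fun j => by
    rw [hz, Pi.add_apply, RC.vec_true, RC.vec_true]; positivity
  rcases z with ⟨e, a⟩
  cases h1
  obtain ⟨L, _, _, H, r, h0⟩ := hF a
  obtain ⟨N, hN, hN'⟩ := H.br _ _ _ hz
  have h2 := h L H r _ (single_mem_Mon hb) _ (single_mem_Mon hb')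
  rw [H.op_single, H.op_single, one_smul, one_smul] at h2
  rw [h2.eq, sub_self] at hN
  exact h0 ((smul_eq_zero.mp hN.symm).resolve_left (hN' hn))

end Cfsg.Agent.TwoF.DC
end

-- part: TwoF/DC/D2/Ad
section
/-!
# TwoF, defining characteristic, TH3b (2): the adjoint action of root elements on coefficient vectors (helper7)
-/

set_option autoImplicit false
set_option linter.unusedSectionVars false
set_option linter.unusedVariables false

namespace Cfsg.Agent.TwoF.DC

open Module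

variable {p : ℕ} {ι Φ k G : Type} [Fintype ι] [DecidableEq ι] [Fintype Φ] [DecidableEq Φ] [Field k] [Group G]

/-- the pairing with a coroot as a functional on the root lattice -/
def RC.pf (R : RC ι Φ) (x : Bool × Φ) : (ι → ℤ) →+ ℤ where
  toFun c := R.pair (R.toWt c) x
  map_zero' := by rw [R.toWt_zero, R.pair_zero]
  map_add' c d := by rw [R.toWt_add, R.pair_add]

theorem RC.lv_pf (R : RC ι Φ) (x : Bool × Φ) (b : Φ) : R.lv (R.pf x) b = R.pair (R.wt (true, b)) x := rfl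

theorem RC.lv_of_cf (R : RC ι Φ) (φ : (ι → ℤ) →+ ℤ) {a β b : Φ} {m n : ℕ} (h : R.cf a = m • R.cf β + n • R.cf b) :
    R.lv φ a = m * R.lv φ β + n * R.lv φ b := by
  have h1 : R.vec (true, a) = (m : ℤ) • R.vec (true, β) + (n : ℤ) • R.vec (true, b) := by
    funext j; simp only [RC.vec_true, h, _root_.nsmul_eq_mul, _root_.Pi.add_apply, _root_.Pi.mul_apply, _root_.Pi.natCast_apply, _root_.Nat.cast_id, _root_.Nat.cast_add, _root_.Nat.cast_mul, _root_.zsmul_eq_mul, _root_.Int.cast_natCast]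
  rw [RC.lv, h1, map_add, map_zsmul, map_zsmul, smul_eq_mul, smul_eq_mul, RC.lv, RC.lv]

theorem RC.lv_of_cf' (R : RC ι Φ) (φ : (ι → ℤ) →+ ℤ) {a β b : Φ} {m : ℕ} (h : R.cf a = m • R.cf β + R.cf b) :
    R.lv φ a = m * R.lv φ β + R.lv φ b := by
  rw [R.lv_of_cf φ (a := a) (β := β) (b := b) (m := m) (n := 1) (by rw [h, one_smul]), Nat.cast_one, one_mul]

namespace HW.Rep

variable {D : RDat p ι Φ k G} {L : Type} [AddCommGroup L] [Module k L] {H : HW D.R p k L} (r : H.Rep D)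
  (φ : (ι → ℤ) →+ ℤ)

theorem hm_z {a : Φ} (h : D.R.lv φ a = 0) (u : k) : H.idm.Hm (H.lf φ) 0 (r.ρ (D.z a u)) := by
  rw [r.z_sum a u le_rfl]
  refine Idm.hm_sum fun n _ => Idm.Hm.smul ?_ _
  have := H.hm_E φ (true, a) n
  rwa [show φ (D.R.vec (true, a)) = 0 from h, mul_zero] at this

theorem ld_z {a : Φ} (h : 0 < D.R.lv φ a) (u : k) :
    H.idm.Ld (H.lf φ) (D.R.lv φ a) (r.ρ (D.z a u) - 1) (u • H.E (true, a) 1) := by
  refine ⟨(H.hm_E1 φ _).smul u, ?_⟩
  have h1 : r.ρ (D.z a u) - 1 - u • H.E (true, a) 1 =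
      ∑ n ∈ Finset.range H.bd, u ^ (n + 1 + 1) • H.E (true, a) (n + 1 + 1) := by
    rw [r.z_sum a u (N := H.bd + 1 + 1) (by omega), Finset.sum_range_succ', Finset.sum_range_succ', pow_zero, one_smul,
      H.E_zero, zero_add, pow_one]
    abel
  rw [h1]
  refine Idm.ge_sum fun n _ => (((H.hm_E φ (true, a) (n + 1 + 1)).smul _).ge).mono ?_
  change D.R.lv φ a + 1 ≤ _ * D.R.lv φ a
  push_cast
  nlinarith only [h]

theorem z_comm_E (a : Φ) (u : k) : r.ρ (D.z a u) * H.E (true, a) 1 = H.E (true, a) 1 * r.ρ (D.z a u) := by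
  rw [r.z_sum a u le_rfl, Finset.sum_mul, Finset.mul_sum]
  refine Finset.sum_congr rfl fun n _ => ?_
  rw [smul_mul_assoc, mul_smul_comm, H.E_mul_E1, H.E_mul, add_comm 1 n, Nat.choose_one_right]

end HW.Rep

namespace RDat

variable (D : RDat p ι Φ k G)

theorem exists_col0 {β b : Φ} (hb : b ≠ β) : ∃ v : Φ → k,
    (∀ a, v a ≠ 0 → ∃ m : ℕ, 0 < m ∧ D.R.cf a = m • D.R.cf β + D.R.cf b) ∧
    ∀ (L : Type) [AddCommGroup L] [Module k L] (H : HW D.R p k L) (r : H.Rep D),
      r.ρ (D.z β 1) * H.E (true, b) 1 = (H.op v + H.E (true, b) 1) * r.ρ (D.z β 1) := by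
  let φ : (ι → ℤ) →+ ℤ := (2 : ℤ) • D.R.pf (true, b) - D.R.pair (D.R.wt (true, β)) (true, b) • D.R.pf (true, β)
  have hφ : ∀ a, D.R.lv φ a = 2 * D.R.pair (D.R.wt (true, a)) (true, b) -
      D.R.pair (D.R.wt (true, β)) (true, b) * D.R.pair (D.R.wt (true, a)) (true, β) := fun a => rfl
  have h0 : D.R.lv φ β = 0 := by rw [hφ, D.R.pair_wt_self]; ring
  have hs : 0 < D.R.lv φ b := by
    have := D.R.pair_mul_lt (x := (true, b)) (y := (true, β)) (fun e => hb (congrArg Prod.snd e).symm)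
      (fun e => by cases congrArg Prod.fst e)
    rw [hφ, D.R.pair_wt_self]; omega
  have gen : ∀ a u, (∃ m n : ℕ, 0 < m ∧ 0 < n ∧ D.R.cf a = m • D.R.cf β + n • D.R.cf b) → ∃ v : Φ → k,
      (∀ a, v a ≠ 0 → ∃ m : ℕ, 0 < m ∧ D.R.cf a = m • D.R.cf β + D.R.cf b) ∧
      ∀ (L : Type) [AddCommGroup L] [Module k L] (H : HW D.R p k L) (r : H.Rep D),
        H.idm.Ld (H.lf φ) (D.R.lv φ b) (r.ρ (D.z a u) - 1) (H.op v) := by
    rintro a u ⟨m, n, hm, hn, h⟩
    have h1 := D.R.lv_of_cf φ h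
    rw [h0, mul_zero, zero_add] at h1
    by_cases h2 : n = 1
    · subst h2
      rw [Nat.cast_one, one_mul] at h1
      refine ⟨Pi.single a u, fun a' ha' => ⟨m, hm, ?_⟩, fun L _ _ H r => ?_⟩
      · by_cases h3 : a' = a
        · rw [h3, h, one_smul]
        · exact (ha' (Pi.single_eq_of_ne h3 _)).elim
      · rw [H.op_single, ← h1]; exact r.ld_z φ (h1 ▸ hs) u
    · have h3 : (2 : ℤ) ≤ n := by omega
      refine ⟨0, fun a' ha' => (ha' rfl).elim, fun L _ _ H r => ?_⟩
      rw [H.op_zero]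
      refine ⟨Idm.hm_zero, ?_⟩
      rw [sub_zero]
      exact (r.ld_z φ (by rw [h1]; nlinarith only [hs, h3]) u).ge.mono (by rw [h1]; nlinarith only [hs, h3])
  have key : ∀ g ∈ Subgroup.closure {g | ∃ a u, (∃ m n : ℕ, 0 < m ∧ 0 < n ∧
      D.R.cf a = m • D.R.cf β + n • D.R.cf b) ∧ g = D.z a u}, ∃ v : Φ → k,
      (∀ a, v a ≠ 0 → ∃ m : ℕ, 0 < m ∧ D.R.cf a = m • D.R.cf β + D.R.cf b) ∧
      ∀ (L : Type) [AddCommGroup L] [Module k L] (H : HW D.R p k L) (r : H.Rep D),
        H.idm.Ld (H.lf φ) (D.R.lv φ b) (r.ρ g - 1) (H.op v) := by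
    intro g hg
    induction hg using Subgroup.closure_induction'' with
    | mem g hg => obtain ⟨a, u, h, rfl⟩ := hg; exact gen a u h
    | inv_mem g hg => obtain ⟨a, u, h, rfl⟩ := hg; rw [← D.z_neg]; exact gen a _ h
    | one =>
      refine ⟨0, fun a' ha' => (ha' rfl).elim, fun L _ _ H r => ?_⟩
      rw [map_one, sub_self, H.op_zero]; exact Idm.hm_zero.ld
    | mul g g' _ _ h h' =>
      obtain ⟨v, h1, h2⟩ := h
      obtain ⟨v', h1', h2'⟩ := h'
      refine ⟨v + v', fun a ha => ?_, fun L _ _ H r => ?_⟩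
      · by_cases h3 : v a = 0
        · exact h1' a fun h4 => ha (by rw [Pi.add_apply, h3, h4, add_zero])
        · exact h1 a h3
      · have h3 : r.ρ (g * g') - 1 = (r.ρ g - 1) + (r.ρ g' - 1) + (r.ρ g - 1) * (r.ρ g' - 1) := by
          rw [map_mul]; noncomm_ring
        rw [h3, H.op_add]
        exact ((h2 L H r).add (h2' L H r)).add_ge (((h2 L H r).ge.mul (h2' L H r).ge).mono (by omega))
  obtain ⟨v, h1, h2⟩ := key _ (D.cm β b 1 1)
  refine ⟨v, h1, fun L _ _ H r => ?_⟩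
  have h3 := (r.hm_z φ h0 1).ld.mul (r.ld_z φ hs 1)
  have h4 := (((h2 L H r).add (r.ld_z φ hs 1)).add_ge
    (((h2 L H r).ge.mul (r.ld_z φ hs 1).ge).mono (by omega))).mul (r.hm_z φ h0 1).ld
  rw [zero_add, one_smul] at h3
  rw [add_zero, one_smul] at h4
  refine h3.unique ?_
  convert h4 using 1
  have h5 : r.ρ (D.z β 1 * D.z b 1 * (D.z β 1)⁻¹ * (D.z b 1)⁻¹) * r.ρ (D.z b 1) * r.ρ (D.z β 1) =
      r.ρ (D.z β 1) * r.ρ (D.z b 1) := by
    rw [← map_mul, ← map_mul, ← map_mul]; congr 1; group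
  rw [mul_sub, ← h5]
  noncomm_ring

theorem exists_col (hF : D.Fa) (β b : Φ) : ∃ v : Φ → k, v b = 1 ∧
    (∀ a, v a ≠ 0 → ∃ m : ℕ, D.R.cf a = m • D.R.cf β + D.R.cf b) ∧
    (∀ a, D.R.cf a = D.R.cf β + D.R.cf b → D.R.NZ p (true, β) (true, b) → v a ≠ 0) ∧
    ∀ (L : Type) [AddCommGroup L] [Module k L] (H : HW D.R p k L) (r : H.Rep D),
      r.ρ (D.z β 1) * H.E (true, b) 1 = H.op v * r.ρ (D.z β 1) := by
  by_cases hb : b = β
  · subst hb
    refine ⟨Pi.single b 1, Pi.single_eq_same _ _, fun a ha => ⟨0, ?_⟩, fun a ha _ => ?_, fun L _ _ H r => ?_⟩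
    · by_cases h3 : a = b
      · rw [h3, zero_smul, zero_add]
      · exact (ha (Pi.single_eq_of_ne h3 _)).elim
    · exfalso
      have h1 := D.R.lv_of_cf' (D.R.pf (true, b)) (a := a) (β := b) (b := b) (m := 1) (by rw [ha, one_smul])
      have h2 := D.R.pair_le_three (true, b) (true, a)
      rw [RC.lv_pf, RC.lv_pf, D.R.pair_wt_self] at h1
      omega
    · rw [H.op_single, one_smul, r.z_comm_E]
  obtain ⟨v, h1, h2⟩ := D.exists_col0 hb
  have hβ : 0 < D.R.lv (D.R.pf (true, β)) β := by rw [RC.lv_pf, D.R.pair_wt_self]; omega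
  have hv : ∀ a, v a ≠ 0 → D.R.lv (D.R.pf (true, β)) b < D.R.lv (D.R.pf (true, β)) a := fun a ha => by
    obtain ⟨m, hm, h⟩ := h1 a ha
    rw [D.R.lv_of_cf' _ h]
    have : (0 : ℤ) < m := by exact_mod_cast hm
    nlinarith
  have h3 : v b = 0 := by
    by_contra h; exact lt_irrefl _ (hv b h)
  refine ⟨v + Pi.single b 1, by simp [h3], fun a ha => ?_, fun a ha hn h0 => ?_, fun L _ _ H r => ?_⟩
  · by_cases h4 : a = b
    · exact ⟨0, by rw [h4, zero_smul, zero_add]⟩
    · obtain ⟨m, -, h⟩ := h1 a fun e => ha (by rw [Pi.add_apply, e, Pi.single_eq_of_ne h4, add_zero])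
      exact ⟨m, h⟩
  · set ψ := D.R.pf (true, β)
    have h4 := D.R.lv_of_cf' ψ (a := a) (β := β) (b := b) (m := 1) (by rw [ha, one_smul])
    rw [Nat.cast_one, one_mul] at h4
    have h5 : a ≠ b := fun e => by rw [e] at h4; omega
    rw [Pi.add_apply, Pi.single_eq_of_ne h5, add_zero] at h0
    have h6 : v ∈ (cidm Φ k).F (D.R.lv ψ) (D.R.lv ψ β + D.R.lv ψ b + 1) := (cmem_F _).mpr fun a' ha' => by
      by_contra h7
      obtain ⟨m, hm, h⟩ := h1 a' h7
      have h8 := D.R.lv_of_cf' ψ h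
      have h9 : m = 1 := by
        by_contra h10
        have : (2 : ℤ) ≤ m := by omega
        nlinarith only [hβ, ha', h8, this]
      rw [h9, one_smul, ← ha] at h
      exact h7 (by rw [D.R.cf_inj h, h0])
    obtain ⟨L, _, _, H, r, hE⟩ := hF a
    obtain ⟨N, hN, hN'⟩ := H.br _ _ _ (D.R.vec_of_cf ha)
    have h7 := (r.ld_z ψ hβ 1).mul (H.hm_E1 ψ (true, b)).ld
    have h8 := ((H.hm_E1 ψ (true, b)).ld.mul (r.ld_z ψ hβ 1))
    rw [one_smul] at h7 h8
    rw [add_comm] at h8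
    have h9 : H.idm.Ge (H.lf ψ) 0 (r.ρ (D.z β 1)) := by
      have := ((r.ld_z ψ hβ 1).ge.mono hβ.le).add Idm.hm_one.ge
      rwa [sub_add_cancel] at this
    have h10 := h8.add_ge (((H.ge_op ψ h6).mul h9).mono (by rw [add_zero]; rfl))
    have h11 : (r.ρ (D.z β 1) - 1) * H.E (true, b) 1 =
        H.E (true, b) 1 * (r.ρ (D.z β 1) - 1) + H.op v * r.ρ (D.z β 1) := by
      rw [sub_mul, h2 L H r]; noncomm_ring
    rw [← h11] at h10
    rw [h7.unique h10, sub_self] at hN
    exact hE ((smul_eq_zero.mp hN.symm).resolve_left (hN' hn))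
  · rw [H.op_add, H.op_single, one_smul, h2 L H r]

/-- the adjoint action of `z β 1` on coefficient vectors -/
theorem exists_Ad (hF : D.Fa) (β : Φ) : ∃ A : (Φ → k) →ₗ[k] (Φ → k), (∀ b, A (Pi.single b 1) b = 1) ∧
    (∀ b a, A (Pi.single b 1) a ≠ 0 → ∃ m : ℕ, D.R.cf a = m • D.R.cf β + D.R.cf b) ∧
    (∀ b a, D.R.cf a = D.R.cf β + D.R.cf b → D.R.NZ p (true, β) (true, b) → A (Pi.single b 1) a ≠ 0) ∧
    ∀ (L : Type) [AddCommGroup L] [Module k L] (H : HW D.R p k L) (r : H.Rep D) (u : Φ → k),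
      r.ρ (D.z β 1) * H.op u = H.op (A u) * r.ρ (D.z β 1) := by
  choose c h1 h2 h3 h4 using D.exists_col hF β
  let A : (Φ → k) →ₗ[k] (Φ → k) := (Pi.basisFun k Φ).constr k c
  have hA : ∀ b, A (Pi.single b 1) = c b := fun b => by
    rw [← Pi.basisFun_apply]; exact (Pi.basisFun k Φ).constr_basis k c b
  refine ⟨A, fun b => by rw [hA, h1], fun b a => by rw [hA]; exact h2 b a, fun b a => by rw [hA]; exact h3 b a,
    fun L _ _ H r u => ?_⟩
  conv_rhs => rw [eq_sum_single u, map_sum]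
  rw [show H.op (∑ b, A (u b • (Pi.single b 1 : Φ → k))) = ∑ b, H.op (A (u b • (Pi.single b 1 : Φ → k))) from
    map_sum H.opL _ _, HW.op, Finset.mul_sum, Finset.sum_mul]
  refine Finset.sum_congr rfl fun b _ => ?_
  rw [map_smul, H.op_smul, hA, mul_smul_comm, smul_mul_assoc, h4 b L H r]

end RDat

end Cfsg.Agent.TwoF.DC
end

private theorem dce_dfcbfc45be07 : _root_.True := by
  try have : _root_.True := by simp only [_root_.Cfsg.Agent.TwoF.DC.low.eq_1]
  try have : _root_.True := by simp only [_root_.Cfsg.Agent.TwoF.DC.RC.lv.eq_1]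
  try have : _root_.True := by simp only [_root_.Cfsg.Agent.TwoF.DC.Mon.eq_1]
  exact _root_.True.intro
end

-- part: TwoF/DC/D1/Main
section
prune_inst 0x7f401203c041942020000000092c1000300080000020040880440e00706034122600042a0410c000412103a880800050008109800800000000000000000000001209840920091480004060009000000400000000000000000000000000000010004000000000
set_option linter.all false
open scoped Cfsg.Agent.FastGrp

-- part: TwoF/DC/D1/Lead
section
/-!
# TwoF, defining characteristic, TH3a (2): the height filtration of `U`, leading vectors (helper7)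
-/

set_option autoImplicit false
set_option linter.unusedSectionVars false
set_option linter.unusedVariables false

namespace Cfsg.Agent.TwoF.DC

open Module

variable {p : ℕ} {ι Φ k G : Type} [Fintype ι] [DecidableEq ι] [Fintype Φ] [DecidableEq Φ] [Field k] [Group G]

namespace RDat

variable (D : RDat p ι Φ k G)

theorem z_mem_Uge {e : ℕ} {b : Φ} (h : e ≤ D.ht b) (t : k) : D.z b t ∈ D.Uge e := Subgroup.subset_closure ⟨b, t, h, rfl⟩

theorem Uge_anti {e e' : ℕ} (h : e ≤ e') : D.Uge e' ≤ D.Uge e :=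
  Subgroup.closure_mono fun _ ⟨b, t, h1, h2⟩ => ⟨b, t, h.trans h1, h2⟩

theorem Uge_le_U (e : ℕ) : D.Uge e ≤ D.U := Subgroup.closure_mono fun _ ⟨b, t, _, h2⟩ => ⟨b, t, h2⟩

theorem U_le_Uge : D.U ≤ D.Uge 1 := Subgroup.closure_mono fun _ ⟨b, t, h2⟩ => ⟨b, t, D.ht_pos b, h2⟩

theorem exists_Uge_bot : ∃ M, D.Uge M = ⊥ := by
  obtain ⟨M, hM⟩ := ((Finset.univ : Finset Φ).image D.ht).bddAbove
  refine ⟨M + 1, (Subgroup.closure_eq_bot_iff).mpr ?_⟩
  rintro _ ⟨b, t, h, -⟩
  have := hM (Finset.mem_coe.mpr (Finset.mem_image_of_mem D.ht (Finset.mem_univ b)))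
  omega

theorem ht_of_cf {a β b : Φ} {m n : ℕ} (h : D.R.cf a = m • D.R.cf β + n • D.R.cf b) :
    D.ht a = m * D.ht β + n * D.ht b := by
  rw [D.ht_eq a, D.ht_eq β, D.ht_eq b, h, Finset.mul_sum, Finset.mul_sum, ← Finset.sum_add_distrib]
  exact Finset.sum_congr rfl fun j _ => by simp only [Pi.add_apply, Pi.smul_apply, smul_eq_mul]; ring

theorem cm_mem (β b : Φ) (s t : k) : D.z β s * D.z b t * (D.z β s)⁻¹ * (D.z b t)⁻¹ ∈ D.Uge (D.ht b + 1) := by
  refine Subgroup.closure_mono ?_ (D.cm β b s t)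
  rintro _ ⟨a, u, ⟨m, n, hm, hn, h⟩, rfl⟩
  refine ⟨a, u, ?_, rfl⟩
  rw [D.ht_of_cf h]
  have := D.ht_pos β
  nlinarith

theorem conj_z_mem (β : Φ) (s : k) {e : ℕ} {x : G} (hx : x ∈ D.Uge e) : D.z β s * x * (D.z β s)⁻¹ ∈ D.Uge e := by
  induction hx using Subgroup.closure_induction with
  | mem x hx =>
    obtain ⟨b, t, h, rfl⟩ := hx
    have := Subgroup.mul_mem _ (D.Uge_anti (by omega : e ≤ D.ht b + 1) (D.cm_mem β b s t)) (D.z_mem_Uge h t)
    rwa [inv_mul_cancel_right] at this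
  | one => rw [mul_one, mul_inv_cancel]; exact Subgroup.one_mem _
  | mul x y _ _ hx hy => convert Subgroup.mul_mem _ hx hy using 1; group
  | inv x _ hx => convert Subgroup.inv_mem _ hx using 1; group

theorem conj_mem {u : G} (hu : u ∈ D.U) {e : ℕ} : ∀ x ∈ D.Uge e, u * x * u⁻¹ ∈ D.Uge e := by
  induction hu using Subgroup.closure_induction'' with
  | mem u hu => obtain ⟨b, t, rfl⟩ := hu; exact fun x hx => D.conj_z_mem b t hx
  | inv_mem u hu => obtain ⟨b, t, rfl⟩ := hu; rw [← D.z_neg]; exact fun x hx => D.conj_z_mem b _ hx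
  | one => intro x hx; simpa using hx
  | mul u v _ _ hu hv => intro x hx; convert hu _ (hv x hx) using 1; group

theorem conj_mem' {u : G} (hu : u ∈ D.U) {e : ℕ} {x : G} (hx : x ∈ D.Uge e) : u⁻¹ * x * u ∈ D.Uge e := by
  simpa using D.conj_mem (D.U.inv_mem hu) x hx

theorem comm_mem {u : G} (hu : u ∈ D.U) {e : ℕ} {x : G} (hx : x ∈ D.Uge e) : u * x * u⁻¹ * x⁻¹ ∈ D.Uge (e + 1) := by
  induction hu using Subgroup.closure_induction with
  | mem u hu =>
    obtain ⟨β, s, rfl⟩ := hu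
    induction hx using Subgroup.closure_induction with
    | mem x hx => obtain ⟨b, t, h, rfl⟩ := hx; exact D.Uge_anti (by omega) (D.cm_mem β b s t)
    | one => simp
    | mul x y hx' _ hx hy => convert Subgroup.mul_mem _ hx (D.conj_mem (D.Uge_le_U e hx') _ hy) using 1; group
    | inv x hx' hx => convert D.conj_mem' (D.Uge_le_U e hx') (Subgroup.inv_mem _ hx) using 1; group
  | one => simp
  | mul u v hu' _ hu hv => convert Subgroup.mul_mem _ (D.conj_mem hu' _ hv) hu using 1; group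
  | inv u hu' hu => convert D.conj_mem' hu' (Subgroup.inv_mem _ hu) using 1; group

/-- the product of root elements along a list -/
def pz (l : List Φ) (v : Φ → k) : G := (l.map fun b => D.z b (v b)).prod

theorem pz_cons (b : Φ) (l : List Φ) (v : Φ → k) : D.pz (b :: l) v = D.z b (v b) * D.pz l v := List.prod_cons

theorem z_mem_of_supp {e : ℕ} {v : Φ → k} (hv : ∀ b, D.ht b ≠ e → v b = 0) (b : Φ) : D.z b (v b) ∈ D.Uge e := by
  by_cases h : D.ht b = e
  · exact D.z_mem_Uge h.ge _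
  · rw [hv b h, D.z_zero]; exact Subgroup.one_mem _

theorem pz_mem {e : ℕ} {v : Φ → k} (hv : ∀ b, D.ht b ≠ e → v b = 0) (l : List Φ) : D.pz l v ∈ D.Uge e := by
  induction l with
  | nil => exact Subgroup.one_mem _
  | cons b l ih => rw [pz_cons]; exact Subgroup.mul_mem _ (D.z_mem_of_supp hv b) ih

theorem pz_zero (l : List Φ) : D.pz l 0 = 1 := by
  induction l with
  | nil => rfl
  | cons b l ih => rw [pz_cons, ih, Pi.zero_apply, D.z_zero, mul_one]

theorem pz_single {l : List Φ} (hl : l.Nodup) (b : Φ) (t : k) :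
    D.pz l (Pi.single b t) = if b ∈ l then D.z b t else 1 := by
  induction l with
  | nil => rfl
  | cons a l ih =>
    rw [List.nodup_cons] at hl
    rw [pz_cons, ih hl.2]
    by_cases h : a = b
    · subst h; simp [hl.1]
    · simp [h, Ne.symm h, D.z_zero]

theorem pz_add {e : ℕ} {v v' : Φ → k} (hv : ∀ b, D.ht b ≠ e → v b = 0) (hv' : ∀ b, D.ht b ≠ e → v' b = 0) (l : List Φ) :
    (D.pz l (v + v'))⁻¹ * (D.pz l v * D.pz l v') ∈ D.Uge (e + 1) := by
  induction l with
  | nil => simp [pz]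
  | cons b l ih =>
    rw [pz_cons, pz_cons, pz_cons, Pi.add_apply, D.z_add]
    have h1 := D.comm_mem (D.U.inv_mem (D.Uge_le_U e (D.pz_mem hv l))) (Subgroup.inv_mem _ (D.z_mem_of_supp hv' b))
    convert Subgroup.mul_mem _ ih (D.conj_mem' (D.Uge_le_U e (D.pz_mem hv' l)) h1) using 1
    group

variable {D} {e : ℕ} {x x' : G} {v v' : Φ → k}

theorem lead_iff : D.Lead x e v ↔ (∀ b, D.ht b ≠ e → v b = 0) ∧ (D.pz Finset.univ.toList v)⁻¹ * x ∈ D.Uge (e + 1) :=
  and_congr_right fun _ => ⟨fun ⟨y, hy, h⟩ => by rw [h, pz, inv_mul_cancel_left]; exact hy,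
    fun h => ⟨_, h, by rw [pz, mul_inv_cancel_left]⟩⟩

theorem Lead.mem (h : D.Lead x e v) : x ∈ D.Uge e := by
  have := Subgroup.mul_mem _ (D.pz_mem h.1 Finset.univ.toList) (D.Uge_anti (Nat.le_succ e) (lead_iff.mp h).2)
  rwa [mul_inv_cancel_left] at this

theorem Lead.mul (h : D.Lead x e v) (h' : D.Lead x' e v') : D.Lead (x * x') e (v + v') := by
  refine lead_iff.mpr ⟨fun b hb => by rw [Pi.add_apply, h.1 b hb, h'.1 b hb, add_zero], ?_⟩
  convert Subgroup.mul_mem _ (Subgroup.mul_mem _ (D.pz_add h.1 h'.1 Finset.univ.toList)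
    (D.conj_mem' (D.Uge_le_U e (D.pz_mem h'.1 Finset.univ.toList)) (lead_iff.mp h).2)) (lead_iff.mp h').2 using 1
  group

theorem lead_zero (h : x ∈ D.Uge (e + 1)) : D.Lead x e 0 :=
  lead_iff.mpr ⟨fun _ _ => rfl, by rwa [pz_zero, inv_one, one_mul]⟩

theorem lead_z {b : Φ} (h : D.ht b = e) (t : k) : D.Lead (D.z b t) e (Pi.single b t) :=
  lead_iff.mpr ⟨fun a ha => Pi.single_eq_of_ne (fun h1 => ha (by rw [h1, h])) _, by
    rw [D.pz_single (Finset.nodup_toList _), if_pos (Finset.mem_toList.mpr (Finset.mem_univ b)), inv_mul_cancel]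
    exact Subgroup.one_mem _⟩

theorem exists_lead (h : x ∈ D.Uge e) : ∃ v, D.Lead x e v := by
  have gen : ∀ b t, e ≤ D.ht b → ∃ v, D.Lead (D.z b t) e v := fun b t h => by
    rcases h.eq_or_lt with h | h
    · exact ⟨_, lead_z h.symm t⟩
    · exact ⟨_, lead_zero (D.z_mem_Uge h t)⟩
  induction h using Subgroup.closure_induction'' with
  | mem x hx => obtain ⟨b, t, h, rfl⟩ := hx; exact gen b t h
  | inv_mem x hx => obtain ⟨b, t, h, rfl⟩ := hx; rw [← D.z_neg]; exact gen b _ h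
  | one => exact ⟨_, lead_zero (Subgroup.one_mem _)⟩
  | mul x y _ _ hx hy =>
    obtain ⟨v, hv⟩ := hx
    obtain ⟨v', hv'⟩ := hy
    exact ⟨_, hv.mul hv'⟩

theorem Lead.inv_mul (h : D.Lead x e v) (h' : D.Lead x' e v) : x⁻¹ * x' ∈ D.Uge (e + 1) := by
  convert Subgroup.mul_mem _ (Subgroup.inv_mem _ (lead_iff.mp h).2) (lead_iff.mp h').2 using 1
  group

theorem Lead.conj (h : D.Lead x e v) {u : G} (hu : u ∈ D.U) : D.Lead (u * x * u⁻¹) e v := by
  have := (lead_zero (D.comm_mem hu h.mem)).mul h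
  rwa [inv_mul_cancel_right, zero_add] at this

theorem lead_list {α : Type} {l : List α} {f : α → G} {w : α → Φ → k} (h : ∀ a ∈ l, D.Lead (f a) e (w a)) :
    D.Lead (l.map f).prod e (l.map w).sum := by
  induction l with
  | nil => exact lead_zero (Subgroup.one_mem _)
  | cons a l ih =>
    rw [List.map_cons, List.map_cons, List.prod_cons, List.sum_cons]
    exact (h a List.mem_cons_self).mul (ih fun b hb => h b (List.mem_cons_of_mem _ hb))

section tw

variable [Fact p.Prime] {n : ℕ} {Θ : G →* G} {θ : Equiv.Perm Φ} {ε : Φ → kˣ} (hΘ : D.Tw n Θ θ ε)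
include hΘ

theorem Tw.map_mem (h : x ∈ D.Uge e) : Θ x ∈ D.Uge e := by
  refine (Subgroup.closure_le ((D.Uge e).comap Θ)).mpr ?_ h
  rintro _ ⟨b, t, h, rfl⟩
  show Θ _ ∈ D.Uge e
  rw [hΘ.z]; exact D.z_mem_Uge (by rwa [hΘ.ht]) _

theorem Tw.lead (h : D.Lead x e v) : D.Lead (Θ x) e fun a => ε (θ.symm a) * v (θ.symm a) ^ p ^ n := by
  have hp : p ≠ 0 := (Fact.out : p.Prime).ne_zero
  obtain ⟨h1, y, hy, rfl⟩ := h
  have h2 : D.Lead (Finset.univ.toList.map fun b => D.z (θ b) (ε b * v b ^ p ^ n)).prod e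
      (Finset.univ.toList.map fun b => (Pi.single (θ b) (ε b * v b ^ p ^ n) : Φ → k)).sum := by
    refine lead_list fun b _ => ?_
    by_cases hb : D.ht b = e
    · exact lead_z (by rwa [hΘ.ht]) _
    · simp only [h1 b hb, ne_eq, pow_eq_zero_iff', hp, false_and, not_false_eq_true, zero_pow, mul_zero, D.z_zero,
        Pi.single_zero]
      exact lead_zero (Subgroup.one_mem _)
  have h3 := h2.mul (lead_zero (hΘ.map_mem hy))
  rw [add_zero, Finset.sum_map_toList] at h3
  convert h3 using 1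
  · rw [map_mul, map_list_prod, List.map_map]
    congr 2
    exact List.map_congr_left fun b _ => hΘ.z b _
  · funext a
    rw [Finset.sum_apply, Finset.sum_eq_single (θ.symm a) (fun b _ hb => Pi.single_eq_of_ne
      (fun e => hb (by rw [e, Equiv.symm_apply_apply])) _) fun h => (h (Finset.mem_univ _)).elim]
    simp

end tw

variable (D) in
/-- the height as a functional on the root lattice -/
def hf : (ι → ℤ) →+ ℤ where
  toFun c := ∑ j, c j * (D.ht (D.zi j) : ℤ)
  map_zero' := by simp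
  map_add' c d := by simp [add_mul, Finset.sum_add_distrib]

theorem lv_hf (b : Φ) : D.R.lv D.hf b = D.ht b := by
  rw [D.ht_eq b]; push_cast; rfl

end RDat

theorem Idm.Ld.mul_one {k V α : Type} [Field k] [AddCommGroup V] [Module k V] {I : Idm k V α} {ℓ : α → ℤ} {s : ℤ}
    (hs : 0 < s) {a b x y : Module.End k V} (h : I.Ld ℓ s (a - 1) x) (h' : I.Ld ℓ s (b - 1) y) :
    I.Ld ℓ s (a * b - 1) (x + y) := by
  have h3 : a * b - 1 = (a - 1) + (b - 1) + (a - 1) * (b - 1) := by noncomm_ring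
  rw [h3]
  exact (h.add h').add_ge ((h.ge.mul h'.ge).mono (by omega))

namespace HW.Rep

variable {D : RDat p ι Φ k G} {L : Type} [AddCommGroup L] [Module k L] {H : HW D.R p k L} (r : H.Rep D)

theorem ld_z_ht (b : Φ) (t : k) : H.idm.Ld (H.lf D.hf) (D.ht b) (r.ρ (D.z b t) - 1) (t • H.E (true, b) 1) := by
  rw [← D.lv_hf]
  exact r.ld_z _ (by rw [D.lv_hf]; exact_mod_cast D.ht_pos b) t

theorem ge_Uge {e : ℕ} {x : G} (hx : x ∈ D.Uge e) : H.idm.Ge (H.lf D.hf) e (r.ρ x - 1) := by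
  induction hx using Subgroup.closure_induction'' with
  | mem x hx => obtain ⟨b, t, h, rfl⟩ := hx; exact (r.ld_z_ht b t).ge.mono (by exact_mod_cast h)
  | inv_mem x hx => obtain ⟨b, t, h, rfl⟩ := hx; rw [← D.z_neg]; exact (r.ld_z_ht b _).ge.mono (by exact_mod_cast h)
  | one => rw [map_one, sub_self]; exact Idm.ge_zero
  | mul x y _ _ hx hy =>
    have h3 : r.ρ (x * y) - 1 = (r.ρ x - 1) + (r.ρ y - 1) + (r.ρ x - 1) * (r.ρ y - 1) := by rw [map_mul]; noncomm_ring
    rw [h3]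
    exact (hx.add hy).add ((hx.mul hy).mono (by omega))

theorem ld_lead {e : ℕ} {x : G} {v : Φ → k} (h : D.Lead x e v) : H.idm.Ld (H.lf D.hf) e (r.ρ x - 1) (H.op v) := by
  obtain ⟨h1, y, hy, rfl⟩ := h
  have h0 : H.idm.Ld (H.lf D.hf) e (r.ρ y - 1) 0 := ⟨Idm.hm_zero, by rw [sub_zero]; exact_mod_cast r.ge_Uge hy⟩
  rcases Nat.eq_zero_or_pos e with rfl | he
  · have h2 : v = 0 := funext fun b => h1 b (D.ht_pos b).ne'
    subst h2
    rwa [show (List.map (fun b => D.z b ((0 : Φ → k) b)) Finset.univ.toList).prod = 1 from D.pz_zero _, one_mul,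
      H.op_zero]
  have he' : (0 : ℤ) < e := by exact_mod_cast he
  have h2 : ∀ l : List Φ, H.idm.Ld (H.lf D.hf) e (r.ρ (D.pz l v) - 1) (l.map fun b => v b • H.E (true, b) 1).sum := by
    intro l
    induction l with
    | nil => simpa [RDat.pz] using (Idm.hm_zero (I := H.idm) (ℓ := H.lf D.hf) (s := e)).ld
    | cons b l ih =>
      rw [D.pz_cons, map_mul, List.map_cons, List.sum_cons]
      refine Idm.Ld.mul_one he' ?_ ih
      by_cases hb : D.ht b = e
      · rw [← hb]; exact r.ld_z_ht b _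
      · rw [h1 b hb, D.z_zero, map_one, sub_self, zero_smul]; exact Idm.hm_zero.ld
  have h3 := (h2 Finset.univ.toList).mul_one he' h0
  rwa [add_zero, Finset.sum_map_toList, ← map_mul] at h3

end HW.Rep

theorem HW.coeff_eq_zero {R : RC ι Φ} {L : Type} [AddCommGroup L] [Module k L] (H : HW R p k L) {u : Φ → k}
    (h : H.op u = 0) {b : Φ} (hb : H.E (true, b) 1 ≠ 0) : u b = 0 := by
  have h1 := H.hom_eq_zero_of_sum Finset.univ (fun a => u a • H.E (true, a) 1) (fun a => R.wt (true, a))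
    (fun a _ => (H.hom_E1 _).smul _) h (R.wt (true, b))
  rw [Finset.sum_eq_single_of_mem b (by simp) fun a ha hab =>
    (hab (congrArg Prod.snd (R.wt_inj (Finset.mem_filter.mp ha).2))).elim] at h1
  exact (smul_eq_zero.mp h1).resolve_right hb

theorem RDat.Lead.unique {D : RDat p ι Φ k G} (hF : D.Fa) {x : G} {e : ℕ} {v v' : Φ → k} (h : D.Lead x e v)
    (h' : D.Lead x e v') : v = v' := by
  funext b
  obtain ⟨L, _, _, H, r, h0⟩ := hF b
  have h1 := H.coeff_eq_zero (u := v - v') (by rw [H.op_sub, (r.ld_lead h).unique (r.ld_lead h'), sub_self]) h0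
  exact sub_eq_zero.mp h1

end Cfsg.Agent.TwoF.DC
end

-- part: TwoF/DC/D1/Fix
section
/-!
# TwoF, defining characteristic, TH3a (1): fixed vectors of semilinear maps (helper7)
-/

set_option autoImplicit false
set_option linter.unusedSectionVars false
set_option linter.unusedVariables false

namespace Cfsg.Agent.TwoF.DC

open Module

variable {k : Type} [Field k] [IsAlgClosed k] {p : ℕ} [Fact p.Prime] [CharP k p] {e : ℕ}

theorem card_frob_fix (he : 0 < e) : Nat.card {a : k // a ^ p ^ e = a} = p ^ e := by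
  classical
  have h1 : 1 < p ^ e := Nat.one_lt_pow he.ne' (Fact.out : p.Prime).one_lt
  have hsep : (Polynomial.X ^ p ^ e - Polynomial.X : Polynomial k).Separable :=
    galois_poly_separable p (p ^ e) (dvd_pow_self p he.ne')
  have h2 : (Polynomial.X ^ p ^ e - Polynomial.X : Polynomial k).roots.toFinset.card = p ^ e := by
    rw [Multiset.toFinset_card_of_nodup (Polynomial.nodup_roots hsep),
      ← (IsAlgClosed.splits _).natDegree_eq_card_roots, FiniteField.X_pow_card_sub_X_natDegree_eq _ h1]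
  refine Eq.trans ?_ h2
  rw [← Nat.card_eq_finsetCard]
  refine Nat.card_congr (Equiv.subtypeEquivRight fun a => ?_)
  rw [Multiset.mem_toFinset, Polynomial.mem_roots (FiniteField.X_pow_card_sub_X_ne_zero _ h1)]
  simp [sub_eq_zero]

variable {V : Type} [AddCommGroup V] [Module k V] [FiniteDimensional k V]

/-- the number of fixed vectors of a semilinear map in a subspace -/
theorem card_semi_fix (he : 0 < e) (φ : V →ₛₗ[iterateFrobenius k p e] V) (W : Submodule k V) :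
    Nat.card {v // v ∈ W ∧ φ v = v} = (p ^ e) ^ finrank k (Submodule.span k {v | v ∈ W ∧ φ v = v}) := by
  classical
  obtain ⟨b, hb1, hb2, hb3⟩ := exists_linearIndependent k {v | v ∈ W ∧ φ v = v}
  have : Finite b := hb3.finite
  have : Fintype b := Fintype.ofFinite b
  have hφ : ∀ c : b → k, φ (∑ i, c i • (i : V)) = ∑ i, c i ^ p ^ e • (i : V) := fun c => by
    rw [map_sum]
    exact Finset.sum_congr rfl fun i _ => by rw [map_smulₛₗ, iterateFrobenius_def, (hb1 i.2).2]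
  let f : (b → {a : k // a ^ p ^ e = a}) → {v // v ∈ W ∧ φ v = v} := fun c =>
    ⟨∑ i, (c i).1 • (i : V), W.sum_mem fun i _ => W.smul_mem _ (hb1 i.2).1, by
      rw [hφ]; exact Finset.sum_congr rfl fun i _ => by rw [(c i).2]⟩
  have hf : Function.Bijective f := by
    constructor
    · intro c c' h
      funext i
      exact Subtype.ext (Fintype.linearIndependent_iffₛ.mp hb3 _ _ (congrArg Subtype.val h) i)
    · rintro ⟨v, hv⟩
      have h1 : v ∈ Submodule.span k (Set.range ((↑) : b → V)) := by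
        rw [Subtype.range_coe, hb2]; exact Submodule.subset_span hv
      obtain ⟨c, rfl⟩ := (Submodule.mem_span_range_iff_exists_fun k).mp h1
      have h2 := hv.2
      rw [hφ] at h2
      exact ⟨fun i => ⟨c i, Fintype.linearIndependent_iffₛ.mp hb3 _ _ h2 i⟩, rfl⟩
  have h3 := finrank_span_eq_card hb3
  rw [Subtype.range_coe, hb2] at h3
  rw [← Nat.card_congr (Equiv.ofBijective f hf), Nat.card_fun, card_frob_fix he, h3, Nat.card_eq_fintype_card]

theorem finite_semi_fix (he : 0 < e) (φ : V →ₛₗ[iterateFrobenius k p e] V) (W : Submodule k V) :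
    Finite {v // v ∈ W ∧ φ v = v} :=
  Nat.finite_of_card_ne_zero (by
    rw [card_semi_fix he]; exact pow_ne_zero _ (pow_ne_zero _ (Fact.out : p.Prime).ne_zero))

theorem card_semi_fix_le (he : 0 < e) (φ : V →ₛₗ[iterateFrobenius k p e] V) (W : Submodule k V) :
    Nat.card {v // v ∈ W ∧ φ v = v} ≤ p ^ (e * finrank k W) := by
  rw [card_semi_fix he, pow_mul]
  exact Nat.pow_le_pow_right (pow_pos (Fact.out : p.Prime).pos _)
    (Submodule.finrank_mono (Submodule.span_le.mpr fun v hv => hv.1))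

/-- Lang: an injective semilinear map on an invariant subspace -/
theorem card_semi_fix_eq (he : 0 < e) (φ : V →ₛₗ[iterateFrobenius k p e] V) (hφ : Function.Injective φ)
    (W : Submodule k V) (hW : ∀ v ∈ W, φ v ∈ W) : Nat.card {v // v ∈ W ∧ φ v = v} = p ^ (e * finrank k W) := by
  rw [card_semi_fix he, pow_mul]
  have h1 : Submodule.span k {v | v ∈ W ∧ φ v = v} = W := by
    refine le_antisymm (Submodule.span_le.mpr fun v hv => hv.1) fun v hv => ?_
    let ψ : W →ₛₗ[iterateFrobenius k p e] W := (φ.domRestrict W).codRestrict W fun w => hW w w.2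
    have h2 := H192.span_fixed p e he ψ fun a b h => Subtype.ext (hφ (congrArg Subtype.val h))
    have h3 : (⟨v, hv⟩ : W) ∈ Submodule.span k {w : W | ψ w = w} := by rw [h2]; trivial
    have h4 := Submodule.mem_map_of_mem (f := W.subtype) h3
    rw [Submodule.map_span] at h4
    refine Submodule.span_mono ?_ h4
    rintro _ ⟨w, hw, rfl⟩
    exact ⟨w.2, congrArg Subtype.val hw⟩
  rw [h1]

/-- counting along a filtration -/
theorem card_le_of_fibres {G X : Type} [Group G] {A A' : Subgroup G} [Finite X] [Finite A'] (f : A → X)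
    (h : ∀ x y, f x = f y → (x : G)⁻¹ * y ∈ A') : Finite A ∧ Nat.card A ≤ Nat.card X * Nat.card A' := by
  let s : X → A := Function.invFun f
  let g : A → X × A' := fun x => (f x, ⟨(s (f x) : G)⁻¹ * x, h _ _ (Function.invFun_eq ⟨x, rfl⟩)⟩)
  have hg : Function.Injective g := fun x y hxy => by
    have h1 : f x = f y := congrArg Prod.fst hxy
    have h2 : (s (f x) : G)⁻¹ * x = (s (f y) : G)⁻¹ * y := congrArg (fun q : X × A' => (q.2 : G)) hxy
    rw [h1] at h2
    exact Subtype.ext (mul_left_cancel h2)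
  exact ⟨Finite.of_injective g hg, by rw [← Nat.card_prod]; exact Nat.card_le_card_of_injective g hg⟩

end Cfsg.Agent.TwoF.DC
end

-- part: TwoF/DC/D1/Main
section
/-!
# TwoF, defining characteristic, TH3a (3): `BoxDeg1` (helper7)
-/

set_option autoImplicit false
set_option linter.unusedSectionVars false
set_option linter.unusedVariables false

namespace Cfsg.Agent.TwoF.DC

open Module Cfsg.Agent.TwoF.Gen

variable {p : ℕ} {ι Φ k G : Type} [Fintype ι] [DecidableEq ι] [Fintype Φ] [DecidableEq Φ] [Field k] [Group G]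

theorem single_mem_Mon' {S : Finset Φ} {b : Φ} (hb : b ∈ S) (t : k) : (Pi.single b t : Φ → k) ∈ Mon k S :=
  mem_Mon.mpr fun a ha => Pi.single_eq_of_ne (fun e => ha (by rw [e]; exact hb)) _

theorem mon_induction {S : Finset Φ} {P : (Φ → k) → Prop} (h0 : P 0)
    (hadd : ∀ u ∈ Mon k S, ∀ v ∈ Mon k S, P u → P v → P (u + v)) (h1 : ∀ b ∈ S, ∀ t, P (Pi.single b t))
    {v : Φ → k} (hv : v ∈ Mon k S) : P v := by
  have key : ∀ T : Finset Φ, T ⊆ S → P (∑ b ∈ T, Pi.single b (v b)) := by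
    intro T
    induction T using Finset.induction_on with
    | empty => intro _; simpa using h0
    | insert b T hb ih =>
      intro h
      rw [Finset.sum_insert hb]
      exact hadd _ (single_mem_Mon' (h (Finset.mem_insert_self b T)) _) _
        (Submodule.sum_mem _ fun a ha => single_mem_Mon' (h (Finset.mem_insert_of_mem ha)) _)
        (h1 b (h (Finset.mem_insert_self b T)) _) (ih ((Finset.subset_insert b T).trans h))
  have h2 : v = ∑ b ∈ S, Pi.single b (v b) := by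
    funext a
    rw [Finset.sum_apply]
    by_cases ha : a ∈ S
    · rw [Finset.sum_eq_single_of_mem a ha fun b _ hb => Pi.single_eq_of_ne hb.symm _, Pi.single_eq_same]
    · rw [mem_Mon.mp hv a ha]
      exact (Finset.sum_eq_zero fun b hb => Pi.single_eq_of_ne (fun e => ha (by rw [e]; exact hb)) _).symm
  rw [h2]; exact key S le_rfl

variable [Fact p.Prime] [CharP k p]

/-- the twist on coefficient vectors -/
noncomputable def twv (p n : ℕ) [Fact p.Prime] [CharP k p] (θ : Equiv.Perm Φ) (ε : Φ → kˣ) :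
    (Φ → k) →ₛₗ[iterateFrobenius k p n] (Φ → k) where
  toFun v a := ε (θ.symm a) * v (θ.symm a) ^ p ^ n
  map_add' u v := funext fun a => by simp only [Pi.add_apply, add_pow_char_pow, mul_add]
  map_smul' c u := funext fun a => by
    simp only [Pi.smul_apply, smul_eq_mul, mul_pow, iterateFrobenius_def]; ring

theorem twv_apply (n : ℕ) (θ : Equiv.Perm Φ) (ε : Φ → kˣ) (v : Φ → k) (a : Φ) :
    twv p n θ ε v a = ε (θ.symm a) * v (θ.symm a) ^ p ^ n := rfl

theorem twv_inj (n : ℕ) (θ : Equiv.Perm Φ) (ε : Φ → kˣ) : Function.Injective (twv (k := k) p n θ ε) := by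
  rw [injective_iff_map_eq_zero]
  intro v hv
  funext b
  have := congrFun hv (θ b)
  rw [twv_apply, Equiv.symm_apply_apply] at this
  exact pow_eq_zero_iff (pow_ne_zero _ (Fact.out : p.Prime).ne_zero) |>.mp
    ((mul_eq_zero.mp this).resolve_left (ε b).ne_zero)

theorem twv_single (n : ℕ) (θ : Equiv.Perm Φ) (ε : Φ → kˣ) (b : Φ) (t : k) :
    twv p n θ ε (Pi.single b t) = Pi.single (θ b) (ε b * t ^ p ^ n) := by
  funext a
  rw [twv_apply]
  by_cases h : a = θ b
  · subst h; simp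
  · rw [Pi.single_eq_of_ne h, Pi.single_eq_of_ne fun e => h (by rw [← e, Equiv.apply_symm_apply])]
    simp [(Fact.out : p.Prime).ne_zero]

namespace RDat

variable (D : RDat p ι Φ k G)

theorem lead_fix (hF : D.Fa) {n : ℕ} {Θ : G →* G} {θ : Equiv.Perm Φ} {ε : Φ → kˣ} (hΘ : D.Tw n Θ θ ε) {u : G}
    (hu : u ∈ D.U) {x : G} (hx : u * Θ x * u⁻¹ = x) {e : ℕ} {v : Φ → k} (h : D.Lead x e v) : twv p n θ ε v = v := by
  have h1 := (hΘ.lead h).conj hu
  rw [hx] at h1
  exact h1.unique hF h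

theorem deg1_card [IsAlgClosed k] (hF : D.Fa) (n : ℕ) (Θ : G →* G) (θ : Equiv.Perm Φ) (ε : Φ → kˣ) (hΘ : D.Tw n Θ θ ε)
    (hn : 0 < n) (B : Subgroup G) (hB : B ≤ D.U) (u : G) (hu : u ∈ D.U) (hx : ∀ x ∈ B, u * Θ x * u⁻¹ = x) :
    Finite B ∧ Nat.card B ≤ p ^ (n * finrank k (D.ld B)) := by
  obtain ⟨M, hM⟩ := D.exists_Uge_bot
  have hp : 0 < p := (Fact.out : p.Prime).pos
  have key : ∀ d e : ℕ, M ≤ e + d → Finite ↥(B ⊓ D.Uge e) ∧
      Nat.card ↥(B ⊓ D.Uge e) ≤ p ^ (n * finrank k ↥(D.ld B ⊓ (cidm Φ k).F (fun b => D.ht b) e)) := by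
    intro d
    induction d with
    | zero =>
      intro e he
      have h1 : B ⊓ D.Uge e = ⊥ := le_bot_iff.mp (inf_le_right.trans ((D.Uge_anti he).trans hM.le))
      rw [h1]
      exact ⟨inferInstance, by rw [Subgroup.card_bot]; exact pow_pos hp _⟩
    | succ d ih =>
      intro e he
      obtain ⟨h1, h2⟩ := ih (e + 1) (by omega)
      choose f hf using fun x : ↥(B ⊓ D.Uge e) => exists_lead x.2.2
      have := finite_semi_fix hn (twv p n θ ε) ((cidm Φ k).ini (fun b => D.ht b) e (D.ld B))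
      obtain ⟨h3, h4⟩ := card_le_of_fibres (A := B ⊓ D.Uge e) (A' := B ⊓ D.Uge (e + 1))
        (X := {v // v ∈ (cidm Φ k).ini (fun b => D.ht b) e (D.ld B) ∧ twv p n θ ε v = v})
        (fun x => ⟨f x, (cidm Φ k).le_ini _ (Submodule.subset_span ⟨x, x.2.1, e, hf x⟩)
          ((cmem_Lv _).mpr fun b hb => (hf x).1 b fun h => hb (by rw [h])), D.lead_fix hF hΘ hu (hx x x.2.1) (hf x)⟩)
        fun x y hxy => ⟨B.mul_mem (B.inv_mem x.2.1) y.2.1, (hf x).inv_mul (by
          rw [show f x = f y from congrArg Subtype.val hxy]; exact hf y)⟩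
      refine ⟨h3, h4.trans ?_⟩
      rw [Idm.finrank_step, mul_add, pow_add]
      exact Nat.mul_le_mul (card_semi_fix_le hn _ _) (by exact_mod_cast h2)
  obtain ⟨h1, h2⟩ := key M 1 (by omega)
  rw [inf_eq_left.mpr (hB.trans D.U_le_Uge)] at h1 h2
  exact ⟨h1, h2.trans (Nat.pow_le_pow_right hp (Nat.mul_le_mul_left _ (Submodule.finrank_mono inf_le_left)))⟩

omit [Fact p.Prime] [CharP k p] in
theorem deg1_ker (L : Type) [AddCommGroup L] [Module k L] (H : HW D.R p k L) (r : H.Rep D) (B : Subgroup G)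
    (g : Module.End k L) (hg : H.Lev g) (u : G) (hu : u ∈ D.U) :
    finrank k ↥(fx r.ρ B ⊓ LinearMap.ker (r.ρ u * g - 1)) ≤ finrank k ↥(H.kerOp (D.ld B) ⊓ LinearMap.ker (g - 1)) := by
  have := H.fd
  have h1 : H.idm.Hm (H.lf D.hf) 0 g := H.hm_of_w fun μ hμ v hv => by
    obtain ⟨c, h2, h3⟩ := hg (H.dep μ) v (by rw [H.dep_spec hμ] at hv; exact hv)
    exact ⟨H.lz - D.R.toWt c, h2, by rw [HW.lf, HW.lf, H.dep_eq (c := c) rfl, add_zero]; exact congrArg Neg.neg h3⟩
  have h2 : H.idm.Ld (H.lf D.hf) 0 (r.ρ u * g - 1) (g - 1) := by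
    refine ⟨h1.sub Idm.hm_one, ?_⟩
    rw [sub_sub_sub_cancel_right, ← sub_one_mul]
    exact ((r.ge_Uge (D.U_le_Uge hu)).mul h1.ge).mono (by simp)
  refine H.idm.finrank_le_of_ini (H.lf D.hf) fun t => le_inf (fun w hw => H.mem_kerOp_span.mpr ?_)
    (h2.ini_le inf_le_right t)
  rintro v ⟨x, hx, e, h⟩
  exact (r.ld_lead h).ini_le (fun w hw => by
    rw [LinearMap.mem_ker, LinearMap.sub_apply, hw.1 x hx, Module.End.one_apply, sub_self]) t hw

omit [Fact p.Prime] [CharP k p] in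
theorem deg1_com (B : Subgroup G) (hc : ∀ x ∈ B, ∀ y ∈ B, x * y = y * x) : D.Com (D.ld B) := by
  intro L _ _ H r u hu v hv
  induction hu using Submodule.span_induction with
  | mem u hu =>
    obtain ⟨x, hx, e, h⟩ := hu
    induction hv using Submodule.span_induction with
    | mem v hv =>
      obtain ⟨y, hy, e', h'⟩ := hv
      refine (r.ld_lead h).commute (r.ld_lead h') ?_
      have h1 : Commute (r.ρ x) (r.ρ y) := by rw [Commute, SemiconjBy, ← map_mul, hc x hx y hy, map_mul]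
      exact (h1.sub_right (Commute.one_right _)).sub_left (Commute.one_left _)
    | zero => rw [H.op_zero]; exact Commute.zero_right _
    | add a b _ _ ha hb => rw [H.op_add]; exact ha.add_right hb
    | smul c a _ ha => rw [H.op_smul]; exact ha.smul_right c
  | zero => rw [H.op_zero]; exact Commute.zero_left _
  | add a b _ _ ha hb => rw [H.op_add]; exact ha.add_left hb
  | smul c a _ ha => rw [H.op_smul]; exact ha.smul_left c

theorem deg1_nil (B : Subgroup G) (hc : ∀ x ∈ B, ∀ y ∈ B, x * y = y * x) (hp : ∀ x ∈ B, x ^ p = 1) :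
    D.Nil (D.ld B) := by
  intro L _ _ H r u hu
  have := H.nontrivial_L
  have : CharP (Module.End k L) p := charP_of_injective_algebraMap (algebraMap k _).injective p
  induction hu using Submodule.span_induction with
  | mem u hu =>
    obtain ⟨x, hx, e, h⟩ := hu
    refine (r.ld_lead h).pow_eq_zero ?_
    rw [sub_pow_char_of_commute _ (Commute.one_right _), ← map_pow, hp x hx, map_one, one_pow, sub_self]
  | zero => rw [H.op_zero, zero_pow (Fact.out : p.Prime).ne_zero]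
  | add a b ha' hb' ha hb =>
    rw [H.op_add, add_pow_char_of_commute _ (D.deg1_com B hc L H r a ha' b hb'), ha, hb, add_zero]
  | smul c a _ ha => rw [H.op_smul, smul_pow, ha, smul_zero]

theorem deg1_sub [IsAlgClosed k] (hF : D.Fa) (n : ℕ) (Θ : G →* G) (θ : Equiv.Perm Φ) (ε : Φ → kˣ) (hΘ : D.Tw n Θ θ ε)
    (hn : 0 < n) (S : Finset Φ) (hS : ∀ b ∈ S, θ b ∈ S) (hc : ∀ b ∈ S, ∀ b' ∈ S, ∀ s t, Commute (D.z b s) (D.z b' t)) :
    ∃ B : Subgroup G, B ≤ Subgroup.closure {g | ∃ b ∈ S, ∃ t, g = D.z b t} ∧ (∀ x ∈ B, Θ x = x) ∧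
      Nat.card B = p ^ (n * S.card) := by
  have h1 : ∀ u ∈ Mon k S, ∀ v ∈ Mon k S, ∀ a b, Commute (D.z a (u a)) (D.z b (v b)) := fun u hu v hv a b => by
    by_cases ha : a ∈ S
    · by_cases hb : b ∈ S
      · exact hc a ha b hb _ _
      · rw [mem_Mon.mp hv b hb, D.z_zero]; exact Commute.one_right _
    · rw [mem_Mon.mp hu a ha, D.z_zero]; exact Commute.one_left _
  have hadd : ∀ u ∈ Mon k S, ∀ v ∈ Mon k S, ∀ l, D.pz l (u + v) = D.pz l u * D.pz l v := by
    intro u hu v hv l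
    induction l with
    | nil => simp [pz]
    | cons b l ih =>
      have h2 : Commute (D.z b (v b)) (D.pz l u) := Commute.list_prod_right _ _ fun x hx => by
        obtain ⟨a, -, rfl⟩ := List.mem_map.mp hx
        exact h1 v hv u hu b a
      rw [pz_cons, pz_cons, pz_cons, ih, Pi.add_apply, D.z_add, mul_assoc, mul_assoc, ← mul_assoc (D.z b (v b)), h2.eq,
        mul_assoc]
  have hs : ∀ b t, D.pz Finset.univ.toList (Pi.single b t) = D.z b t := fun b t => by
    rw [D.pz_single (Finset.nodup_toList _), if_pos (Finset.mem_toList.mpr (Finset.mem_univ b))]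
  have hmem : ∀ v ∈ Mon k S, D.pz Finset.univ.toList v ∈ Subgroup.closure {g | ∃ b ∈ S, ∃ t, g = D.z b t} :=
    fun v hv => mon_induction (P := fun v => D.pz Finset.univ.toList v ∈ _) (by rw [pz_zero]; exact Subgroup.one_mem _)
      (fun u hu v hv h h' => by rw [hadd u hu v hv]; exact Subgroup.mul_mem _ h h')
      (fun b hb t => by rw [hs]; exact Subgroup.subset_closure ⟨b, hb, t, rfl⟩) hv
  have hsur : ∀ x ∈ Subgroup.closure {g | ∃ b ∈ S, ∃ t, g = D.z b t}, ∃ v ∈ Mon k S, D.pz Finset.univ.toList v = x := by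
    intro x hx
    induction hx using Subgroup.closure_induction'' with
    | mem x hx => obtain ⟨b, hb, t, rfl⟩ := hx; exact ⟨_, single_mem_Mon' hb t, hs b t⟩
    | inv_mem x hx => obtain ⟨b, hb, t, rfl⟩ := hx; exact ⟨_, single_mem_Mon' hb (-t), by rw [hs, D.z_neg]⟩
    | one => exact ⟨0, Submodule.zero_mem _, D.pz_zero _⟩
    | mul x y _ _ hx hy =>
      obtain ⟨u, hu, rfl⟩ := hx
      obtain ⟨v, hv, rfl⟩ := hy
      exact ⟨u + v, Submodule.add_mem _ hu hv, hadd u hu v hv _⟩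
  have htw : ∀ v ∈ Mon k S, twv p n θ ε v ∈ Mon k S := fun v hv =>
    mon_induction (P := fun v => twv p n θ ε v ∈ Mon k S) (by rw [map_zero]; exact Submodule.zero_mem _)
      (fun u _ v _ h h' => by rw [map_add]; exact Submodule.add_mem _ h h')
      (fun b hb t => by rw [twv_single]; exact single_mem_Mon' (hS b hb) _) hv
  have hΘv : ∀ v ∈ Mon k S, Θ (D.pz Finset.univ.toList v) = D.pz Finset.univ.toList (twv p n θ ε v) := fun v hv =>
    mon_induction (P := fun v => Θ (D.pz Finset.univ.toList v) = D.pz Finset.univ.toList (twv p n θ ε v))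
      (by rw [map_zero, pz_zero, map_one])
      (fun u hu v hv h h' => by rw [hadd u hu v hv, map_mul, h, h', map_add, hadd _ (htw u hu) _ (htw v hv)])
      (fun b hb t => by rw [twv_single, hs, hs, hΘ.z]) hv
  have hinj0 : ∀ v ∈ Mon k S, D.pz Finset.univ.toList v = 1 → v = 0 := by
    intro v hv h0
    by_contra hne
    obtain ⟨t, h2, h3⟩ := (cidm Φ k).exists_low (fun b => (D.ht b : ℤ)) hne
    obtain ⟨b, hb⟩ := Function.ne_iff.mp h3
    have h4 : (D.ht b : ℤ) = t := by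
      by_contra h; exact hb ((cmem_Lv _).mp ((cidm Φ k).P_mem _ t v) b h)
    subst h4
    have h5 : (cidm Φ k).P (fun b => (D.ht b : ℤ)) (D.ht b) v ∈ Mon k S := mem_Mon.mpr fun a ha => by
      rw [cP_apply, mem_Mon.mp hv a ha, ite_self]
    have h6 := hadd _ h5 _ (Submodule.sub_mem _ hv h5) Finset.univ.toList
    rw [add_sub_cancel, h0] at h6
    have h7 : D.Lead 1 (D.ht b) ((cidm Φ k).P (fun b => (D.ht b : ℤ)) (D.ht b) v) := by
      refine ⟨fun a ha => (cmem_Lv _).mp ((cidm Φ k).P_mem _ _ v) a (by exact_mod_cast ha), _, ?_, h6⟩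
      refine Subgroup.list_prod_mem _ fun x hx => ?_
      obtain ⟨a, -, rfl⟩ := List.mem_map.mp hx
      by_cases ha : D.ht b + 1 ≤ D.ht a
      · exact D.z_mem_Uge ha _
      · rw [(cmem_F _).mp ((cidm Φ k).sub_P_mem _ h2) a (by omega), D.z_zero]; exact Subgroup.one_mem _
    exact h3 (h7.unique hF (lead_zero (Subgroup.one_mem _)))
  have hinj : ∀ u ∈ Mon k S, ∀ v ∈ Mon k S, D.pz Finset.univ.toList u = D.pz Finset.univ.toList v → u = v := by
    intro u hu v hv h
    have h2 := hadd _ (Submodule.sub_mem _ hu hv) v hv Finset.univ.toList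
    rw [sub_add_cancel, h] at h2
    exact sub_eq_zero.mp (hinj0 _ (Submodule.sub_mem _ hu hv) (right_eq_mul.mp h2))
  refine ⟨Subgroup.closure {g | ∃ b ∈ S, ∃ t, g = D.z b t} ⊓ Θ.eqLocus (MonoidHom.id G), inf_le_left,
    fun x hx => hx.2, ?_⟩
  rw [← finrank_Mon (k := k) S, ← card_semi_fix_eq hn _ (twv_inj n θ ε) _ htw]
  symm
  refine Nat.card_congr (Equiv.ofBijective (fun v => ⟨D.pz Finset.univ.toList v.1, hmem _ v.2.1,
    (hΘv _ v.2.1).trans (by rw [v.2.2]; rfl)⟩) ⟨fun u v h => Subtype.ext (hinj _ u.2.1 _ v.2.1 (congrArg Subtype.val h)), ?_⟩)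
  rintro ⟨x, hx, hx'⟩
  obtain ⟨v, hv, rfl⟩ := hsur x hx
  exact ⟨⟨v, hv, hinj _ (htw v hv) _ hv ((hΘv v hv).symm.trans hx')⟩, rfl⟩

end RDat

/-- **TH3a** -/
theorem boxDeg1 : BoxDeg1 := fun p _ ι Φ k G _ _ _ _ _ _ _ _ D =>
  ⟨D.deg1_card, fun hF e Θ θ ε hΘ u hu x _ hx e' v h b => by
      have := congrFun (D.lead_fix hF hΘ hu hx h) (θ b)
      rw [twv_apply, Equiv.symm_apply_apply] at this
      exact this.symm,
    fun L _ _ H r B _ => D.deg1_ker L H r B, fun B _ => D.deg1_com B, fun B _ => D.deg1_nil B, D.deg1_sub⟩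

end Cfsg.Agent.TwoF.DC
end

private theorem dce_4ffafc561bea : _root_.True := by
  try have : _root_.True := by simp only [_root_.Cfsg.Agent.TwoF.DC.RDat.pz.eq_1]
  exact _root_.True.intro
end

-- part: TwoF/DC/Mod/Can
section
prune_inst 0x7f431305d403d00000000180000c2000200380000020040800400000e02030180620040a000020001101000040008040028109800804000000000000000000000001840900001400000000000000000400000000000000000000000000000010000000000000
set_option linter.all false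
open scoped Cfsg.Agent.FastGrp

-- part: TwoF/DC/Mod/PM
section
/-!
# TwoF, defining characteristic, TH1a (2): modules with polynomial action of the root groups (helper7)
-/

set_option autoImplicit false
set_option linter.unusedSectionVars false
set_option linter.unusedVariables false

namespace Cfsg.Agent.TwoF.DC

open Module Finset

theorem sum_sum_one {W : Type} [AddCommMonoid W] {N : ℕ} (hN : 2 ≤ N) (f : ℕ → ℕ → W) :
    ∑ j ∈ range N, ∑ l ∈ range N, (if j + l = 1 then f j l else 0) = f 0 1 + f 1 0 := by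
  have h : ∀ j l, (if j + l = 1 then f j l else 0) =
      (if l = 1 then if j = 0 then f 0 1 else 0 else 0) + (if l = 0 then if j = 1 then f 1 0 else 0 else 0) := by
    intro j l
    split_ifs <;> first | omega | simp_all only [_root_.zero_add, _root_.one_ne_zero, _root_.not_false_eq_true, _root_.add_zero, _root_.zero_ne_one, _root_.Nat.add_eq_right]
  simp only [h, sum_add_distrib, sum_ite_eq', mem_range, show 0 < N by omega, show 1 < N by omega, if_true]

theorem RC.sr_induction {ι Φ : Type} [Fintype ι] [DecidableEq ι] [DecidableEq Φ] (R : RC ι Φ) {P : Bool × Φ → Prop}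
    (h0 : ∀ i, P (true, R.zi i)) (h1 : ∀ i x, P x → P (R.sr i x)) (x : Bool × Φ) : P x := by
  obtain ⟨l, i, rfl⟩ := R.exists_srl_zi x
  induction l with
  | nil => exact h0 i
  | cons j l ih => exact h1 j _ ih

variable {p : ℕ} {ι Φ k G : Type} [Fintype ι] [DecidableEq ι] [Fintype Φ] [DecidableEq Φ] [Field k] [Group G]

/-- a module on which the root groups act polynomially -/
structure PM (D : RDat p ι Φ k G) (L : Type) [AddCommGroup L] [Module k L] where
  ρ : Representation k G L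
  E : Bool × Φ → ℕ → Module.End k L
  N : ℕ
  N_ge : 2 ≤ N
  E_N : ∀ x n, N ≤ n → E x n = 0
  exp : ∀ x t, ρ (D.ζ x t) = ∑ n ∈ range N, t ^ n • E x n

namespace PM

variable [Infinite k] {D : RDat p ι Φ k G} {L : Type} [AddCommGroup L] [Module k L] (P : PM D L)

theorem exp_apply (x : Bool × Φ) (t : k) (v : L) : P.ρ (D.ζ x t) v = ∑ n ∈ range P.N, t ^ n • P.E x n v := by
  rw [P.exp, LinearMap.sum_apply]; rfl

theorem E_zero (x : Bool × Φ) : P.E x 0 = 1 := by
  have h := P.exp x 0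
  obtain ⟨N, hN⟩ : ∃ N, P.N = N + 1 := ⟨P.N - 1, by have := P.N_ge; omega⟩
  rw [D.ζ_zero, map_one, hN, Finset.sum_range_succ'] at h
  simpa using h.symm

theorem E_mul (x : Bool × Φ) (m n : ℕ) : P.E x m * P.E x n = ((m + n).choose m : k) • P.E x (m + n) := by
  by_cases hm : P.N ≤ m
  · rw [P.E_N x m hm, P.E_N x (m + n) (by omega), zero_mul, smul_zero]
  by_cases hn : P.N ≤ n
  · rw [P.E_N x n hn, P.E_N x (m + n) (by omega), mul_zero, smul_zero]
  refine eq_of_sum_pow (k := k) (N := P.N) (a := fun n => P.E x m * P.E x n)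
    (b := fun n => ((m + n).choose m : k) • P.E x (m + n)) (fun t => ?_) (by omega)
  refine eq_of_sum_pow (k := k) (N := P.N) (a := fun m => ∑ n ∈ range P.N, t ^ n • (P.E x m * P.E x n))
    (b := fun m => ∑ n ∈ range P.N, t ^ n • ((m + n).choose m : k) • P.E x (m + n)) (fun s => ?_) (by omega)
  have h := P.exp x (s + t)
  rw [D.ζ_add, map_mul, P.exp, P.exp, Finset.sum_mul_sum] at h
  have h1 : ∀ n, (s + t) ^ n • P.E x n = ∑ m ∈ range (n + 1),
      (fun m l => s ^ m • t ^ l • ((m + l).choose m : k) • P.E x (m + l)) m (n - m) := fun n => by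
    rw [add_pow, Finset.sum_smul]
    refine Finset.sum_congr rfl fun m hm => ?_
    beta_reduce
    rw [Nat.add_sub_cancel' (Nat.lt_succ_iff.1 (mem_range.1 hm)), smul_smul, smul_smul]
  rw [Finset.sum_congr rfl fun n _ => h1 n, Finset.sum_range_diag_flip _
    fun m l => s ^ m • t ^ l • ((m + l).choose m : k) • P.E x (m + l)] at h
  simp only [Finset.smul_sum]
  simp only [smul_mul_smul_comm, mul_smul] at h
  rw [h]
  refine Finset.sum_congr rfl fun m _ => Finset.sum_subset (range_mono (Nat.sub_le _ _)) fun n _ hn => ?_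
  rw [P.E_N x (m + n) (by rw [mem_range] at hn; omega), smul_zero, smul_zero, smul_zero]

/-- comparison of coefficients -/
theorem conj_E {g : G} {x y : Bool × Φ} {c : k} (h : ∀ t, g * D.ζ x t = D.ζ y (c * t) * g) (n : ℕ) :
    P.ρ g * P.E x n = c ^ n • (P.E y n * P.ρ g) := by
  by_cases hn : P.N ≤ n
  · rw [P.E_N x n hn, P.E_N y n hn, mul_zero, zero_mul, smul_zero]
  refine eq_of_sum_pow (k := k) (N := P.N) (a := fun n => P.ρ g * P.E x n)
    (b := fun n => c ^ n • (P.E y n * P.ρ g)) (fun t => ?_) (by omega)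
  have h1 := congrArg P.ρ (h t)
  rw [map_mul, map_mul, P.exp, P.exp, Finset.mul_sum, Finset.sum_mul] at h1
  simp only [mul_smul_comm, smul_mul_assoc, mul_pow, mul_comm (c ^ _), mul_smul] at h1
  exact h1

/-- the weight spaces -/
def w (μ : ι → ℤ) : Submodule k L := ⨅ a : ι × kˣ, End.eigenspace (P.ρ (D.hh a.1 a.2)) ((a.2 ^ μ a.1 : kˣ) : k)

theorem mem_w {μ : ι → ℤ} {v : L} : v ∈ P.w μ ↔ ∀ i c, P.ρ (D.hh i c) v = ((c ^ μ i : kˣ) : k) • v := by
  simp only [w, Submodule.mem_iInf, End.mem_eigenspace_iff, Prod.forall]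

theorem indep : iSupIndep P.w := by
  have h1 : iSupIndep fun χ : ι × kˣ → k => ⨅ a : ι × kˣ, End.eigenspace (P.ρ (D.hh a.1 a.2)) (χ a) :=
    iSupIndep.iInf (α := Submodule k L) (fun (a : ι × kˣ) (c : k) => End.eigenspace (P.ρ (D.hh a.1 a.2)) c)
      fun a => End.eigenspaces_iSupIndep (R := k) (M := L) (P.ρ (D.hh a.1 a.2))
  have h2 : Function.Injective fun (μ : ι → ℤ) (a : ι × kˣ) => ((a.2 ^ μ a.1 : kˣ) : k) := fun μ ν h =>
    funext fun i => int_eq_of_zpow (k := k) fun c => Units.ext (congrFun h (i, c))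
  exact h1.comp h2

theorem E_w (x : Bool × Φ) (n : ℕ) (μ : ι → ℤ) (v : L) (hv : v ∈ P.w μ) :
    P.E x n v ∈ P.w (μ + (n : ℤ) • D.R.wt x) := by
  rw [mem_w] at hv ⊢
  intro i c
  have h := DFunLike.congr_fun (P.conj_E (D.hh_ζ i c x) n) v
  rw [End.mul_apply, LinearMap.smul_apply, End.mul_apply, hv, map_smul, smul_smul] at h
  rw [h, Pi.add_apply, Pi.smul_apply, smul_eq_mul, zpow_add, mul_comm (n : ℤ), zpow_mul, zpow_natCast, Units.val_mul,
    Units.val_pow_eq_pow_val, mul_comm]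

theorem exists_pr (μ : ι → ℤ) : ∃ π : Module.End k L, (∀ v, π v ∈ P.w μ) ∧
    ∀ ν, ∀ v ∈ P.w ν, π v = if ν = μ then v else 0 := by
  obtain ⟨C, h1, h2⟩ := (P.indep μ).symm.exists_isCompl
  refine ⟨(P.w μ).projection C h2.symm, Submodule.projection_apply_mem _, fun ν v hv => ?_⟩
  split_ifs with h
  · exact Submodule.projection_apply_of_mem_left _ (h ▸ hv)
  · exact Submodule.projection_apply_of_mem_right _ (h1 (le_iSup₂_of_le (f := fun j (_ : j ≠ μ) => P.w j) ν h le_rfl hv))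

/-- the Weyl group elements -/
noncomputable def nn (i : ι) : L ≃ₗ[k] L := LinearEquiv.ofBijective (P.ρ (D.nw i)) (P.ρ.apply_bijective _)

theorem nn_apply (i : ι) (v : L) : P.nn i v = P.ρ (D.nw i) v := rfl

theorem nn_w (i : ι) (μ : ι → ℤ) (v : L) (hv : v ∈ P.w μ) : P.nn i v ∈ P.w (D.R.sw i μ) := by
  rw [mem_w] at hv ⊢
  intro j c
  rw [nn_apply, ← End.mul_apply, ← map_mul, D.hh_nw, map_mul, map_mul, End.mul_apply, End.mul_apply, hv, map_smul, hv,
    smul_smul, map_smul, ← Units.val_mul, ← zpow_mul, ← zpow_add, D.R.sw_apply]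
  congr 3; ring

theorem exists_nn (i : ι) {μ : ι → ℤ} {v : L} (hv : v ∈ P.w μ) : ∃ u ∈ P.w (D.R.sw i μ), P.nn i u = v := by
  have h1 := D.nw_u i (-1)
  have h2 : D.x i ((-1 : kˣ) : k) * D.y i (-((-1 : kˣ) : k)⁻¹) * D.x i ((-1 : kˣ) : k) = (D.nw i)⁻¹ := by
    simp only [Units.val_neg, Units.val_one, inv_neg, inv_one, neg_neg, RDat.nw, D.x_neg, D.y_neg]; group
  rw [h2] at h1
  refine ⟨P.ρ (D.nw i)⁻¹ v, ?_, by rw [nn_apply, ← End.mul_apply, ← map_mul, mul_inv_cancel, map_one, End.one_apply]⟩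
  rw [h1, map_mul, End.mul_apply, P.mem_w.1 hv, map_smul]
  exact Submodule.smul_mem _ _ (P.nn_w i μ v hv)

theorem nn_E (i : ι) (x : Bool × Φ) :
    ∃ ε : kˣ, ∀ n v, P.nn i (P.E x n v) = (ε : k) ^ n • P.E (D.R.sr i x) n (P.nn i v) := by
  obtain ⟨ε, h⟩ := D.nw_ζ i x
  exact ⟨ε, fun n v => DFunLike.congr_fun (P.conj_E h n) v⟩

theorem E_nn (i : ι) (x : Bool × Φ) :
    ∃ ε : kˣ, ∀ n v, P.E (D.R.sr i x) n (P.nn i v) = (ε : k) ^ n • P.nn i (P.E x n v) := by
  obtain ⟨ε, h⟩ := P.nn_E i x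
  refine ⟨ε⁻¹, fun n v => ?_⟩
  rw [h, smul_smul, ← mul_pow, Units.inv_mul, one_pow, one_smul]

/-! ### rank one -/

theorem pr_diag {μ : ι → ℤ} {π : Module.End k L} (hπ : ∀ ν, ∀ v ∈ P.w ν, π v = if ν = μ then v else 0)
    (x : Bool × Φ) {v : L} (hv : v ∈ P.w μ) (f : ℕ → ℕ → k) :
    π (∑ m ∈ range P.N, ∑ n ∈ range P.N, f m n • P.E x m (P.E (ng x) n v)) =
      ∑ n ∈ range P.N, f n n • P.E x n (P.E (ng x) n v) := by
  rw [map_sum]
  refine Finset.sum_congr rfl fun m hm => ?_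
  rw [map_sum, Finset.sum_eq_single m (fun n _ hn => ?_) fun h => (h hm).elim, map_smul,
    hπ _ _ (P.E_w x m _ _ (P.E_w (ng x) m μ v hv)), if_pos (by rw [D.R.wt_ng]; module)]
  rw [map_smul, hπ _ _ (P.E_w x m _ _ (P.E_w (ng x) n μ v hv)), if_neg, smul_zero]
  intro h
  have h1 : ((m : ℤ) - n) • D.R.wt x = 0 := by
    rw [D.R.wt_ng] at h
    rw [← sub_eq_zero.2 h]; module
  exact D.R.wt_ne_zero x ((smul_eq_zero.1 h1).resolve_left (by omega))

theorem rank_one (i : ι) {μ : ι → ℤ} {v : L} (hv : v ∈ P.w μ) (u : k) (hu : u ∉ ({-1} : Finset k)) :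
    (1 + u) ^ (-μ i).toNat •
        ∑ n ∈ range P.N, u ^ n • (P.E (true, D.R.zi i) n * P.E (false, D.R.zi i) n) v =
      (1 + u) ^ (μ i).toNat • ∑ n ∈ range P.N, u ^ n • (P.E (false, D.R.zi i) n * P.E (true, D.R.zi i) n) v := by
  have hu' : 1 + u ≠ 0 := fun h => hu (by rw [mem_singleton]; linear_combination h)
  obtain ⟨c, hc⟩ : ∃ c : kˣ, (c : k) = 1 + u := ⟨Units.mk0 _ hu', rfl⟩
  obtain ⟨π, -, hπ⟩ := P.exists_pr μ
  have h := congrArg (fun g => π (P.ρ g v)) (D.rank i u 1 c (by rw [hc, mul_one]))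
  simp only [map_mul, End.mul_apply, ← D.ζ_x, ← D.ζ_y] at h
  rw [P.exp_apply _ u, P.exp_apply _ (1 / c), P.exp_apply _ 1, P.exp_apply _ (u / c)] at h
  have h1 : ∀ m, P.ρ (D.hh i c) (P.E (true, D.R.zi i) m v) =
      (((c ^ μ i : kˣ) : k) * (c : k) ^ (2 * m)) • P.E (true, D.R.zi i) m v := fun m => by
    rw [P.mem_w.1 (P.E_w _ m μ v hv), Pi.add_apply, Pi.smul_apply, D.R.wt_zi, D.R.C_self, zpow_add, Units.val_mul,
      show (m : ℤ) • (2 : ℤ) = (2 * m : ℕ) by simp [mul_comm], zpow_natCast, Units.val_pow_eq_pow_val]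
  simp only [map_sum, map_smul, Finset.smul_sum, h1, smul_smul] at h
  have h2 := P.pr_diag hπ (true, D.R.zi i) hv fun m n => u ^ m * 1 ^ n
  have h3 := P.pr_diag hπ (false, D.R.zi i) hv fun m n =>
    (1 / c : k) ^ m * ((u / c) ^ n * (((c ^ μ i : kˣ) : k) * (c : k) ^ (2 * n)))
  simp only [map_sum, map_smul, ng_true, ng_false] at h2 h3
  rw [h2, h3] at h
  have h4 : ∀ n : ℕ, (1 / c : k) ^ n * ((u / c) ^ n * (((c ^ μ i : kˣ) : k) * (c : k) ^ (2 * n))) =
      ((c ^ μ i : kˣ) : k) * u ^ n := fun n => by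
    rw [div_pow, div_pow, pow_mul', one_pow]; field_simp
  simp only [h4, one_pow, mul_one, mul_smul, ← Finset.smul_sum] at h
  simp only [End.mul_apply]
  rw [h, smul_smul, ← hc, ← Units.val_pow_eq_pow_val, ← Units.val_pow_eq_pow_val, ← Units.val_mul, ← zpow_natCast,
    ← zpow_natCast, ← zpow_add]
  congr 3; omega

theorem ef (x : Bool × Φ) : ∃ ε : kˣ, ∀ μ, ∀ v ∈ P.w μ,
    P.E x 1 (P.E (ng x) 1 v) - P.E (ng x) 1 (P.E x 1 v) = ((ε : k) * (D.R.pair μ x : k)) • v := by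
  induction x using D.R.sr_induction with
  | h0 i =>
    refine ⟨1, fun μ v hv => ?_⟩
    have h1 := ((tay_one_add (k := k) (A := End k L) (-μ i).toNat).mul (tay_sum P.N_ge fun n =>
      P.E (true, D.R.zi i) n * P.E (false, D.R.zi i) n)).map (LinearMap.applyₗ v)
    have h2 := ((tay_one_add (k := k) (A := End k L) (μ i).toNat).mul (tay_sum P.N_ge fun n =>
      P.E (false, D.R.zi i) n * P.E (true, D.R.zi i) n)).map (LinearMap.applyₗ v)
    rw [P.E_zero, P.E_zero] at h1 h2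
    have h3 := h1.unique h2 {-1} fun u hu => by
      simpa only [LinearMap.applyₗ_apply_apply, smul_mul_assoc, one_mul, LinearMap.smul_apply, LinearMap.sum_apply]
        using P.rank_one i hv u hu
    simp only [LinearMap.applyₗ_apply_apply, one_mul, mul_one, LinearMap.add_apply, LinearMap.smul_apply,
      End.mul_apply, End.one_apply] at h3
    have h4 : ((μ i : ℤ) : k) = ((μ i).toNat : k) - ((-μ i).toNat : k) := by
      rw [← Int.cast_natCast (μ i).toNat, ← Int.cast_natCast (-μ i).toNat, ← Int.cast_sub, Int.toNat_sub_toNat_neg]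
    rw [ng_true, D.R.pair_zi, Units.val_one, one_mul, h4, sub_smul]
    exact sub_eq_sub_iff_add_eq_add.2 (h3.trans (add_comm _ _))
  | h1 i x ih =>
    obtain ⟨ε, h⟩ := ih
    obtain ⟨a, ha⟩ := P.E_nn i x
    obtain ⟨b, hb⟩ := P.E_nn i (ng x)
    refine ⟨a * b * ε, fun μ v hv => ?_⟩
    obtain ⟨u, hu, rfl⟩ := P.exists_nn i hv
    rw [← D.R.sr_ng, hb, ha, map_smul, map_smul, ha, hb, pow_one, pow_one, smul_smul, smul_smul, mul_comm (b : k),
      ← smul_sub, ← map_sub, h _ u hu, map_smul, smul_smul, D.R.pair_sw, Units.val_mul, Units.val_mul, mul_assoc (_ * _)]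

theorem inj (x : Bool × Φ) : ∀ μ, ∀ v ∈ P.w μ, D.R.pair μ x < 0 → (∀ n, 0 < n → P.E x n v = 0) → v = 0 := by
  induction x using D.R.sr_induction with
  | h0 i =>
    intro μ v hv hμ h
    rw [D.R.pair_zi] at hμ
    have h1 : (fun u : k => (1 + u) ^ (-μ i).toNat •
        ∑ n ∈ range P.N, u ^ n • (P.E (true, D.R.zi i) n * P.E (false, D.R.zi i) n) v) ∈ Pol k L :=
      pol_one_add_smul _ (pol_sum _ fun n _ => pol_mono n _)
    have h2 := pol_eq_zero ((Pol k L).sub_mem h1 (pol_const v)) {-1} (fun u hu => by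
      have h3 := P.rank_one i hv u hu
      rw [Int.toNat_of_nonpos hμ.le, pow_zero, one_smul, Finset.sum_eq_single 0 (s := range P.N)
        (f := fun n => u ^ n • (P.E (false, D.R.zi i) n * P.E (true, D.R.zi i) n) v)
        (fun n _ hn => by rw [End.mul_apply, h n (by omega), map_zero, smul_zero])
        (fun h => (h (mem_range.2 (by have := P.N_ge; omega))).elim), P.E_zero, P.E_zero, pow_zero, one_smul,
        one_mul, End.one_apply] at h3
      exact sub_eq_zero.2 h3) (-1)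
    rwa [Pi.sub_apply, add_neg_cancel, zero_pow (by omega), zero_smul, zero_sub, neg_eq_zero] at h2
  | h1 i x ih =>
    intro μ v hv hμ h
    obtain ⟨u, hu, rfl⟩ := P.exists_nn i hv
    obtain ⟨ε, hε⟩ := P.nn_E i x
    rw [ih _ u hu (by rwa [D.R.pair_sw]) fun n hn => (P.nn i).map_eq_zero_iff.1 (by rw [hε, h n hn, smul_zero]), map_zero]

end PM

end Cfsg.Agent.TwoF.DC
end

-- part: TwoF/DC/Mod/Br
section
/-!
# TwoF, defining characteristic, TH1a (3): the brackets of the root operators (helper7)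
-/

set_option autoImplicit false
set_option linter.unusedSectionVars false
set_option linter.unusedVariables false

namespace Cfsg.Agent.TwoF.DC

open Module Finset

variable {p : ℕ} {ι Φ k G : Type} [Fintype ι] [DecidableEq ι] [Fintype Φ] [DecidableEq Φ] [Field k] [Group G]

theorem RDat.τ_prod (D : RDat p ι Φ k G) (l : List G) : D.τ l.prod = (l.map D.τ).reverse.prod := by
  induction l with
  | nil => exact D.τ_one
  | cons a l ih => rw [List.prod_cons, D.τ_mul, ih, List.map_cons, List.reverse_cons, List.prod_append, List.prod_singleton]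

/-- the commutator formula for a simple root and a root of the same sign -/
theorem RDat.exists_list (D : RDat p ι Φ k G) (e : Bool) (i : ι) (b a : Φ) :
    ∃ (σ : k) (l : List (Φ × k × ℕ)), σ ≠ 0 ∧ (∀ c ∈ l, 0 < c.2.2) ∧
      (∀ t, D.ζ (e, D.R.zi i) (-σ) * D.ζ (e, b) t * D.ζ (e, D.R.zi i) σ =
        (l.map fun c => D.ζ (e, c.1) (c.2.1 * t ^ c.2.2)).prod) ∧
      (D.R.vec (e, a) = D.R.vec (e, D.R.zi i) + D.R.vec (e, b) → D.R.NZ p (e, D.R.zi i) (e, b) →
        ((l.filter fun c => c.1 = a ∧ c.2.2 = 1).map fun c => c.2.1).sum ≠ 0) := by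
  obtain ⟨l, h1, h2, h3⟩ : ∃ l : List (Φ × k × ℕ), (∀ c ∈ l, 0 < c.2.2) ∧
      (∀ t, D.x i (-1) * D.z b t * D.x i 1 = (l.map fun c => D.z c.1 (c.2.1 * t ^ c.2.2)).prod) ∧
      (D.R.vec (true, a) = D.R.vec (true, D.R.zi i) + D.R.vec (true, b) → D.R.NZ p (true, D.R.zi i) (true, b) →
        ((l.filter fun c => c.1 = a ∧ c.2.2 = 1).map fun c => c.2.1).sum ≠ 0) := by
    by_cases h : D.R.vec (true, a) = D.R.vec (true, D.R.zi i) + D.R.vec (true, b) ∧ D.R.NZ p (true, D.R.zi i) (true, b)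
    · obtain ⟨l, h1, h2, h3⟩ := D.nz i b a (funext fun j => by
        have h4 := congrFun h.1 j
        rw [Pi.add_apply, D.R.vec_true, D.R.vec_true, D.R.vec_true, D.zi_eq] at h4
        rw [Pi.add_apply]; exact_mod_cast h4) (D.zi_eq ▸ h.2)
      exact ⟨l, h1, h2, fun _ _ => h3⟩
    · obtain ⟨l, h1, h2⟩ := D.cmt i b 1
      exact ⟨l, h1, h2, fun h3 h4 => (h ⟨h3, h4⟩).elim⟩
  rcases e with _ | _
  · refine ⟨-1, l.reverse, by simp, fun c hc => h1 c (List.mem_reverse.1 hc), fun t => ?_, fun h4 h5 => ?_⟩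
    · have h4 := congrArg D.τ (h2 t)
      rw [D.τ_mul, D.τ_mul, D.τ_x, D.τ_x, D.τ_prod, List.map_map, ← List.map_reverse, ← mul_assoc] at h4
      rw [neg_neg, D.ζ_y, D.ζ_y]
      exact h4
    · rw [List.filter_reverse, List.map_reverse, List.sum_reverse]
      refine h3 ?_ ((D.R.nz_ng p _ _).1 h5)
      rw [D.R.vec_false', D.R.vec_false', D.R.vec_false', ← neg_add, neg_inj] at h4
      exact h4
  · exact ⟨1, l, one_ne_zero, h1, fun t => by rw [D.ζ_x, D.ζ_x]; exact h2 t, h3⟩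

namespace PM

variable [Infinite k] {D : RDat p ι Φ k G} {L : Type} [AddCommGroup L] [Module k L] (P : PM D L)

theorem tay_list (e : Bool) (l : List (Φ × k × ℕ)) (hl : ∀ c ∈ l, 0 < c.2.2) :
    Tay (fun t => P.ρ (l.map fun c => D.ζ (e, c.1) (c.2.1 * t ^ c.2.2)).prod) (1 : End k L)
      (l.map fun c => if c.2.2 = 1 then c.2.1 • P.E (e, c.1) 1 else 0).sum := by
  induction l with
  | nil => simpa only [_root_.List.map_nil, _root_.List.prod_nil, _root_.map_one, _root_.List.sum_nil] using tay_const (k := k) (1 : End k L)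
  | cons c l ih =>
    have h := (tay_sum_pow P.N_ge (P.E (e, c.1)) c.2.1 (hl c List.mem_cons_self)).mul
      (ih fun c hc => hl c (List.mem_cons_of_mem _ hc))
    rw [P.E_zero, one_mul, one_mul, mul_one, add_comm] at h
    simpa only [List.map_cons, List.prod_cons, List.sum_cons, map_mul, P.exp] using h

theorem ext_w (hs : ⨆ μ, P.w μ = ⊤) {f g : End k L} (h : ∀ μ, ∀ v ∈ P.w μ, f v = g v) : f = g := by
  ext v
  have hv : v ∈ ⨆ μ, P.w μ := hs ▸ Submodule.mem_top
  induction hv using Submodule.iSup_induction' with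
  | mem μ v hv => exact h μ v hv
  | zero => rw [map_zero, map_zero]
  | add u v _ _ h1 h2 => rw [map_add, map_add, h1, h2]

theorem br_list (hs : ⨆ μ, P.w μ = ⊤) (e : Bool) (x y : Bool × Φ) (σ : k) (l : List (Φ × k × ℕ))
    (hl : ∀ c ∈ l, 0 < c.2.2)
    (h : ∀ t, D.ζ x (-σ) * D.ζ y t * D.ζ x σ = (l.map fun c => D.ζ (e, c.1) (c.2.1 * t ^ c.2.2)).prod) :
    (-σ) • (P.E x 1 * P.E y 1 - P.E y 1 * P.E x 1) = (l.map fun c =>
      if D.R.vec (e, c.1) = D.R.vec x + D.R.vec y ∧ c.2.2 = 1 then c.2.1 • P.E (e, c.1) 1 else 0).sum := by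
  have h1 := ((tay_const (k := k) (P.ρ (D.ζ x (-σ)) : End k L)).mul (tay_sum P.N_ge (P.E y))).mul
    (tay_const (k := k) (P.ρ (D.ζ x σ) : End k L))
  rw [P.E_zero, mul_one, ← map_mul, ← D.ζ_add, neg_add_cancel, D.ζ_zero, map_one, mul_zero, zero_add, mul_one,
    add_zero] at h1
  have h2 := h1.unique (P.tay_list e l hl) ∅ fun t _ => by rw [← h, map_mul, map_mul, P.exp y]
  refine P.ext_w hs fun μ v hv => ?_
  obtain ⟨π, -, hπ⟩ := P.exists_pr (μ + D.R.wt x + D.R.wt y)
  have h3 := congrArg (fun f : End k L => π (f v)) h2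
  simp only [End.mul_apply] at h3
  rw [P.exp_apply x (-σ), P.exp_apply x σ] at h3
  simp only [map_sum, map_smul, Finset.smul_sum] at h3
  have h4 : ∀ j l : ℕ, (-σ) ^ j • σ ^ l • π (P.E x j (P.E y 1 (P.E x l v))) =
      if j + l = 1 then (-σ) ^ j • σ ^ l • P.E x j (P.E y 1 (P.E x l v)) else 0 := fun j l => by
    rw [hπ _ _ (P.E_w x j _ _ (P.E_w y 1 _ _ (P.E_w x l μ v hv)))]
    by_cases hj : j + l = 1
    · rw [if_pos hj, if_pos]
      have : (j : ℤ) = 1 - l := by omega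
      rw [this]; module
    · rw [if_neg hj, if_neg, smul_zero, smul_zero]
      intro h5
      have h6 : ((j : ℤ) + l - 1) • D.R.wt x = 0 := by rw [← sub_eq_zero.2 h5]; module
      exact D.R.wt_ne_zero x ((smul_eq_zero.1 h6).resolve_left (by omega))
  simp only [h4] at h3
  rw [sum_sum_one P.N_ge] at h3
  have h5 : π ((l.map fun c => if c.2.2 = 1 then c.2.1 • P.E (e, c.1) 1 else 0).sum v) = (l.map fun c =>
      if D.R.vec (e, c.1) = D.R.vec x + D.R.vec y ∧ c.2.2 = 1 then c.2.1 • P.E (e, c.1) 1 else 0).sum v := by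
    clear h h2 h3 hl
    induction l with
    | nil => simp
    | cons c l ih =>
      rw [List.map_cons, List.sum_cons, LinearMap.add_apply, map_add, ih, List.map_cons, List.sum_cons,
        LinearMap.add_apply]
      congr 1
      by_cases hc : c.2.2 = 1
      · have h6 : μ + ((1 : ℕ) : ℤ) • D.R.wt (e, c.1) = μ + D.R.wt x + D.R.wt y ↔
            D.R.vec (e, c.1) = D.R.vec x + D.R.vec y := by
          rw [Nat.cast_one, one_smul, add_assoc, add_right_inj, RC.wt, RC.wt, RC.wt, ← D.R.toWt_add,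
            D.R.toWt_inj.eq_iff]
        rw [if_pos hc, LinearMap.smul_apply, map_smul, hπ _ _ (P.E_w _ 1 μ v hv)]
        by_cases h7 : D.R.vec (e, c.1) = D.R.vec x + D.R.vec y
        · rw [if_pos (h6.2 h7), if_pos ⟨h7, hc⟩, LinearMap.smul_apply]
        · rw [if_neg (mt h6.1 h7), if_neg fun h => h7 h.1, smul_zero, LinearMap.zero_apply]
      · rw [if_neg hc, if_neg fun h => hc h.2, LinearMap.zero_apply, map_zero]
  rw [← h5, ← h3]
  simp only [P.E_zero, End.one_apply, LinearMap.smul_apply, LinearMap.sub_apply, End.mul_apply]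
  module

/-- the statement about brackets -/
def BR (x y : Bool × Φ) : Prop :=
  (¬ D.R.IsRt (D.R.vec x + D.R.vec y) → P.E x 1 * P.E y 1 = P.E y 1 * P.E x 1) ∧
    ∀ z, D.R.vec z = D.R.vec x + D.R.vec y →
      ∃ N : k, P.E x 1 * P.E y 1 - P.E y 1 * P.E x 1 = N • P.E z 1 ∧ (D.R.NZ p x y → N ≠ 0)

theorem br_same (hs : ⨆ μ, P.w μ = ⊤) (e : Bool) (i : ι) (b : Φ) : P.BR (e, D.R.zi i) (e, b) := by
  refine ⟨fun h => ?_, fun z hz => ?_⟩
  · obtain ⟨σ, l, h0, h1, h2, -⟩ := D.exists_list e i b b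
    have h3 := P.br_list hs e _ _ σ l h1 h2
    rw [List.sum_eq_zero fun f hf => ?_, smul_eq_zero, neg_eq_zero, sub_eq_zero] at h3
    · exact h3.resolve_left h0
    · obtain ⟨c, -, rfl⟩ := List.mem_map.1 hf
      exact if_neg fun h4 => h ⟨_, h4.1⟩
  · obtain ⟨e', a⟩ := z
    obtain rfl : e' = e := by
      rcases e with _ | _
      · exact D.R.neg_of_vec_le (x := (e', a)) fun j => by
          rw [hz, Pi.add_apply, D.R.vec_false, D.R.vec_false]; omega
      · exact D.R.pos_of_vec_ge (x := (e', a)) fun j => by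
          rw [hz, Pi.add_apply, D.R.vec_true, D.R.vec_true]; omega
    obtain ⟨σ, l, h0, h1, h2, h3⟩ := D.exists_list e' i b a
    have h4 := P.br_list hs e' _ _ σ l h1 h2
    have h5 : (l.map fun c => if D.R.vec (e', c.1) = D.R.vec (e', D.R.zi i) + D.R.vec (e', b) ∧ c.2.2 = 1 then
        c.2.1 • P.E (e', c.1) 1 else 0).sum =
        ((l.filter fun c => c.1 = a ∧ c.2.2 = 1).map fun c => c.2.1).sum • P.E (e', a) 1 := by
      clear h1 h2 h3 h4
      induction l with
      | nil => simp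
      | cons c l ih =>
        rw [List.map_cons, List.sum_cons, ih, ← hz]
        by_cases hc : c.1 = a ∧ c.2.2 = 1
        · rw [if_pos ⟨by rw [hc.1], hc.2⟩, List.filter_cons_of_pos (by simpa using hc), List.map_cons, List.sum_cons,
            add_smul, hc.1]
        · rw [if_neg fun h => hc ⟨congrArg Prod.snd (D.R.vec_inj h.1), h.2⟩,
            List.filter_cons_of_neg (by simpa using hc), zero_add]
    rw [h5] at h4
    refine ⟨(-σ)⁻¹ * _, ?_, fun h => mul_ne_zero (inv_ne_zero (neg_ne_zero.2 h0)) (h3 hz h)⟩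
    rw [mul_smul, ← h4, smul_smul, inv_mul_cancel₀ (neg_ne_zero.2 h0), one_smul]

theorem BR.sr {x y : Bool × Φ} (h : P.BR x y) (i : ι) : P.BR (D.R.sr i x) (D.R.sr i y) := by
  obtain ⟨a, ha⟩ := P.E_nn i x
  obtain ⟨b, hb⟩ := P.E_nn i y
  have h1 : ∀ u, (P.E (D.R.sr i x) 1 * P.E (D.R.sr i y) 1 - P.E (D.R.sr i y) 1 * P.E (D.R.sr i x) 1) (P.nn i u) =
      ((a : k) * b) • P.nn i ((P.E x 1 * P.E y 1 - P.E y 1 * P.E x 1) u) := fun u => by
    simp only [LinearMap.sub_apply, End.mul_apply, ha, hb, map_smul, map_sub, pow_one]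
    module
  refine ⟨fun h2 => ?_, fun z hz => ?_⟩
  · rw [D.R.vec_sr, D.R.vec_sr, ← D.R.sv_add, D.R.isRt_sv] at h2
    rw [← sub_eq_zero]
    ext v
    obtain ⟨u, rfl⟩ := (P.nn i).surjective v
    rw [h1, h.1 h2, sub_self, LinearMap.zero_apply, map_zero, smul_zero, LinearMap.zero_apply]
  · obtain ⟨N, h2, h3⟩ := h.2 (D.R.sr i z) (by rw [D.R.vec_sr, hz, D.R.vec_sr, D.R.vec_sr, ← D.R.sv_add, D.R.sv_sv])
    obtain ⟨c, hc⟩ := P.nn_E i (D.R.sr i z)
    refine ⟨a * b * N * c, ?_, fun h4 => mul_ne_zero (mul_ne_zero (mul_ne_zero a.ne_zero b.ne_zero)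
      (h3 ((D.R.nz_sr p i x y).1 h4))) c.ne_zero⟩
    ext v
    obtain ⟨u, rfl⟩ := (P.nn i).surjective v
    rw [h1, h2, LinearMap.smul_apply, map_smul, hc, D.R.sr_sr, pow_one, LinearMap.smul_apply, smul_smul, smul_smul]

theorem br_all (hs : ⨆ μ, P.w μ = ⊤) (x : Bool × Φ) : ∀ y, D.R.vec x + D.R.vec y ≠ 0 → P.BR x y := by
  induction x using D.R.sr_induction with
  | h0 i =>
    rintro ⟨_ | _, b⟩ h
    · have hb : b ≠ D.R.zi i := by rintro rfl; exact h (by rw [D.R.vec_false', add_neg_cancel])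
      have h1 := (P.br_same hs false i (D.R.s i b)).sr P i
      rwa [D.R.sr_zi, ← D.R.sr_of_ne i false hb, D.R.sr_sr] at h1
    · exact P.br_same hs true i b
  | h1 i x ih =>
    intro y h
    have h1 := (ih (D.R.sr i y) fun h1 => h (by
      rw [← D.R.sv_sv i (D.R.vec y), ← D.R.vec_sr i y, D.R.vec_sr, ← D.R.sv_add, h1]; exact D.R.svl_zero [i])).sr P i
    rwa [D.R.sr_sr] at h1

end PM

end Cfsg.Agent.TwoF.DC
end

-- part: TwoF/DC/Mod/HV
section
/-!
# TwoF, defining characteristic, TH1a (4): modules generated by a highest weight vector (helper7)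
-/

set_option autoImplicit false
set_option linter.unusedSectionVars false
set_option linter.unusedVariables false

namespace Cfsg.Agent.TwoF.DC

open Module Finset

variable {p : ℕ} {ι Φ k G : Type} [Fintype ι] [DecidableEq ι] [Fintype Φ] [DecidableEq Φ] [Field k] [Group G]

theorem RC.sum_svl_w0 (R : RC ι Φ) {l : List ι} (hl : ∀ b, (R.srl l (true, b)).1 = false) (c : ι → ℕ) :
    ∑ i, R.svl l (fun j => c j) i ≤ -∑ j, (c j : ℤ) := by
  have h1 : (fun j => (c j : ℤ)) = ∑ j, (c j : ℤ) • R.vec (true, R.zi j) := by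
    funext i; simp only [R.vec_zi, Pi.single_apply, _root_.zsmul_eq_mul, _root_.Int.cast_natCast, _root_.Finset.sum_apply, _root_.Pi.mul_apply, _root_.Pi.natCast_apply, _root_.mul_ite, _root_.mul_one, _root_.MulZeroClass.mul_zero, _root_.Finset.sum_ite_eq, _root_.Finset.mem_univ, ↓ _root_.reduceIte]
  rw [congrArg (R.svl l) h1, R.svl_sum]
  simp only [R.svl_smul, Finset.sum_apply, ← R.vec_srl, Pi.smul_apply, smul_eq_mul]
  rw [Finset.sum_comm, ← Finset.sum_neg_distrib]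
  refine Finset.sum_le_sum fun j _ => ?_
  obtain ⟨b, hb⟩ : ∃ b, R.srl l (true, R.zi j) = (false, b) := ⟨_, Prod.ext (hl _) rfl⟩
  obtain ⟨i, hi⟩ := R.exists_cf_pos b
  have h2 : (1 : ℤ) ≤ ∑ i, (R.cf b i : ℤ) :=
    le_trans (by exact_mod_cast hi) (Finset.single_le_sum (f := fun i => (R.cf b i : ℤ))
      (fun _ _ => Int.natCast_nonneg _) (mem_univ i))
  simp only [hb, R.vec_false, ← Finset.mul_sum, Finset.sum_neg_distrib]
  nlinarith only [h2]

namespace PM

variable [Infinite k] {D : RDat p ι Φ k G} {L : Type} [AddCommGroup L] [Module k L] (P : PM D L)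

/-- a highest weight vector which generates the module -/
structure HV (n : ι → ℕ) (c : L) : Prop where
  ne : c ≠ 0
  x : ∀ i s, P.ρ (D.x i s) c = c
  T : ∀ t ∈ D.T, ∃ a : k, P.ρ t c = a • c
  w : c ∈ P.w fun i => n i
  gen : Submodule.span k (Set.range fun g => P.ρ g c) = ⊤

/-- words in the negative simple root operators -/
def wd (c : L) (l : List (ι × Fin P.N)) : L := l.foldr (fun a v => P.E (false, D.R.zi a.1) (a.2 + 1) v) c

/-- the depth of a word -/
def dp (l : List (ι × Fin P.N)) : ι → ℕ := (l.map fun a => Pi.single a.1 ((a.2 : ℕ) + 1)).sum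

theorem toWt_dp_cons (a : ι × Fin P.N) (l : List (ι × Fin P.N)) :
    D.R.toWt (fun j => P.dp (a :: l) j) =
      (((a.2 : ℕ) + 1 : ℕ) : ℤ) • D.R.wt (true, D.R.zi a.1) + D.R.toWt fun j => P.dp l j := by
  rw [RC.wt, ← D.R.toWt_smul, ← D.R.toWt_add, D.R.vec_zi]
  congr 1
  funext j
  simp only [dp, List.map_cons, List.sum_cons, Pi.add_apply, Pi.smul_apply, Pi.single_apply]
  split_ifs <;> simp

theorem length_le_dp (l : List (ι × Fin P.N)) : l.length ≤ ∑ j, P.dp l j := by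
  induction l with
  | nil => exact Nat.zero_le _
  | cons a l ih =>
    simp only [dp, List.map_cons, List.sum_cons, Pi.add_apply, Finset.sum_add_distrib, List.length_cons,
      Finset.sum_pi_single', mem_univ, if_true] at ih ⊢
    omega

variable {P} {n : ι → ℕ} {c : L}

theorem HV.wd_w (h : P.HV n c) (l : List (ι × Fin P.N)) :
    P.wd c l ∈ P.w ((fun i => (n i : ℤ)) - D.R.toWt fun j => P.dp l j) := by
  induction l with
  | nil =>
    have : (D.R.toWt fun j => P.dp [] j) = 0 := D.R.toWt_zero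
    rw [this, sub_zero]; exact h.w
  | cons a l ih =>
    have h1 := P.E_w (false, D.R.zi a.1) (a.2 + 1) _ _ ih
    rwa [D.R.wt_false, smul_neg, ← sub_eq_add_neg, sub_sub, add_comm (D.R.toWt _), ← toWt_dp_cons] at h1

theorem HV.span_wd (h : P.HV n c) : Submodule.span k (Set.range (P.wd c)) = ⊤ := by
  set M := Submodule.span k (Set.range (P.wd c)) with hM
  have h1 : ∀ i m, ∀ v ∈ M, P.E (false, D.R.zi i) m v ∈ M := fun i m v hv => by
    rcases m with _ | m
    · rwa [P.E_zero]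
    by_cases hm : m < P.N
    · refine (Submodule.span_le (p := M.comap (P.E (false, D.R.zi i) (m + 1)))).2 ?_ hv
      rintro _ ⟨l, rfl⟩
      exact Submodule.subset_span ⟨(i, ⟨m, hm⟩) :: l, rfl⟩
    · rw [P.E_N _ _ (by omega)]; exact M.zero_mem
  have h2 : ∀ u ∈ D.Um0, ∀ v ∈ M, P.ρ u v ∈ M := fun u hu => by
    refine Subgroup.closure_induction_left (p := fun u _ => ∀ v ∈ M, P.ρ u v ∈ M) (fun v hv => by simpa only [_root_.map_one, _root_.Module.End.one_apply] using hv)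
      ?_ ?_ hu
    · rintro _ ⟨i, s, rfl⟩ y _ hy v hv
      rw [map_mul, End.mul_apply, ← D.ζ_y, P.exp_apply]
      exact M.sum_mem fun m _ => M.smul_mem _ (h1 i m _ (hy v hv))
    · rintro _ ⟨i, s, rfl⟩ y _ hy v hv
      rw [map_mul, End.mul_apply, ← D.y_neg, ← D.ζ_y, P.exp_apply]
      exact M.sum_mem fun m _ => M.smul_mem _ (h1 i m _ (hy v hv))
  have h3 : ∀ u ∈ D.U0, P.ρ u c = c := fun u hu => by
    refine Subgroup.closure_induction_left (p := fun u _ => P.ρ u c = c) (by simp only [_root_.map_one, _root_.Module.End.one_apply]) ?_ ?_ hu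
    · rintro _ ⟨i, s, rfl⟩ y _ hy
      rw [map_mul, End.mul_apply, hy, h.x]
    · rintro _ ⟨i, s, rfl⟩ y _ hy
      rw [map_mul, End.mul_apply, hy, ← D.x_neg, h.x]
  rw [eq_top_iff, ← h.gen, Submodule.span_le]
  rintro _ ⟨g, rfl⟩
  refine (Subspace.forall_mem_dualAnnihilator_apply_eq_zero_iff M _).1 fun φ hφ => ?_
  refine D.toGDat.dens (f := fun g => φ (P.ρ g c)) (fun i g h' => ?_) (fun v hv t ht u hu => ?_) g
  · obtain ⟨Q, hQ⟩ := pol_dual (pol_sum (range P.N) fun m _ => pol_mono (k := k) m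
      (P.ρ g (P.E (false, D.R.zi i) m (P.ρ h' c)))) φ
    refine ⟨Q, fun s => ?_⟩
    rw [← hQ, map_mul, map_mul, End.mul_apply, End.mul_apply, ← D.ζ_y, P.exp_apply, map_sum]
    simp only [map_smul]
  · obtain ⟨a, ha⟩ := h.T t ht
    rw [map_mul, map_mul, End.mul_apply, End.mul_apply, h3 u hu, ha]
    exact (Submodule.mem_dualAnnihilator φ).1 hφ _ (h2 v hv _ (M.smul_mem _ (Submodule.subset_span ⟨[], rfl⟩)))

theorem HV.span (h : P.HV n c) : ⨆ μ, P.w μ = ⊤ := by
  rw [eq_top_iff, ← h.span_wd, Submodule.span_le]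
  rintro _ ⟨l, rfl⟩
  exact Submodule.mem_iSup_of_mem _ (h.wd_w l)

theorem HV.w_le (h : P.HV n c) {μ : ι → ℤ} {M : Submodule k L}
    (hM : ∀ l, ((fun i => (n i : ℤ)) - D.R.toWt fun j => P.dp l j) = μ → P.wd c l ∈ M) : P.w μ ≤ M := by
  obtain ⟨π, -, hπ⟩ := P.exists_pr μ
  intro v hv
  have h1 : Submodule.span k (Set.range (P.wd c)) ≤ M.comap π := Submodule.span_le.2 (by
    rintro _ ⟨l, rfl⟩
    show π _ ∈ M
    rw [hπ _ _ (h.wd_w l)]
    split_ifs with h2
    · exact hM l h2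
    · exact M.zero_mem)
  have h2 : π v ∈ M := h1 (h.span_wd ▸ Submodule.mem_top)
  rwa [hπ μ v hv, if_pos rfl] at h2

theorem HV.le_top (h : P.HV n c) (μ : ι → ℤ) (hμ : P.w μ ≠ ⊥) :
    ∃ d : ι → ℕ, μ = (fun i => (n i : ℤ)) - D.R.toWt fun j => d j := by
  by_contra h1
  exact hμ (eq_bot_iff.2 (h.w_le fun l hl => (h1 ⟨_, hl.symm⟩).elim))

theorem HV.top (h : P.HV n c) : finrank k (P.w fun i => n i) = 1 := by
  suffices h1 : (P.w fun i => n i) = Submodule.span k {c} by rw [h1, finrank_span_singleton h.ne]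
  refine le_antisymm (h.w_le fun l hl => ?_) ((Submodule.span_singleton_le_iff_mem _ _).2 h.w)
  rcases l with _ | ⟨a, l⟩
  · exact Submodule.mem_span_singleton_self c
  · exfalso
    have h1 := D.R.toWt_inj ((sub_eq_self.1 hl).trans D.R.toWt_zero.symm)
    have h2 := P.length_le_dp (a :: l)
    rw [Finset.sum_eq_zero fun j _ => Int.natCast_eq_zero.1 (congrFun h1 j)] at h2
    simp at h2

theorem HV.gen' (h : P.HV n c) (μ : ι → ℤ) (hμ : μ ≠ fun i => (n i : ℤ)) :
    P.w μ ≤ ⨆ (i : ι) (m : ℕ) (_ : 0 < m),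
      (P.w (μ + (m : ℤ) • D.R.wt (true, D.R.zi i))).map (P.E (false, D.R.zi i) m) := by
  refine h.w_le fun l hl => ?_
  rcases l with _ | ⟨a, l⟩
  · have : (D.R.toWt fun j => P.dp [] j) = 0 := D.R.toWt_zero
    rw [this, sub_zero] at hl
    exact (hμ hl.symm).elim
  · refine Submodule.mem_iSup_of_mem a.1 (Submodule.mem_iSup_of_mem (a.2 + 1) (Submodule.mem_iSup_of_mem
      (Nat.succ_pos _) (Submodule.mem_map_of_mem ?_)))
    have h1 := h.wd_w l
    rwa [← hl, toWt_dp_cons, ← sub_sub, sub_right_comm, sub_add_cancel]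

theorem w_swl (l : List ι) {μ : ι → ℤ} (hμ : P.w μ ≠ ⊥) : P.w (D.R.swl l μ) ≠ ⊥ := by
  induction l with
  | nil => exact hμ
  | cons i l ih =>
    obtain ⟨v, hv, h0⟩ := (Submodule.ne_bot_iff _).1 ih
    exact (Submodule.ne_bot_iff _).2 ⟨_, P.nn_w i _ v hv, (P.nn i).map_ne_zero_iff.2 h0⟩

theorem HV.fd (h : P.HV n c) : FiniteDimensional k L := by
  obtain ⟨l0, h0⟩ := D.R.exists_w0
  obtain ⟨c0, hc0⟩ := D.R.swl_dom (μ := fun i => (n i : ℤ)) (fun i => Int.natCast_nonneg _) l0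
  have h1 : ∀ l, P.wd c l ≠ 0 → l.length ≤ ∑ j, c0 j := fun l hl => by
    obtain ⟨d, hd⟩ := h.le_top _ (w_swl l0 ((Submodule.ne_bot_iff _).2 ⟨_, h.wd_w l, hl⟩))
    rw [D.R.swl_sub, hc0, ← D.R.toWt_svl, sub_sub, sub_right_inj, ← D.R.toWt_add, D.R.toWt_inj.eq_iff] at hd
    have h2 := D.R.sum_svl_w0 h0 (P.dp l)
    have h3 := congrArg (fun f : ι → ℤ => ∑ j, f j) hd
    simp only [Pi.add_apply, Finset.sum_add_distrib] at h3
    have h4 : (0 : ℤ) ≤ ∑ j, (d j : ℤ) := Finset.sum_nonneg fun _ _ => Int.natCast_nonneg _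
    have h5 := P.length_le_dp l
    zify at h5 ⊢
    omega
  refine ⟨⟨((List.finite_length_le (ι × Fin P.N) (∑ j, c0 j)).image (P.wd c)).toFinset, ?_⟩⟩
  rw [Set.Finite.coe_toFinset, eq_top_iff, ← h.span_wd, Submodule.span_le]
  rintro _ ⟨l, rfl⟩
  by_cases hl : P.wd c l = 0
  · rw [hl]; exact Submodule.zero_mem _
  · exact Submodule.subset_span ⟨l, h1 l hl, rfl⟩

theorem E_lt [Fact p.Prime] [CharP k p] {x : Bool × Φ} {v : L} (h : P.E x 1 v = 0) {m : ℕ} (h0 : 0 < m) (hm : m < p) :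
    P.E x m v = 0 := by
  obtain ⟨m, rfl⟩ : ∃ m', m = m' + 1 := ⟨m - 1, by omega⟩
  have h1 := DFunLike.congr_fun (P.E_mul x m 1) v
  rw [End.mul_apply, h, map_zero, LinearMap.smul_apply, Nat.choose_succ_self_right, eq_comm, smul_eq_zero,
    CharP.cast_eq_zero_iff k p] at h1
  exact h1.resolve_left (Nat.not_dvd_of_pos_of_lt h0 hm)

theorem finsum_E (x : Bool × Φ) (t : k) : P.ρ (D.ζ x t) = ∑ᶠ n : ℕ, t ^ n • P.E x n := by
  rw [P.exp]
  refine (finsum_eq_sum_of_support_subset _ fun n hn => ?_).symm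
  rw [Finset.coe_range, Set.mem_Iio]
  by_contra h
  exact hn (show t ^ n • P.E x n = 0 by rw [P.E_N x n (by omega), smul_zero])

/-- the module as an `HW` module -/
noncomputable def HV.toHW (h : P.HV n c) (hn : ∀ i, n i < p) (h0 : n ≠ 0)
    (hc : ∀ v, (∀ b, P.E (true, b) 1 v = 0) → v ∈ P.w fun i => n i) : HW D.R p k L where
  lam := n
  w := P.w
  E := P.E
  nn := P.nn
  lam_lt := hn
  lam_ne := h0
  fd := h.fd
  indep := P.indep
  span := h.span
  E_w := P.E_w
  E_zero := P.E_zero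
  E_mul := P.E_mul
  nn_w := P.nn_w
  nn_E := P.nn_E
  ef b := P.ef (true, b)
  br0 x y h1 := (P.br_all h.span x y h1).1
  br x y z hz := (P.br_all h.span x y (hz ▸ D.R.vec_ne_zero z)).2 z hz
  top := h.top
  le_top := h.le_top
  curtis := hc
  gen := h.gen'
  inj := P.inj

/-- the group action -/
noncomputable def HV.toRep (h : P.HV n c) (hn : ∀ i, n i < p) (h0 : n ≠ 0)
    (hc : ∀ v, (∀ b, P.E (true, b) 1 v = 0) → v ∈ P.w fun i => n i) : (h.toHW hn h0 hc).Rep D where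
  ρ := P.ρ
  ρ_z b t := finsum_E (true, b) t
  ρ_w b t := finsum_E (false, b) t
  ρ_hh i a μ v hv := P.mem_w.1 hv i a
  ρ_n i v := rfl

end PM

end Cfsg.Agent.TwoF.DC
end

-- part: TwoF/DC/Mod/Can
section
/-!
# TwoF, defining characteristic, TH1a (5): the canonical modules, `boxHW : BoxHW` (helper7)
-/

set_option autoImplicit false
set_option linter.unusedSectionVars false
set_option linter.unusedVariables false

namespace Cfsg.Agent.TwoF.DC

open Module Finset Cfsg.Agent.H45.Uni Cfsg.Agent.H45.UniE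

variable {p : ℕ} {ι Φ k G : Type} [Fintype ι] [DecidableEq ι] [Fintype Φ] [DecidableEq Φ] [Field k] [Group G]

namespace RDat

variable [Infinite k] (D : RDat p ι Φ k G) (n : ι → ℕ)

theorem Lc_pol {F : G → k} (hF : F ∈ Lc D n) (x : Bool × Φ) (g : G) :
    ∃ P : Polynomial k, P.natDegree ≤ ∑ i, n i * D.N ∧ ∀ s, F (g * D.ζ x s) = P.eval s := by
  induction hF using Submodule.span_induction with
  | mem F hF =>
    obtain ⟨h, rfl⟩ := hF
    rcases x with ⟨_ | _, b⟩
    · obtain ⟨P, h1, h2⟩ := D.cc_pol_z n b (D.τ h) (D.τ g)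
      refine ⟨P, h1, fun s => ?_⟩
      rw [← h2, ← D.cc_τ n (_ * _ * _), D.τ_mul, D.τ_mul, D.τ_τ, D.τ_τ, ← mul_assoc]; rfl
    · exact D.cc_pol_z n b g h
  | zero => exact ⟨0, by simp only [_root_.Polynomial.natDegree_zero, _root_.zero_le], fun s => by simp⟩
  | add F F' _ _ h1 h2 =>
    obtain ⟨P, h1, h1'⟩ := h1
    obtain ⟨P', h2, h2'⟩ := h2
    exact ⟨P + P', (Polynomial.natDegree_add_le _ _).trans (max_le h1 h2), fun s => by
      rw [Pi.add_apply, h1', h2', Polynomial.eval_add]⟩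
  | smul a F _ h1 =>
    obtain ⟨P, h1, h1'⟩ := h1
    exact ⟨Polynomial.C a * P, (Polynomial.natDegree_C_mul_le _ _).trans h1, fun s => by
      rw [Pi.smul_apply, h1', Polynomial.eval_mul, Polynomial.eval_C, smul_eq_mul]⟩

/-- the divided powers on the canonical module -/
noncomputable def Ec (x : Bool × Φ) (m : ℕ) : Module.End k (Lc D n) :=
  (op (DatR.nodes k (∑ i, n i * D.N + 1)) (fun _ => 1) (D.ζ x) m).restrict
    fun _ hF => op_mem (fun _ _ _ h => RR_mem_Tr _ h) m hF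

theorem Ec_apply (x : Bool × Φ) (m : ℕ) (F : Lc D n) (g : G) {P : Polynomial k} (hP : P.natDegree ≤ ∑ i, n i * D.N)
    (h : ∀ s, (F : G → k) (g * D.ζ x s) = P.eval s) : (D.Ec n x m F : G → k) g = P.coeff m := by
  refine op_apply ?_ fun a _ => (one_mul _).trans (h a)
  rw [DatR.nodes_card]
  exact Polynomial.degree_le_natDegree.trans_lt (by exact_mod_cast Nat.lt_succ_of_le hP)

/-- the canonical module as a polynomial module -/
noncomputable def pm : PM D (Lc D n) where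
  ρ := ρc D n
  E := D.Ec n
  N := ∑ i, n i * D.N + 2
  N_ge := Nat.le_add_left _ _
  E_N x m hm := by
    ext F g
    obtain ⟨P, h1, h2⟩ := D.Lc_pol n F.2 x g
    rw [D.Ec_apply n x m F g h1 h2, Polynomial.coeff_eq_zero_of_natDegree_lt (by omega)]; rfl
  exp x t := by
    ext F g
    obtain ⟨P, h1, h2⟩ := D.Lc_pol n F.2 x g
    rw [ρTr_apply, h2, Polynomial.eval_eq_sum_range' (n := ∑ i, n i * D.N + 2) (by omega), LinearMap.sum_apply,
      Submodule.coe_sum, Finset.sum_apply]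
    refine Finset.sum_congr rfl fun m _ => ?_
    rw [LinearMap.smul_apply, Submodule.coe_smul, Pi.smul_apply, D.Ec_apply n x m F g h1 h2, smul_eq_mul, mul_comm]

theorem hv : (D.pm n).HV n ⟨D.cc n, self_mem_Tr _⟩ where
  ne h := one_ne_zero ((D.cc_one n).symm.trans (congrFun (congrArg Subtype.val h) 1))
  x i s := Subtype.ext (funext fun g => D.cc_x n g i s)
  T t ht := ⟨D.cc n t, Subtype.ext (funext fun g => D.cc_mul_T n ht g)⟩
  w := (D.pm n).mem_w.2 fun i c => Subtype.ext (funext fun g => by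
    refine (D.cc_mul_T n (D.hh_mem i c) g).trans ?_
    rw [D.cc_hh, zpow_natCast, Units.val_pow_eq_pow_val]; rfl)
  gen := by
    apply Submodule.map_injective_of_injective (Lc D n).injective_subtype
    rw [Submodule.map_span, Submodule.map_top, Submodule.range_subtype, ← Set.range_comp]
    rfl

theorem curtis [Fact p.Prime] [CharP k p] (hn : ∀ i, n i < p) (F : Lc D n)
    (h : ∀ b, (D.pm n).E (true, b) 1 F = 0) : F ∈ (D.pm n).w fun i => n i := by
  obtain ⟨a, ha⟩ := (D.dat p n hn (Fact.out : p.Prime).pos).K_le (F := F)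
    ⟨F.2, fun b m h0 hm => congrArg Subtype.val (PM.E_lt (h b) h0 hm)⟩
  rw [show F = a • ⟨D.cc n, self_mem_Tr _⟩ from Subtype.ext ha]
  exact Submodule.smul_mem _ _ (D.hv n).w

end RDat

/-- **TH1a** -/
theorem boxHW : BoxHW := fun p _ ι Φ k G _ _ _ _ _ _ _ _ D =>
  ⟨{ H := fun n h h0 => (D.hv n).toHW h h0 (D.curtis n h)
     rep := fun n h h0 => (D.hv n).toRep h h0 (D.curtis n h)
     lam := fun _ _ _ => rfl
     ρ_eq := fun _ _ _ => rfl }⟩

end Cfsg.Agent.TwoF.DC
end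

private theorem dce_9dfe26c66f3b : _root_.True := by
  try have : _root_.True := by simp only [_root_.Cfsg.Agent.TwoF.DC.PM.w.eq_1]
  try have : _root_.True := by simp only [_root_.Cfsg.Agent.TwoF.DC.PM.dp.eq_1]
  exact _root_.True.intro
end

-- part: TwoF/DC/TC/Wt
section
prune_inst 0x7f031306d443c4202000018059213001902be0004920043000430a0044001c75860a0412e4142001d02103a900038050028119800a0421000000a003000400601208868c2028348a104260019803083100000000000000000000000000000051004000000000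
set_option linter.all false
open scoped Cfsg.Agent.FastGrp

-- part: TwoF/DC/TC/Euc
section
/-!
# TwoF, defining characteristic, type C (1): root combinatorics from a euclidean model (helper34)

`Euc ι Φ` : roots `rv b` and coroots `cv b` as integer vectors, `ew μ` the vector of the weight `μ`; `Euc.rc` the root
combinatorics, `Euc.dual` the dual root system.
-/

set_option autoImplicit false
set_option linter.unusedSectionVars false

namespace Cfsg.Agent.TwoF.DC.TC

open Finset Matrix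

/-- a euclidean model of a root system -/
structure Euc (ι Φ : Type) [Fintype ι] [DecidableEq ι] where
  zi : ι → Φ
  rv : Φ → ι → ℤ
  cv : Φ → ι → ℤ
  cf : Φ → ι → ℕ
  co : Φ → ι → ℕ
  s : ι → Φ → Φ
  cf_zi : ∀ i, cf (zi i) = Pi.single i 1
  co_zi : ∀ i, co (zi i) = Pi.single i 1
  rv_eq : ∀ b, ∑ j, (cf b j : ℤ) • rv (zi j) = rv b
  cv_eq : ∀ b, ∑ j, (co b j : ℤ) • cv (zi j) = cv b
  rv_ind : ∀ c : ι → ℤ, ∑ j, c j • rv (zi j) = 0 → c = 0
  cv_ind : ∀ c : ι → ℤ, ∑ j, c j • cv (zi j) = 0 → c = 0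
  rv_span : ∀ x : ι → ℤ, (∀ i, rv (zi i) ⬝ᵥ x = 0) → x = 0
  cv_span : ∀ x : ι → ℤ, (∀ i, cv (zi i) ⬝ᵥ x = 0) → x = 0
  two : ∀ b, cv b ⬝ᵥ rv b = 2
  rv_inj : Function.Injective rv
  cv_inj : Function.Injective cv
  rv_red : ∀ b i (n : ℤ), rv b = n • rv (zi i) → b = zi i
  cv_red : ∀ b i (n : ℤ), cv b = n • cv (zi i) → b = zi i
  rv_s : ∀ i b, b ≠ zi i → rv (s i b) = rv b - (cv (zi i) ⬝ᵥ rv b) • rv (zi i)
  cv_s : ∀ i b, b ≠ zi i → cv (s i b) = cv b - (rv (zi i) ⬝ᵥ cv b) • cv (zi i)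

namespace Euc

variable {ι Φ : Type} [Fintype ι] [DecidableEq ι] (X : Euc ι Φ)

/-- the dual root system -/
def dual : Euc ι Φ where
  zi := X.zi
  rv := X.cv
  cv := X.rv
  cf := X.co
  co := X.cf
  s := X.s
  cf_zi := X.co_zi
  co_zi := X.cf_zi
  rv_eq := X.cv_eq
  cv_eq := X.rv_eq
  rv_ind := X.cv_ind
  cv_ind := X.rv_ind
  rv_span := X.cv_span
  cv_span := X.rv_span
  two b := by rw [dotProduct_comm, X.two]
  rv_inj := X.cv_inj
  cv_inj := X.rv_inj
  rv_red := X.cv_red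
  cv_red := X.rv_red
  rv_s := X.cv_s
  cv_s := X.rv_s

/-- the vector of an element of the root lattice -/
def E (c : ι → ℤ) : ι → ℤ := ∑ j, c j • X.rv (X.zi j)

theorem E_add (c d : ι → ℤ) : X.E (c + d) = X.E c + X.E d := by simp only [E, add_smul, sum_add_distrib, _root_.Pi.add_apply, _root_.zsmul_eq_mul]
theorem E_smul (n : ℤ) (c : ι → ℤ) : X.E (n • c) = n • X.E c := by
  simp only [E, smul_sum, smul_smul, Pi.smul_apply, smul_eq_mul]
theorem E_neg (c : ι → ℤ) : X.E (-c) = -X.E c := by simp only [E, _root_.Pi.neg_apply, _root_.neg_smul, _root_.zsmul_eq_mul, _root_.Finset.sum_neg_distrib]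
theorem E_sub (c d : ι → ℤ) : X.E (c - d) = X.E c - X.E d := by rw [sub_eq_add_neg, E_add, E_neg, sub_eq_add_neg]
theorem E_zero : X.E 0 = 0 := by simp only [E, _root_.Pi.zero_apply, _root_.zero_smul, _root_.Finset.sum_const_zero]
theorem E_single (i : ι) (n : ℤ) : X.E (Pi.single i n) = n • X.rv (X.zi i) := by
  rw [E, sum_eq_single i (fun j _ h => by rw [Pi.single_eq_of_ne h, zero_smul]) (by simp only [_root_.Finset.mem_univ, _root_.not_true_eq_false, _root_.Pi.single_eq_same, _root_.zsmul_eq_mul, _root_.IsEmpty.forall_iff]), Pi.single_eq_same]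
theorem E_inj : Function.Injective X.E := fun c d h =>
  sub_eq_zero.1 (X.rv_ind _ (show X.E (c - d) = 0 by rw [E_sub, h, sub_self]))
theorem E_cf (b : Φ) : X.E (fun j => X.cf b j) = X.rv b := X.rv_eq b

theorem dot_E (x c : ι → ℤ) : x ⬝ᵥ X.E c = ∑ j, (x ⬝ᵥ X.rv (X.zi j)) * c j := by
  rw [E, dotProduct_sum]
  exact sum_congr rfl fun j _ => by rw [dotProduct_smul, smul_eq_mul, mul_comm]

theorem cf_s (i : ι) (b : Φ) (h : b ≠ X.zi i) (j : ι) :
    (X.cf (X.s i b) j : ℤ) = X.cf b j - if j = i then X.cv (X.zi i) ⬝ᵥ X.rv b else 0 := by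
  have h1 : (fun j => (X.cf (X.s i b) j : ℤ)) = (fun j => (X.cf b j : ℤ)) - Pi.single i (X.cv (X.zi i) ⬝ᵥ X.rv b) :=
    X.E_inj (by rw [E_sub, E_cf, E_cf, E_single, X.rv_s i b h])
  rw [congrFun h1 j, Pi.sub_apply, Pi.single_apply]

theorem desc (b : Φ) : ∃ i, 0 < X.cv (X.zi i) ⬝ᵥ X.rv b := by
  by_contra h
  push Not at h
  have h1 := X.two b
  rw [← X.cv_eq, sum_dotProduct] at h1
  have h2 : ∑ j, ((X.co b j : ℤ) • X.cv (X.zi j)) ⬝ᵥ X.rv b ≤ 0 := sum_nonpos fun j _ => by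
    rw [smul_dotProduct, smul_eq_mul]
    exact mul_nonpos_of_nonneg_of_nonpos (Int.natCast_nonneg _) (h j)
  omega

/-- the root combinatorics -/
def rc : RC ι Φ where
  zi := X.zi
  cf := X.cf
  co := X.co
  C i j := X.cv (X.zi i) ⬝ᵥ X.rv (X.zi j)
  s := X.s
  cf_zi := X.cf_zi
  co_zi := X.co_zi
  C_self i := X.two _
  C_inj c h := X.E_inj (by rw [E_zero]; exact X.cv_span _ fun i => by rw [dot_E, h i])
  cf_inj a b h := X.rv_inj (by rw [← E_cf, ← E_cf, h])
  red b i n h := X.rv_red b i n (by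
    rw [← E_cf, ← E_single]
    congr 1
    funext j
    rw [h, Pi.single_apply, Pi.single_apply]
    split_ifs <;> rfl)
  cf_s i b h j := by rw [X.cf_s i b h j, ← E_cf, dot_E]
  co_s i b h j := by
    have h1 := X.dual.cf_s i b h j
    rw [← X.dual.E_cf, X.dual.dot_E] at h1
    refine h1.trans ?_
    congr 2
    exact sum_congr rfl fun l _ => by rw [mul_comm, dotProduct_comm]; rfl
  desc b _ := (X.desc b).imp fun i h => by rwa [← E_cf, dot_E] at h

variable [DecidableEq Φ]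

/-- the vector of a root -/
def rx (x : Bool × Φ) : ι → ℤ := if x.1 then X.rv x.2 else -X.rv x.2
/-- the vector of a coroot -/
def cx (x : Bool × Φ) : ι → ℤ := if x.1 then X.cv x.2 else -X.cv x.2

theorem rx_true (b : Φ) : X.rx (true, b) = X.rv b := rfl
theorem rx_false (b : Φ) : X.rx (false, b) = -X.rv b := rfl
theorem cx_true (b : Φ) : X.cx (true, b) = X.cv b := rfl
theorem cx_false (b : Φ) : X.cx (false, b) = -X.cv b := rfl

theorem E_vec (x : Bool × Φ) : X.E (X.rc.vec x) = X.rx x := by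
  obtain ⟨_ | _, b⟩ := x
  · rw [RC.vec_false', E_neg, rx_false, ← E_cf]; rfl
  · rw [rx_true, ← E_cf]; rfl

theorem E_cov (x : Bool × Φ) : X.dual.E (X.rc.cov x) = X.cx x := X.dual.E_vec x

theorem toWt_eq (c : ι → ℤ) (i : ι) : X.rc.toWt c i = X.cv (X.zi i) ⬝ᵥ X.E c := (X.dot_E _ c).symm

theorem isRt_iff (c : ι → ℤ) : X.rc.IsRt c ↔ ∃ x, X.rx x = X.E c :=
  exists_congr fun x => by rw [← E_vec, X.E_inj.eq_iff]

theorem vec_eq_iff {x : Bool × Φ} {c : ι → ℤ} : X.rc.vec x = c ↔ X.rx x = X.E c := by rw [← E_vec, X.E_inj.eq_iff]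

theorem cf_add_iff {a b c : Φ} {m n : ℕ} :
    X.rc.cf a = m • X.rc.cf b + n • X.rc.cf c ↔ X.rv a = (m : ℤ) • X.rv b + (n : ℤ) • X.rv c := by
  rw [← E_cf, ← E_cf, ← E_cf, ← E_smul, ← E_smul, ← E_add, X.E_inj.eq_iff, funext_iff, funext_iff]
  refine forall_congr' fun j => ?_
  simp only [Pi.add_apply, Pi.smul_apply, smul_eq_mul]
  show X.cf a j = m * X.cf b j + n * X.cf c j ↔ _
  exact_mod_cast Iff.rfl

theorem cf_add_iff' {a b c : Φ} : X.rc.cf a = X.rc.cf b + X.rc.cf c ↔ X.rv a = X.rv b + X.rv c := by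
  have h := X.cf_add_iff (a := a) (b := b) (c := c) (m := 1) (n := 1)
  simpa using h

/-- `x` is the vector of `d` times the weight `μ` -/
def IsW (d : ℤ) (μ x : ι → ℤ) : Prop := ∀ i, X.cv (X.zi i) ⬝ᵥ x = d * μ i

variable {X} {d : ℤ} {μ ν x y : ι → ℤ}

theorem IsW.pair (h : X.IsW d μ x) (z : Bool × Φ) : X.cx z ⬝ᵥ x = d * X.rc.pair μ z := by
  rw [← E_cov, dotProduct_comm, X.dual.dot_E, RC.pair, mul_sum]
  exact sum_congr rfl fun j _ => by rw [dotProduct_comm]; show X.cv (X.zi j) ⬝ᵥ x * _ = _; rw [h j]; ring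

theorem isW_toWt (d : ℤ) (c : ι → ℤ) : X.IsW d (X.rc.toWt c) (d • X.E c) := fun i => by
  rw [dotProduct_smul, toWt_eq, smul_eq_mul]

theorem isW_wt (d : ℤ) (z : Bool × Φ) : X.IsW d (X.rc.wt z) (d • X.rx z) := by
  rw [← E_vec]; exact isW_toWt d _

theorem IsW.uniq (h : X.IsW d μ x) (h' : X.IsW d μ y) : x = y :=
  sub_eq_zero.1 (X.cv_span _ fun i => by rw [dotProduct_sub, h i, h' i, sub_self])

theorem IsW.inj (hd : d ≠ 0) (h : X.IsW d μ x) (h' : X.IsW d ν x) : μ = ν :=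
  funext fun i => mul_left_cancel₀ hd ((h i).symm.trans (h' i))

theorem pair_wt (y z : Bool × Φ) : X.rc.pair (X.rc.wt y) z = X.cx z ⬝ᵥ X.rx y := by
  have h := (isW_wt (X := X) 1 y).pair z
  rw [one_smul, one_mul] at h
  exact h.symm

end Euc

end Cfsg.Agent.TwoF.DC.TC
end

-- part: TwoF/DC/TC/RtC
section
/-!
# TwoF, defining characteristic, type C (2): the root system `C_m` (helper34)

Signed indices `II m`, weights `wv a = ± ε_i`, positive roots `PR m` (pairs of signed indices), the model `eC m`.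
-/

set_option autoImplicit false
set_option linter.unusedSectionVars false

namespace Cfsg.Agent.TwoF.DC.TC

open Finset Matrix Sum

/-- signed indices -/
abbrev II (m : ℕ) : Type := Fin m ⊕ Fin m

variable {m : ℕ}

/-- the position in the order `ε_0 > ... > ε_(m-1) > -ε_(m-1) > ... > -ε_0` -/
def ps : II m → ℕ
  | inl i => i
  | inr i => 2 * m - 1 - i

/-- the signed coordinate -/
def xv (x : Fin m → ℤ) : II m → ℤ
  | inl i => x i
  | inr i => -x i

/-- the weight of a signed index -/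
def wv : II m → Fin m → ℤ
  | inl i => Pi.single i 1
  | inr i => -Pi.single i 1

theorem ps_inl (i : Fin m) : ps (inl i : II m) = i := rfl
theorem ps_inr (i : Fin m) : ps (inr i : II m) = 2 * m - 1 - i := rfl
theorem ps_lt (a : II m) : ps a < 2 * m := by rcases a with i | i <;> simp only [ps] <;> omega
theorem ps_swap (a : II m) : ps a.swap + ps a + 1 = 2 * m := by
  rcases a with i | i <;> simp only [ps, swap_inl, swap_inr] <;> (clear * -; omega)
theorem ps_inj {a b : II m} (h : ps a = ps b) : a = b := by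
  rcases a with i | i <;> rcases b with j | j <;> simp only [ps] at h
  · rw [Fin.ext h]
  · omega
  · omega
  · rw [Fin.ext (show i.1 = j.1 by omega)]
theorem ps_eq {a b : II m} : a = b ↔ ps a = ps b := ⟨congrArg ps, ps_inj⟩
theorem eq_swap_iff {a b : II m} : a = b.swap ↔ ps a + ps b + 1 = 2 * m := by
  have := ps_swap b
  rw [ps_eq]; omega
theorem swap_ne (a : II m) : a.swap ≠ a := by rcases a with i | i <;> simp
theorem swap_inj {a b : II m} : a.swap = b.swap ↔ a = b := by rcases a with i | i <;> rcases b with j | j <;> simp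
theorem eq_swap_comm {a b : II m} : a = b.swap ↔ b = a.swap := by rw [eq_swap_iff, eq_swap_iff]; omega
theorem exists_inl {a : II m} (h : ps a < m) : ∃ i, a = inl i := by
  rcases a with i | i
  · exact ⟨i, rfl⟩
  · simp only [ps] at h; omega

theorem xv_inl (x : Fin m → ℤ) (i : Fin m) : xv x (inl i) = x i := rfl
theorem xv_inr (x : Fin m → ℤ) (i : Fin m) : xv x (inr i) = -x i := rfl
theorem xv_swap (x : Fin m → ℤ) (a : II m) : xv x a.swap = -xv x a := by rcases a with i | i <;> simp [xv]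
theorem xv_add (x y : Fin m → ℤ) (a : II m) : xv (x + y) a = xv x a + xv y a := by
  rcases a with i | i <;> simp [xv, add_comm]
theorem xv_neg (x : Fin m → ℤ) (a : II m) : xv (-x) a = -xv x a := by rcases a with i | i <;> simp [xv]
theorem xv_sub (x y : Fin m → ℤ) (a : II m) : xv (x - y) a = xv x a - xv y a := by
  rw [sub_eq_add_neg, xv_add, xv_neg, sub_eq_add_neg]
theorem xv_smul (n : ℤ) (x : Fin m → ℤ) (a : II m) : xv (n • x) a = n * xv x a := by rcases a with i | i <;> simp [xv]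
theorem xv_zero (a : II m) : xv 0 a = 0 := by rcases a with i | i <;> simp [xv]
theorem ext_xv {x y : Fin m → ℤ} (h : ∀ a, xv x a = xv y a) : x = y := funext fun i => h (inl i)
theorem wv_dot (a : II m) (x : Fin m → ℤ) : wv a ⬝ᵥ x = xv x a := by rcases a with i | i <;> simp only [xv, wv, _root_.single_dotProduct, _root_.one_mul, _root_.neg_dotProduct]
theorem wv_swap (a : II m) : wv a.swap = -wv a := by rcases a with i | i <;> simp [wv]
theorem xv_wv (a b : II m) : xv (wv b) a = if a = b then 1 else if a = b.swap then -1 else 0 := by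
  rcases a with i | i <;> rcases b with j | j <;> simp [xv, wv, Pi.single_apply] <;> split_ifs <;> rfl
theorem xv_wv' (a b : II m) :
    xv (wv b) a = if ps a = ps b then 1 else if ps a + ps b + 1 = 2 * m then -1 else 0 := by
  simp only [xv_wv, eq_swap_iff, ← ps_eq]
theorem xv_wv_self (a : II m) : xv (wv a) a = 1 := by rw [xv_wv, if_pos rfl]

theorem wv_inj {a b : II m} (h : wv a = wv b) : a = b := by
  have h1 := xv_wv a b
  rw [← h, xv_wv_self] at h1
  split_ifs at h1 with h2 <;> first | exact h2 | omega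

theorem pair_eq {a b c d : II m} (h0 : b ≠ a.swap) (h : wv a + wv b = wv c + wv d) :
    (a = c ∧ b = d) ∨ (a = d ∧ b = c) := by
  have h1 := congrArg (xv · a) h
  simp only [xv_add, xv_wv_self, xv_wv a b, if_neg (mt eq_swap_comm.1 h0), xv_wv a c, xv_wv a d] at h1
  by_cases h2 : a = c
  · subst h2; exact Or.inl ⟨rfl, wv_inj (add_left_cancel h)⟩
  by_cases h3 : a = d
  · subst h3; rw [add_comm (wv c)] at h; exact Or.inr ⟨rfl, wv_inj (add_left_cancel h)⟩
  rw [if_neg h2, if_neg h3] at h1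
  (first | (lia; done) | (split_ifs at h1 <;> omega))

theorem add_ne_wv (a b c : II m) : wv a + wv b ≠ wv c := fun h => by
  have h1 := congrArg (xv · c) h
  have h2 := congrArg (xv · a) h
  have h3 := congrArg (xv · b) h
  have := ps_lt a
  simp only [xv_add, xv_wv'] at h1 h2 h3
  (first | (lia; done) | (split_ifs at h1 h2 h3 <;> omega))

/-- positive roots -/
abbrev PR (m : ℕ) : Type := {x : II m × II m // ps x.1 ≤ ps x.2 ∧ ps x.1 + ps x.2 + 1 < 2 * m}

/-- the second index of the simple root -/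
def nb (i : Fin m) : II m := if h : i.1 + 1 < m then inr ⟨i.1 + 1, h⟩ else inl i

theorem ps_nb (i : Fin m) : ps (nb i) = 2 * m - 2 - i := by
  unfold nb; split_ifs <;> simp only [ps] <;> omega

/-- the simple roots -/
def zc (i : Fin m) : PR m := ⟨(inl i, nb i), by rw [ps_nb, ps_inl]; omega⟩

/-- roots -/
def rv (b : PR m) : Fin m → ℤ := wv b.1.1 + wv b.1.2
/-- coroots -/
def cv (b : PR m) : Fin m → ℤ := if b.1.1 = b.1.2 then wv b.1.1 else wv b.1.1 + wv b.1.2

theorem PR.ne (b : PR m) : b.1.2 ≠ b.1.1.swap := by have := b.2; rw [Ne, eq_swap_iff]; omega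
theorem PR.ext' {a b : PR m} (h1 : ps a.1.1 = ps b.1.1) (h2 : ps a.1.2 = ps b.1.2) : a = b :=
  Subtype.ext (Prod.ext (ps_inj h1) (ps_inj h2))
theorem PR.lt (b : PR m) : ps b.1.1 < m := by have := b.2; omega

theorem rv_inj {a b : PR m} (h : rv a = rv b) : a = b := by
  have := a.2; have := b.2
  rcases pair_eq a.ne h with ⟨h1, h2⟩ | ⟨h1, h2⟩ <;> rw [ps_eq] at h1 h2 <;> exact PR.ext' (by omega) (by omega)

theorem cv_inj {a b : PR m} (h : cv a = cv b) : a = b := by
  unfold cv at h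
  split_ifs at h with h1 h2 h2
  · exact Subtype.ext (Prod.ext (wv_inj h) (by rw [← h1, ← h2, wv_inj h]))
  · exact (add_ne_wv _ _ _ h.symm).elim
  · exact (add_ne_wv _ _ _ h).elim
  · exact rv_inj h

theorem rv_eq_cv (b : PR m) : rv b = (if b.1.1 = b.1.2 then (2 : ℤ) else 1) • cv b := by
  unfold cv rv
  split_ifs with h
  · rw [← h, two_smul]
  · rw [one_smul]

theorem cv_dot (b : PR m) (x : Fin m → ℤ) :
    cv b ⬝ᵥ x = if b.1.1 = b.1.2 then xv x b.1.1 else xv x b.1.1 + xv x b.1.2 := by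
  unfold cv
  split_ifs
  · rw [wv_dot]
  · rw [add_dotProduct, wv_dot, wv_dot]

theorem xv_cv (b : PR m) (a : II m) :
    xv (cv b) a = if ps b.1.1 = ps b.1.2 then xv (wv b.1.1) a else xv (wv b.1.1) a + xv (wv b.1.2) a := by
  simp only [cv, ← ps_eq]; split_ifs
  · rfl
  · exact xv_add _ _ _

theorem rv_dot (b : PR m) (x : Fin m → ℤ) : rv b ⬝ᵥ x = xv x b.1.1 + xv x b.1.2 := by
  rw [rv, add_dotProduct, wv_dot, wv_dot]

/-- partial sums -/
def PS (l : Fin m) (x : Fin m → ℤ) : ℤ := ∑ i ∈ Iic l, x i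

theorem PS_add (l : Fin m) (x y : Fin m → ℤ) : PS l (x + y) = PS l x + PS l y := by simp [PS, sum_add_distrib]
theorem PS_wv (l : Fin m) (a : II m) :
    PS l (wv a) = if ps a ≤ l then 1 else if 2 * m ≤ ps a + l + 1 then -1 else 0 := by
  rcases a with i | i <;> simp only [PS, wv, ps, Pi.neg_apply, sum_neg_distrib, sum_pi_single', mem_Iic, Fin.le_def] <;>
    (first | (lia; done) | (split_ifs <;> omega))
theorem PS_sum (l : Fin m) (c : Fin m → ℤ) (v : Fin m → Fin m → ℤ) : PS l (∑ j, c j • v j) = ∑ j, c j * PS l (v j) := by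
  simp only [PS, Finset.sum_apply, Pi.smul_apply, smul_eq_mul, mul_sum]
  exact sum_comm
theorem PS_inj {x y : Fin m → ℤ} (h : ∀ l, PS l x = PS l y) : x = y := by
  funext l
  induction l using WellFoundedLT.induction with
  | ind l ih =>
    have h1 := h l
    rw [PS, PS, ← Iio_insert, sum_insert notMem_Iio_self, sum_insert notMem_Iio_self,
      sum_congr rfl fun i hi => ih i (mem_Iio.1 hi)] at h1
    exact add_right_cancel h1

theorem zc_eq (i : Fin m) : (zc i).1.1 = (zc i).1.2 ↔ ¬ i.1 + 1 < m := by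
  rw [ps_eq]; show ps (inl i) = ps (nb i) ↔ _; rw [ps_nb, ps_inl]; omega

theorem PS_rv (l : Fin m) (b : PR m) : PS l (rv b) = PS l (wv b.1.1) + PS l (wv b.1.2) := PS_add _ _ _
theorem PS_cv (l : Fin m) (b : PR m) :
    PS l (cv b) = if ps b.1.1 = ps b.1.2 then PS l (wv b.1.1) else PS l (wv b.1.1) + PS l (wv b.1.2) := by
  simp only [cv, ← ps_eq]; split_ifs
  · rfl
  · exact PS_add _ _ _

theorem PS_rv_zc (l j : Fin m) : PS l (rv (zc j)) = if j = l then (if l.1 + 1 < m then 1 else 2) else 0 := by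
  rw [PS_rv, PS_wv, PS_wv]
  simp only [zc, ps_nb, ps_inl, Fin.ext_iff]
  (first | (lia; done) | (split_ifs <;> omega))

theorem PS_cv_zc (l j : Fin m) : PS l (cv (zc j)) = if j = l then 1 else 0 := by
  rw [PS_cv, PS_wv, PS_wv]
  simp only [zc, ps_nb, ps_inl, Fin.ext_iff]
  (first | (lia; done) | (split_ifs <;> omega))

theorem PS_Er (l : Fin m) (c : Fin m → ℤ) : PS l (∑ j, c j • rv (zc j)) = c l * if l.1 + 1 < m then 1 else 2 := by
  rw [PS_sum, sum_eq_single l (fun j _ h => by rw [PS_rv_zc, if_neg h, mul_zero]) (by simp only [_root_.Finset.mem_univ, _root_.not_true_eq_false, _root_.mul_eq_zero, _root_.IsEmpty.forall_iff]), PS_rv_zc, if_pos rfl]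

theorem PS_Ec (l : Fin m) (c : Fin m → ℤ) : PS l (∑ j, c j • cv (zc j)) = c l := by
  simp only [PS_sum, PS_cv_zc, mul_ite, mul_zero, mul_one, sum_ite_eq', mem_univ, if_true]

/-- a root in simple roots -/
def cfC (b : PR m) (l : Fin m) : ℕ := (if l.1 + 1 < m then PS l (rv b) else PS l (rv b) / 2).toNat
/-- a coroot in simple coroots -/
def coC (b : PR m) (l : Fin m) : ℕ := (PS l (cv b)).toNat

theorem cfC_eq (b : PR m) (l : Fin m) : (cfC b l : ℤ) * (if l.1 + 1 < m then 1 else 2) = PS l (rv b) := by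
  have := b.2
  rw [cfC, PS_rv, PS_wv, PS_wv]
  split_ifs <;> (solve | decide | omega)

theorem coC_eq (b : PR m) (l : Fin m) : (coC b l : ℤ) = PS l (cv b) := by
  have := b.2
  rw [coC, PS_cv, PS_wv, PS_wv]
  (first | (lia; done) | (split_ifs <;> omega))

theorem eq_zero_of_step {x : Fin m → ℤ} (h1 : ∀ (i : Fin m) (h : i.1 + 1 < m), x i = x ⟨i.1 + 1, h⟩)
    (h2 : ∀ i : Fin m, ¬ i.1 + 1 < m → x i = 0) : x = 0 := by
  funext i
  induction i using WellFoundedGT.induction with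
  | ind i ih =>
    by_cases h : i.1 + 1 < m
    · rw [h1 i h]; exact ih _ (Fin.lt_def.2 (Nat.lt_succ_self _))
    · exact h2 i h

theorem xv_nb (x : Fin m → ℤ) (i : Fin m) : xv x (nb i) = if h : i.1 + 1 < m then -x ⟨i.1 + 1, h⟩ else x i := by
  unfold nb; split_ifs <;> rfl

theorem rv_zc_dot (i : Fin m) (x : Fin m → ℤ) :
    rv (zc i) ⬝ᵥ x = if h : i.1 + 1 < m then x i - x ⟨i.1 + 1, h⟩ else 2 * x i := by
  rw [rv_dot]; show x i + xv x (nb i) = _; rw [xv_nb]; split_ifs <;> ring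

theorem cv_zc_dot (i : Fin m) (x : Fin m → ℤ) :
    cv (zc i) ⬝ᵥ x = if h : i.1 + 1 < m then x i - x ⟨i.1 + 1, h⟩ else x i := by
  rw [cv_dot]
  by_cases h : i.1 + 1 < m
  · rw [if_neg (by rw [zc_eq]; exact not_not.2 h), dif_pos h]; show x i + xv x (nb i) = _; rw [xv_nb, dif_pos h]; ring
  · rw [if_pos ((zc_eq i).2 h), dif_neg h]; rfl

/-- the simple reflection on signed indices -/
def rI (i : Fin m) (x : II m) : II m :=
  if x = inl i then (nb i).swap else if x = (nb i).swap then inl i else if x = inr i then nb i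
  else if x = nb i then inr i else x

theorem ps_rI (i : Fin m) (x : II m) : ps (rI i x) = if ps x = i then i.1 + 1 else if ps x = i + 1 then i.1
    else if ps x = 2 * m - 1 - i then 2 * m - 2 - i else if ps x = 2 * m - 2 - i then 2 * m - 1 - i else ps x := by
  have h1 := ps_swap (nb i)
  have h2 := ps_nb i
  have h3 : ps (nb i).swap = i + 1 := by omega
  simp only [rI, ps_eq, apply_ite ps, h3, h2, ps_inl, ps_inr]

theorem cv_zc_wv (i : Fin m) (x : II m) : cv (zc i) ⬝ᵥ wv x =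
    if x = inl i ∨ x = nb i then 1 else if x = inr i ∨ x = (nb i).swap then -1 else 0 := by
  have := ps_lt x
  have h1 := ps_swap (nb i)
  have h2 := ps_nb i
  have h3 : ps (nb i).swap = i + 1 := by omega
  rw [cv_dot]
  simp only [xv_wv', ps_eq, zc, h2, h3, ps_inl, ps_inr]
  split_ifs <;> (solve | lia | omega)

theorem wv_rI (i : Fin m) (x : II m) : wv (rI i x) = wv x - (cv (zc i) ⬝ᵥ wv x) • rv (zc i) := by
  have h1 := ps_swap (nb i)
  have h2 := ps_nb i
  have h3 : wv (inr i : II m) = -wv (inl i) := wv_swap (inl i)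
  rw [cv_zc_wv, show rv (zc i) = wv (inl i) + wv (nb i) from rfl, rI]
  by_cases e1 : x = inl i
  · rw [if_pos e1, if_pos (Or.inl e1), e1, wv_swap, one_smul]; abel
  rw [if_neg e1]
  by_cases e2 : x = (nb i).swap
  · rw [if_pos e2, if_neg (not_or.2 ⟨e1, e2 ▸ swap_ne _⟩), if_pos (Or.inr e2), e2, wv_swap, neg_smul, one_smul]; abel
  rw [if_neg e2]
  by_cases e3 : x = inr i
  · rw [if_pos e3, if_neg (not_or.2 ⟨e1, by rw [e3, ps_eq, h2, ps_inr]; omega⟩), if_pos (Or.inl e3), e3, h3, neg_smul,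
      one_smul]; abel
  rw [if_neg e3]
  by_cases e4 : x = nb i
  · rw [if_pos e4, if_pos (Or.inr e4), e4, h3, one_smul]; abel
  · rw [if_neg e4, if_neg (not_or.2 ⟨e1, e4⟩), if_neg (not_or.2 ⟨e3, e2⟩), zero_smul, sub_zero]

theorem rI_inj (i : Fin m) {x y : II m} : rI i x = rI i y ↔ x = y := by
  have := ps_lt x
  have := ps_lt y
  simp only [ps_eq, ps_rI]
  (first | (lia; done) | (split_ifs <;> omega))

/-- the positive root with the indices `a`, `b` -/
def mkR (a b : II m) (d : PR m) : PR m :=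
  if h : ps a ≤ ps b ∧ ps a + ps b + 1 < 2 * m then ⟨(a, b), h⟩
  else if h : ps b ≤ ps a ∧ ps b + ps a + 1 < 2 * m then ⟨(b, a), h⟩ else d

theorem mkR_spec {a b : II m} (h : ps a + ps b + 1 < 2 * m) (d : PR m) :
    (mkR a b d).1 = (a, b) ∨ (mkR a b d).1 = (b, a) := by
  unfold mkR
  split_ifs with h1 h2
  · exact Or.inl rfl
  · exact Or.inr rfl
  · omega

theorem rv_mkR {a b : II m} (h : ps a + ps b + 1 < 2 * m) (d : PR m) : rv (mkR a b d) = wv a + wv b := by
  rcases mkR_spec h d with h1 | h1 <;> rw [rv, h1]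
  exact add_comm _ _

theorem cv_mkR {a b : II m} (h : ps a + ps b + 1 < 2 * m) (d : PR m) :
    cv (mkR a b d) = if a = b then wv a else wv a + wv b := by
  rcases mkR_spec h d with h1 | h1 <;> rw [cv, h1]
  by_cases h2 : a = b
  · subst h2; rfl
  · rw [if_neg h2, if_neg (Ne.symm h2), add_comm]

theorem pos_rI {i : Fin m} {b : PR m} (h : b ≠ zc i) : ps (rI i b.1.1) + ps (rI i b.1.2) + 1 < 2 * m := by
  have h1 := b.2
  have h2 : ¬ (ps b.1.1 = i ∧ ps b.1.2 = 2 * m - 2 - i) := fun h2 => h (PR.ext' h2.1 (h2.2.trans (ps_nb i).symm))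
  rw [ps_rI, ps_rI]
  split_ifs <;> omega

theorem dot_smul_comm (b : PR m) (x : Fin m → ℤ) : (cv b ⬝ᵥ x) • rv b = (rv b ⬝ᵥ x) • cv b := by
  rw [rv_eq_cv, smul_dotProduct, smul_smul, smul_eq_mul, mul_comm]

theorem PS_smul (l : Fin m) (n : ℤ) (x : Fin m → ℤ) : PS l (n • x) = n * PS l x := by simp [PS, mul_sum]

theorem red_aux {b : PR m} {i : Fin m} {x : Fin m → ℤ} (hx : x = rv b ∨ x = cv b) (h : ∀ l, l ≠ i → PS l x = 0) :
    b = zc i := by
  have hb := b.2
  obtain ⟨j, hj⟩ := exists_inl b.lt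
  have h0 : ps b.1.1 = j := by rw [hj]; rfl
  have h1 : j = i := by
    by_contra h1
    have h2 := h j h1
    rcases hx with rfl | rfl <;> simp only [PS_rv, PS_cv, PS_wv] at h2 <;> (first | (lia; done) | (split_ifs at h2 <;> omega))
  subst h1
  refine PR.ext' h0 ?_
  show _ = ps (nb j)
  rw [ps_nb]
  by_cases h1 : j.1 + 1 < m
  · have h2 := h ⟨j.1 + 1, h1⟩ (Fin.ne_of_val_ne (Nat.succ_ne_self _))
    rcases hx with rfl | rfl <;> simp only [PS_rv, PS_cv, PS_wv] at h2 <;> (first | (lia; done) | (split_ifs at h2 <;> omega))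
  · omega

/-- **the root system `C_m`** -/
def eC (m : ℕ) : Euc (Fin m) (PR m) where
  zi := zc
  rv := rv
  cv := cv
  cf := cfC
  co := coC
  s i b := mkR (rI i b.1.1) (rI i b.1.2) b
  cf_zi i := funext fun l => by
    have h := cfC_eq (zc i) l
    rw [PS_rv_zc] at h
    rw [Pi.single_apply]
    split_ifs at h ⊢ <;> omega
  co_zi i := funext fun l => by
    have h := coC_eq (zc i) l
    rw [PS_cv_zc] at h
    rw [Pi.single_apply]
    (first | (lia; done) | (split_ifs at h ⊢ <;> omega))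
  rv_eq b := PS_inj fun l => by rw [PS_Er, cfC_eq]
  cv_eq b := PS_inj fun l => by rw [PS_Ec, coC_eq]
  rv_ind c h := funext fun l => by
    have h1 := PS_Er l c
    rw [h, show PS l 0 = 0 by simp [PS]] at h1
    show c l = 0
    split_ifs at h1 <;> omega
  cv_ind c h := funext fun l => by
    have h1 := PS_Ec l c
    rw [h, show PS l 0 = 0 by simp [PS]] at h1
    exact h1.symm
  rv_span x h := eq_zero_of_step (fun i hi => by have := h i; rw [rv_zc_dot, dif_pos hi] at this; omega)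
    fun i hi => by have := h i; rw [rv_zc_dot, dif_neg hi] at this; omega
  cv_span x h := eq_zero_of_step (fun i hi => by have := h i; rw [cv_zc_dot, dif_pos hi] at this; omega)
    fun i hi => by have := h i; rwa [cv_zc_dot, dif_neg hi] at this
  two b := by
    have := b.2
    rw [cv_dot, rv, xv_add, xv_add]
    simp only [xv_wv', ps_eq]
    (first | (lia; done) | (split_ifs <;> omega))
  rv_inj _ _ := rv_inj
  cv_inj _ _ := cv_inj
  rv_red b i n h := red_aux (Or.inl rfl) fun l hl => by rw [h, PS_smul, PS_rv_zc, if_neg hl.symm, mul_zero]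
  cv_red b i n h := red_aux (Or.inr rfl) fun l hl => by rw [h, PS_smul, PS_cv_zc, if_neg hl.symm, mul_zero]
  rv_s i b h := by
    rw [rv_mkR (pos_rI h), wv_rI, wv_rI, rv.eq_1 b, dotProduct_add, add_smul]
    abel
  cv_s i b h := by
    rw [cv_mkR (pos_rI h), ← dot_smul_comm, cv.eq_1 b]
    simp only [rI_inj]
    split_ifs
    · exact wv_rI _ _
    · rw [wv_rI, wv_rI, dotProduct_add, add_smul]
      abel

end Cfsg.Agent.TwoF.DC.TC
end

-- part: TwoF/DC/TC/Wt
section
/-!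
# TwoF, defining characteristic, type C (4): coordinates of weights, signed permutations (helper34)

* `sp π ε x` : the signed permutation of the vector `x`; `BC X` : `X` is `eC m` or its dual;
* `BC.exists_swl`, `BC.swl_sp` : the Weyl group acts by signed permutations;
* type `C` : `tw x` the weight with coordinates `x`, `ew μ` the coordinates of the weight `μ`, `rt a b` all roots.
-/

set_option autoImplicit false
set_option linter.unusedSectionVars false

namespace Cfsg.Agent.TwoF.DC.TC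

open Finset Matrix Sum

variable {m : ℕ}

/-- signed permutations -/
def sp (π : Equiv.Perm (Fin m)) (ε : Fin m → ℤˣ) (x : Fin m → ℤ) : Fin m → ℤ := fun i => ε i * x (π i)

theorem sp_apply (π : Equiv.Perm (Fin m)) (ε : Fin m → ℤˣ) (x : Fin m → ℤ) (i : Fin m) :
    sp π ε x i = ε i * x (π i) := rfl
theorem sp_one (x : Fin m → ℤ) : sp 1 1 x = x := funext fun i => by simp [sp]
theorem sp_sp (π π' : Equiv.Perm (Fin m)) (ε ε' : Fin m → ℤˣ) (x : Fin m → ℤ) :
    sp π ε (sp π' ε' x) = sp (π' * π) (ε * ε' ∘ π) x := funext fun i => by simp [sp, mul_assoc]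
theorem sp_perm (π : Equiv.Perm (Fin m)) (x : Fin m → ℤ) : sp π 1 x = x ∘ π := funext fun i => by simp [sp]
theorem sp_neg (x : Fin m → ℤ) : sp 1 (fun _ => -1) x = -x := funext fun i => by simp [sp]

/-- the reflection in a root, on vectors -/
def rfv (b : PR m) (x : Fin m → ℤ) : Fin m → ℤ := x - (cv b ⬝ᵥ x) • rv b

theorem rfv_minus {i j : Fin m} (h : i < j) (x : Fin m → ℤ) :
    rfv ⟨(inl i, inr j), by simp only [ps]; omega⟩ x = sp (Equiv.swap i j) 1 x := by
  funext l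
  rw [rfv, cv_dot, if_neg (by simp), sp_perm]
  simp only [rv, wv, xv, Pi.sub_apply, Pi.smul_apply, Pi.add_apply, Pi.neg_apply, Pi.single_apply, smul_eq_mul,
    Function.comp_apply, Equiv.swap_apply_def]
  have := h.ne
  split_ifs with h1 h2 h2
  · exact (this (h1.symm.trans h2)).elim
  · rw [h1]; ring
  · rw [h2]; ring
  · ring

theorem rfv_long {i : Fin m} (x : Fin m → ℤ) :
    rfv ⟨(inl i, inl i), by simp only [ps]; omega⟩ x = sp 1 (Pi.mulSingle i (-1)) x := by
  funext l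
  rw [rfv, cv_dot, if_pos rfl]
  simp only [rv, wv, xv, sp, Pi.sub_apply, Pi.smul_apply, Pi.add_apply, Pi.single_apply, smul_eq_mul,
    Pi.mulSingle_apply, Equiv.Perm.one_apply]
  split_ifs with h1
  · rw [h1]; simp; ring
  · simp

theorem rfv_zc (i : Fin m) : ∃ π ε, ∀ x, rfv (zc i) x = sp π ε x := by
  by_cases h : i.1 + 1 < m
  · refine ⟨Equiv.swap i ⟨i.1 + 1, h⟩, 1, fun x => ?_⟩
    rw [← rfv_minus (show i < ⟨i.1 + 1, h⟩ from Nat.lt_succ_self _) x]
    congr 1
    exact Subtype.ext (Prod.ext rfl (dif_pos h))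
  · refine ⟨1, Pi.mulSingle i (-1), fun x => ?_⟩
    rw [← rfv_long (i := i) x]
    congr 1
    exact Subtype.ext (Prod.ext rfl (dif_neg h))

/-- `X` is of type `C_m` or `B_m` -/
def BC (X : Euc (Fin m) (PR m)) : Prop := X = eC m ∨ X = (eC m).dual

theorem bc_C : BC (eC m) := Or.inl rfl
theorem bc_B : BC (eC m).dual := Or.inr rfl

theorem _root_.Cfsg.Agent.TwoF.DC.TC.Euc.IsW.rf {ι Φ : Type} [Fintype ι] [DecidableEq ι] [DecidableEq Φ] {X : Euc ι Φ}
    {d : ℤ} (hd : d ≠ 0) {μ x : ι → ℤ} (h : X.IsW d μ x) (b : Φ) :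
    X.IsW d (X.rc.rf (true, b) μ) (x - (X.cv b ⬝ᵥ x) • X.rv b) := fun i => by
  have h1 := h.pair (true, b)
  have h2 := Euc.isW_wt (X := X) d (true, b) i
  rw [Euc.cx_true] at h1
  rw [Euc.rx_true, dotProduct_smul, smul_eq_mul] at h2
  rw [dotProduct_sub, dotProduct_smul, h i, h1, RC.rf, Pi.sub_apply, Pi.smul_apply, smul_eq_mul, smul_eq_mul,
    mul_left_cancel₀ hd h2]
  ring

namespace BC

variable {X : Euc (Fin m) (PR m)} (hX : BC X)
include hX

theorem zi (i : Fin m) : X.zi i = zc i := by rcases hX with rfl | rfl <;> rfl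

theorem isW_rf {d : ℤ} (hd : d ≠ 0) {μ x : Fin m → ℤ} (h : X.IsW d μ x) (b : PR m) :
    X.IsW d (X.rc.rf (true, b) μ) (rfv b x) := by
  have h1 := h.rf hd b
  rcases hX with rfl | rfl
  · exact h1
  · rw [rfv, dot_smul_comm]; exact h1

/-- every signed permutation is a word -/
theorem exists_swl (π : Equiv.Perm (Fin m)) (ε : Fin m → ℤˣ) :
    ∃ l, ∀ d : ℤ, d ≠ 0 → ∀ μ x, X.IsW d μ x → X.IsW d (X.rc.swl l μ) (sp π ε x) := by
  let P : Equiv.Perm (Fin m) → (Fin m → ℤˣ) → Prop := fun π ε =>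
    ∃ l, ∀ d : ℤ, d ≠ 0 → ∀ μ x, X.IsW d μ x → X.IsW d (X.rc.swl l μ) (sp π ε x)
  have h1 : P 1 1 := ⟨[], fun d _ μ x h => by rw [sp_one]; exact h⟩
  have h2 : ∀ π ε π' ε', P π ε → P π' ε' → P (π' * π) (ε * ε' ∘ π) := fun π ε π' ε' ⟨l, h⟩ ⟨l', h'⟩ =>
    ⟨l ++ l', fun d hd μ x H => by rw [RC.swl_append, ← sp_sp]; exact h d hd _ _ (h' d hd _ _ H)⟩
  have h3 : ∀ b π ε, (∀ x, rfv b x = sp π ε x) → P π ε := fun b π ε h => by
    obtain ⟨l, hl⟩ := X.rc.exists_rf_eq (true, b)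
    exact ⟨l, fun d hd μ x H => by rw [← hl, ← h]; exact hX.isW_rf hd H b⟩
  have h4 : ∀ π, P π 1 := fun π => by
    induction π using Equiv.Perm.swap_induction_on with
    | one => exact h1
    | swap_mul f i j hij ih =>
      refine h2 f 1 _ 1 ih ?_
      rcases lt_or_gt_of_ne hij with h | h
      · exact h3 _ _ _ (rfv_minus h)
      · rw [Equiv.swap_comm]; exact h3 _ _ _ (rfv_minus h)
  have h5 : ∀ ε, P 1 ε := fun ε => by
    induction ε using Pi.mulSingle_induction with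
    | one => exact h1
    | mul f g hf hg => exact h2 1 f 1 g hf hg
    | mulSingle i u =>
      rcases Int.units_eq_one_or u with rfl | rfl
      · rw [Pi.mulSingle_one]; exact h1
      · exact h3 _ _ _ rfv_long
  have h6 := h2 1 ε π 1 (h5 ε) (h4 π)
  rw [mul_one] at h6
  exact (show ε * (1 : Fin m → ℤˣ) ∘ (1 : Equiv.Perm (Fin m)) = ε from mul_one ε) ▸ h6

/-- every word is a signed permutation -/
theorem swl_sp (l : List (Fin m)) :
    ∃ π ε, ∀ d : ℤ, d ≠ 0 → ∀ μ x, X.IsW d μ x → X.IsW d (X.rc.swl l μ) (sp π ε x) := by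
  induction l with
  | nil => exact ⟨1, 1, fun d _ μ x h => by rw [sp_one]; exact h⟩
  | cons i l ih =>
    obtain ⟨π, ε, h⟩ := ih
    obtain ⟨π', ε', h'⟩ := rfv_zc i
    refine ⟨π * π', ε' * ε ∘ π', fun d hd μ x H => ?_⟩
    rw [RC.swl_cons, ← RC.rf_zi, ← sp_sp π' π ε' ε, ← h']
    have h1 := hX.isW_rf hd (h d hd _ _ H) (zc i)
    rwa [← hX.zi] at h1 ⊢

variable {p : ℕ} {k L : Type} [Field k] [AddCommGroup L] [Module k L] (H : HW X.rc p k L) {d : ℤ} (hd : d ≠ 0)
include hd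

theorem ext_iff {x0 : Fin m → ℤ} (h0 : X.IsW d H.lz x0) {ν : Fin m → ℤ} :
    H.Ext ν ↔ ∃ π ε, X.IsW d ν (sp π ε x0) := by
  constructor
  · rintro ⟨l, rfl⟩
    obtain ⟨π, ε, h⟩ := hX.swl_sp l
    exact ⟨π, ε, h d hd _ _ h0⟩
  · rintro ⟨π, ε, h⟩
    obtain ⟨l, hl⟩ := hX.exists_swl π ε
    exact ⟨l, h.inj hd (hl d hd _ _ h0)⟩

theorem m_sp {μ ν x : Fin m → ℤ} (h : X.IsW d μ x) {π : Equiv.Perm (Fin m)} {ε : Fin m → ℤˣ}
    (h' : X.IsW d ν (sp π ε x)) : H.m ν = H.m μ := by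
  obtain ⟨l, hl⟩ := hX.exists_swl π ε
  rw [h'.inj hd (hl d hd _ _ h), H.m_swl]

end BC

/-! ### roots as pairs of signed indices -/

theorem exists_rt {a b : II m} (h : b ≠ a.swap) :
    ∃ y : Bool × PR m, (eC m).rx y = wv a + wv b ∧ (eC m).cx y = if a = b then wv a else wv a + wv b := by
  rw [Ne, eq_swap_iff] at h
  have h1 := ps_swap a
  have h2 := ps_swap b
  have h3 := ps_lt a
  have h4 := ps_lt b
  have d : PR m := by
    rcases a with i | i <;> exact zc i
  rcases lt_or_gt_of_ne h with h | h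
  · exact ⟨(true, mkR a b d), rv_mkR (by omega) d, cv_mkR (by omega) d⟩
  · refine ⟨(false, mkR a.swap b.swap d), ?_, ?_⟩
    · show -rv _ = _
      rw [rv_mkR (by omega), wv_swap, wv_swap]; abel
    · show -cv _ = _
      rw [cv_mkR (by omega), wv_swap, wv_swap]
      simp only [swap_inj]
      split_ifs <;> abel

theorem rt_exists (y : Bool × PR m) : ∃ a b : II m, b ≠ a.swap ∧ (eC m).rx y = wv a + wv b ∧
    (eC m).cx y = if a = b then wv a else wv a + wv b := by
  obtain ⟨_ | _, b⟩ := y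
  · refine ⟨b.1.1.swap, b.1.2.swap, fun h => b.ne (swap_inj.1 h), ?_, ?_⟩
    · show -rv b = _
      rw [rv, wv_swap, wv_swap]; abel
    · show -cv b = _
      rw [cv, wv_swap, wv_swap]
      simp only [swap_inj]
      split_ifs <;> abel
  · exact ⟨b.1.1, b.1.2, b.ne, rfl, rfl⟩

theorem isRt_C (c : Fin m → ℤ) : (eC m).rc.IsRt c ↔ ∃ a b : II m, b ≠ a.swap ∧ (eC m).E c = wv a + wv b := by
  rw [Euc.isRt_iff]
  constructor
  · rintro ⟨y, h⟩
    obtain ⟨a, b, h1, h2, -⟩ := rt_exists y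
    exact ⟨a, b, h1, h.symm.trans h2⟩
  · rintro ⟨a, b, h1, h2⟩
    obtain ⟨y, h, -⟩ := exists_rt h1
    exact ⟨y, h.trans h2.symm⟩

theorem isRt_B (c : Fin m → ℤ) : (eC m).dual.rc.IsRt c ↔
    (∃ a : II m, (eC m).dual.E c = wv a) ∨ ∃ a b : II m, b ≠ a.swap ∧ a ≠ b ∧ (eC m).dual.E c = wv a + wv b := by
  rw [Euc.isRt_iff]
  constructor
  · rintro ⟨y, h⟩
    obtain ⟨a, b, h1, -, h2⟩ := rt_exists y
    replace h2 : (eC m).dual.rx y = _ := h2
    by_cases e : a = b
    · exact Or.inl ⟨a, by rw [← h, h2, if_pos e]⟩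
    · exact Or.inr ⟨a, b, h1, e, by rw [← h, h2, if_neg e]⟩
  · rintro (⟨a, h⟩ | ⟨a, b, h1, e, h⟩)
    · obtain ⟨y, -, h2⟩ := exists_rt (swap_ne a).symm
      exact ⟨y, (h2.trans (if_pos rfl)).trans h.symm⟩
    · obtain ⟨y, -, h2⟩ := exists_rt h1
      exact ⟨y, (h2.trans (if_neg e)).trans h.symm⟩

/-! ### type `C`: weights and vectors -/

/-- the weight with coordinates `x` -/
def tw (x : Fin m → ℤ) : Fin m → ℤ := fun i => cv (zc i) ⬝ᵥ x
/-- the coordinates of a weight -/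
def ew (μ : Fin m → ℤ) : Fin m → ℤ := fun l => ∑ j ∈ Ici l, μ j

theorem isW_tw (x : Fin m → ℤ) : (eC m).IsW 1 (tw x) x := fun _ => (one_mul _).symm
theorem isW_iff {μ x : Fin m → ℤ} : (eC m).IsW 1 μ x ↔ μ = tw x :=
  ⟨fun h => h.inj one_ne_zero (isW_tw x), fun h => h ▸ isW_tw x⟩
theorem tw_inj : Function.Injective (tw (m := m)) := fun x y h => (isW_tw x).uniq (h ▸ isW_tw y)
theorem tw_add (x y : Fin m → ℤ) : tw (x + y) = tw x + tw y := funext fun _ => dotProduct_add _ _ _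
theorem tw_sub (x y : Fin m → ℤ) : tw (x - y) = tw x - tw y := funext fun _ => dotProduct_sub _ _ _
theorem tw_apply (x : Fin m → ℤ) (i : Fin m) : tw x i = if h : i.1 + 1 < m then x i - x ⟨i.1 + 1, h⟩ else x i :=
  cv_zc_dot i x

theorem ew_step (μ : Fin m → ℤ) (i : Fin m) : ew μ i = μ i + if h : i.1 + 1 < m then ew μ ⟨i.1 + 1, h⟩ else 0 := by
  rw [ew, ← Finset.Ioi_insert, sum_insert (by simp only [_root_.Finset.mem_Ioi, _root_.lt_self_iff_false, _root_.not_false_eq_true])]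
  congr 1
  split_ifs with h
  · exact sum_congr (by ext j; simp only [mem_Ioi, mem_Ici, Fin.lt_def, Fin.le_def]; omega) fun _ _ => rfl
  · exact sum_eq_zero fun j hj => by
      have := j.2
      rw [mem_Ioi, Fin.lt_def] at hj
      omega

theorem tw_ew (μ : Fin m → ℤ) : tw (ew μ) = μ := funext fun i => by
  rw [tw_apply, ew_step μ i]
  split_ifs <;> ring
theorem ew_tw (x : Fin m → ℤ) : ew (tw x) = x := tw_inj (tw_ew _)

theorem wt_C (y : Bool × PR m) : (eC m).rc.wt y = tw ((eC m).rx y) := by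
  have h := Euc.isW_wt (X := eC m) 1 y
  rwa [one_smul, isW_iff] at h
theorem wt_true (b : PR m) : (eC m).rc.wt (true, b) = tw (rv b) := wt_C _
theorem wt_false (b : PR m) : (eC m).rc.wt (false, b) = tw (-rv b) := wt_C _
theorem toWt_C (c : Fin m → ℤ) : (eC m).rc.toWt c = tw ((eC m).E c) := funext fun i => (eC m).toWt_eq c i
theorem pair_tw (x : Fin m → ℤ) (y : Bool × PR m) : (eC m).rc.pair (tw x) y = (eC m).cx y ⬝ᵥ x := by
  rw [(isW_tw x).pair, one_mul]
theorem pair_tw_true (x : Fin m → ℤ) (b : PR m) :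
    (eC m).rc.pair (tw x) (true, b) = if b.1.1 = b.1.2 then xv x b.1.1 else xv x b.1.1 + xv x b.1.2 :=
  (pair_tw x _).trans (cv_dot b x)
theorem exists_swl_tw (π : Equiv.Perm (Fin m)) (ε : Fin m → ℤˣ) : ∃ l, ∀ x, (eC m).rc.swl l (tw x) = tw (sp π ε x) :=
  (bc_C.exists_swl π ε).imp fun _ h x => isW_iff.1 (h 1 one_ne_zero _ _ (isW_tw x))
section HW

variable {p : ℕ} {k L : Type} [Field k] [AddCommGroup L] [Module k L] (H : HW (eC m).rc p k L)

/-- the coordinates of the highest weight -/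
def x0 : Fin m → ℤ := ew H.lz

theorem tw_x0 : tw (x0 H) = H.lz := tw_ew _
theorem x0_step (i : Fin m) : x0 H i = H.lam i + if h : i.1 + 1 < m then x0 H ⟨i.1 + 1, h⟩ else 0 := ew_step _ i
theorem x0_nonneg (i : Fin m) : 0 ≤ x0 H i := sum_nonneg fun j _ => H.lz_dom j
theorem x0_anti : Antitone (x0 H) := fun _ _ h =>
  sum_le_sum_of_subset_of_nonneg (Ici_subset_Ici.2 h) fun j _ _ => H.lz_dom j
theorem ext_C {ν : Fin m → ℤ} : H.Ext ν ↔ ∃ π ε, ν = tw (sp π ε (x0 H)) := by
  rw [bc_C.ext_iff H one_ne_zero (isW_iff.2 (tw_x0 H).symm)]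
  simp only [isW_iff]
theorem ext_sp (π : Equiv.Perm (Fin m)) (ε : Fin m → ℤˣ) : H.Ext (tw (sp π ε (x0 H))) := (ext_C H).2 ⟨π, ε, rfl⟩
theorem m_tw_sp (π : Equiv.Perm (Fin m)) (ε : Fin m → ℤˣ) (x : Fin m → ℤ) : H.m (tw (sp π ε x)) = H.m (tw x) :=
  bc_C.m_sp H one_ne_zero (isW_tw x) (isW_tw _)
theorem isWt_tw_sp (π : Equiv.Perm (Fin m)) (ε : Fin m → ℤˣ) (x : Fin m → ℤ) :
    H.IsWt (tw (sp π ε x)) ↔ H.IsWt (tw x) := by rw [H.isWt_iff_m, H.isWt_iff_m, m_tw_sp]

/-- the depth in coordinates -/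
theorem dep_C {x : Fin m → ℤ} (h : H.IsWt (tw x)) (l : Fin m) :
    H.dep (tw x) l * (if l.1 + 1 < m then 1 else 2) = PS l (x0 H - x) := by
  have h1 := H.dep_spec h
  rw [toWt_C, ← tw_x0, ← tw_sub] at h1
  rw [← PS_Er, show x0 H - x = (eC m).E (H.dep (tw x)) by conv_lhs => rw [tw_inj h1, sub_sub_cancel]]
  rfl

end HW

end Cfsg.Agent.TwoF.DC.TC
end

private theorem dce_cdc1be09aa11 : _root_.True := by
  try have : _root_.True := by simp only [_root_.Cfsg.Agent.TwoF.DC.TC.cv.eq_1]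
  try have : _root_.True := by simp only [_root_.Cfsg.Agent.TwoF.DC.TC.rfv.eq_1]
  try have : _root_.True := by simp only [_root_.Cfsg.Agent.TwoF.DC.TC.zc.eq_1]
  try have : _root_.True := by simp only [_root_.Cfsg.Agent.TwoF.DC.TC.wv.eq_1]
  try have : _root_.True := by simp only [_root_.Cfsg.Agent.TwoF.DC.TC.coC.eq_1]
  try have : _root_.True := by simp only [_root_.Cfsg.Agent.TwoF.DC.TC.ps.eq_2]
  try have : _root_.True := by simp only [_root_.Cfsg.Agent.TwoF.DC.TC.rI.eq_1]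
  try have : _root_.True := by simp only [_root_.Cfsg.Agent.TwoF.DC.TC.ew.eq_1]
  try have : _root_.True := by simp only [_root_.Cfsg.Agent.TwoF.DC.TC.sp.eq_1]
  try have : _root_.True := by simp only [_root_.Cfsg.Agent.TwoF.DC.TC.wv.eq_2]
  try have : _root_.True := by simp only [_root_.Cfsg.Agent.TwoF.DC.TC.PS.eq_1]
  try have : _root_.True := by simp only [_root_.Cfsg.Agent.TwoF.DC.TC.ps.eq_1]
  try have : _root_.True := by simp only [_root_.Cfsg.Agent.TwoF.DC.TC.Euc.E.eq_1]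
  try have : _root_.True := by simp only [_root_.Cfsg.Agent.TwoF.DC.TC.cfC.eq_1]
  try have : _root_.True := by simp only [_root_.Cfsg.Agent.TwoF.DC.TC.xv.eq_2]
  try have : _root_.True := by simp only [_root_.Cfsg.Agent.TwoF.DC.TC.rv.eq_1]
  try have : _root_.True := by simp only [_root_.Cfsg.Agent.TwoF.DC.TC.xv.eq_1]
  exact _root_.True.intro
end

-- part: TwoF/DC/TBD/RtD
section
prune_inst 0x7f431107d443d42020000180592d30003003c0004920040880430a007460b47d060a043a8414a201d02103a948038050060009800a0401000000a0030000006012098488202814803040e0019801083180c00000000000000000000000000051004000000000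
set_option linter.all false
open scoped Cfsg.Agent.FastGrp

/-!
# TwoF, defining characteristic, type D (1): the root system `D_m` (helper7)

Positive roots `PD m` (pairs of different signed indices), the model `eD m`, the graph symmetry `gN`, `gP`.
-/

set_option autoImplicit false
set_option linter.unusedSectionVars false

namespace Cfsg.Agent.TwoF.DC.TBD

open Finset Matrix Sum Cfsg.Agent.TwoF.DC.TC

/-- positive roots -/
abbrev PD (m : ℕ) : Type := {x : II m × II m // ps x.1 < ps x.2 ∧ ps x.1 + ps x.2 + 1 < 2 * m}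

variable {m : ℕ}

/-- roots -/
def rd (b : PD m) : Fin m → ℤ := wv b.1.1 + wv b.1.2

theorem PD.ne (b : PD m) : b.1.2 ≠ b.1.1.swap := by have := b.2; rw [Ne, eq_swap_iff]; omega
theorem PD.ne' (b : PD m) : b.1.1 ≠ b.1.2 := by have := b.2; rw [Ne, ps_eq]; omega
theorem PD.ext' {a b : PD m} (h1 : ps a.1.1 = ps b.1.1) (h2 : ps a.1.2 = ps b.1.2) : a = b :=
  Subtype.ext (Prod.ext (ps_inj h1) (ps_inj h2))
theorem PD.lt (b : PD m) : ps b.1.1 + 1 < m := by have := b.2; omega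

theorem rd_inj {a b : PD m} (h : rd a = rd b) : a = b := by
  have := a.2; have := b.2
  rcases pair_eq a.ne h with ⟨h1, h2⟩ | ⟨h1, h2⟩ <;> rw [ps_eq] at h1 h2 <;> exact PD.ext' (by omega) (by omega)

theorem rd_dot (b : PD m) (x : Fin m → ℤ) : rd b ⬝ᵥ x = xv x b.1.1 + xv x b.1.2 := by
  rw [rd, add_dotProduct, wv_dot, wv_dot]

theorem PS_rd (l : Fin m) (b : PD m) : PS l (rd b) = PS l (wv b.1.1) + PS l (wv b.1.2) := PS_add _ _ _

/-- the reflection in the root `wv a + wv b`, on signed indices -/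
def rf2 (a b x : II m) : II m :=
  if x = a then b.swap else if x = b.swap then a else if x = a.swap then b else if x = b then a.swap else x

theorem ps_swap' (a : II m) : ps a.swap = 2 * m - 1 - ps a := by have := ps_swap a; omega

theorem ps_rf2 (a b x : II m) : ps (rf2 a b x) = if ps x = ps a then 2 * m - 1 - ps b
    else if ps x = 2 * m - 1 - ps b then ps a else if ps x = 2 * m - 1 - ps a then ps b
    else if ps x = ps b then 2 * m - 1 - ps a else ps x := by
  simp only [rf2, ps_eq, apply_ite ps, ps_swap']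

theorem wv_rf2 {a b : II m} (h1 : a ≠ b) (h2 : b ≠ a.swap) (x : II m) :
    wv (rf2 a b x) = wv x - ((wv a + wv b) ⬝ᵥ wv x) • (wv a + wv b) := by
  have h3 : a ≠ b.swap := mt eq_swap_comm.1 h2
  rw [add_dotProduct, wv_dot, wv_dot, xv_wv, xv_wv, rf2]
  by_cases e1 : x = a
  · subst e1
    rw [if_pos rfl, if_pos rfl, if_neg h1.symm, if_neg h2, wv_swap, add_zero, one_smul]; abel
  rw [if_neg e1, if_neg (Ne.symm e1)]
  by_cases e2 : x = b.swap
  · subst e2
    rw [if_pos rfl, swap_swap, if_neg h1, if_neg (swap_ne b).symm, if_pos rfl, wv_swap, zero_add, neg_smul, one_smul]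
    abel
  rw [if_neg e2, if_neg (mt eq_swap_comm.1 e2)]
  by_cases e3 : x = a.swap
  · subst e3
    rw [if_pos rfl, swap_swap, if_pos rfl, if_neg h2, wv_swap, add_zero, neg_smul, one_smul]; abel
  rw [if_neg e3, if_neg (mt eq_swap_comm.1 e3)]
  by_cases e4 : x = b
  · subst e4
    rw [if_pos rfl, if_pos rfl, wv_swap, zero_add, one_smul]; abel
  · rw [if_neg e4, if_neg (Ne.symm e4), add_zero, zero_smul, sub_zero]

theorem rf2_inj {a b : II m} (h1 : a ≠ b) (h2 : b ≠ a.swap) {x y : II m} : rf2 a b x = rf2 a b y ↔ x = y := by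
  have := ps_lt x
  have := ps_lt y
  have := ps_lt a
  have := ps_lt b
  rw [Ne, ps_eq] at h1
  rw [Ne, eq_swap_iff] at h2
  simp only [ps_eq, ps_rf2]
  (first | (lia; done) | (split_ifs <;> omega))

/-- the positive root with the indices `a`, `b` -/
def mkD (a b : II m) (d : PD m) : PD m :=
  if h : ps a < ps b ∧ ps a + ps b + 1 < 2 * m then ⟨(a, b), h⟩
  else if h : ps b < ps a ∧ ps b + ps a + 1 < 2 * m then ⟨(b, a), h⟩ else d

theorem mkD_spec {a b : II m} (h0 : a ≠ b) (h : ps a + ps b + 1 < 2 * m) (d : PD m) :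
    (mkD a b d).1 = (a, b) ∨ (mkD a b d).1 = (b, a) := by
  rw [Ne, ps_eq] at h0
  unfold mkD
  split_ifs with h1 h2
  · exact Or.inl rfl
  · exact Or.inr rfl
  · (solve | (exfalso; omega) | omega)

theorem rd_mkD {a b : II m} (h0 : a ≠ b) (h : ps a + ps b + 1 < 2 * m) (d : PD m) : rd (mkD a b d) = wv a + wv b := by
  rcases mkD_spec h0 h d with h1 | h1 <;> rw [rd, h1]
  exact add_comm _ _

/-- the first index of the simple root -/
def na (i : Fin m) : II m := inl ⟨min i.1 (m - 2), by omega⟩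

theorem ps_na (i : Fin m) : ps (na i) = min i.1 (m - 2) := rfl

/-- twice the fundamental weights -/
def fw (l : Fin m) : Fin m → ℤ := fun i =>
  if l.1 + 2 < m then (if i.1 ≤ l.1 then 2 else 0) else if l.1 + 1 < m ∧ i.1 + 1 = m then -1 else 1

theorem xv_fw (l : Fin m) (a : II m) : xv (fw l) a =
    if l.1 + 2 < m then (if ps a ≤ l.1 then 2 else if 2 * m ≤ ps a + l + 1 then -2 else 0)
    else if l.1 + 1 < m ∧ ps a + 1 = m then -1 else if l.1 + 1 < m ∧ ps a = m then 1 else if ps a < m then 1 else -1 := by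
  have := l.2
  rcases a with i | i <;> have := i.2 <;> simp only [xv, fw, ps] <;> (first | (lia; done) | (split_ifs <;> omega))

/-- a root in simple roots -/
def cfD (b : PD m) (l : Fin m) : ℕ := ((rd b ⬝ᵥ fw l) / 2).toNat

theorem cfD_eq (b : PD m) (l : Fin m) : 2 * (cfD b l : ℤ) = rd b ⬝ᵥ fw l := by
  have := b.2
  have := l.2
  rw [cfD, rd_dot, xv_fw, xv_fw]
  split_ifs <;> (solve | decide | omega)

variable [hm : Fact (2 ≤ m)]

/-- the simple roots -/
def zd (i : Fin m) : PD m := ⟨(na i, nb i), by have := hm.out; have := i.2; rw [ps_nb, ps_na]; omega⟩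

/-- the last index -/
def lst (m : ℕ) [hm : Fact (2 ≤ m)] : Fin m := ⟨m - 1, by have := hm.out; omega⟩
/-- the index before the last -/
def pen (m : ℕ) [hm : Fact (2 ≤ m)] : Fin m := ⟨m - 2, by have := hm.out; omega⟩

theorem lst_val : (lst m).1 = m - 1 := rfl
theorem pen_val : (pen m).1 = m - 2 := rfl

theorem rd_zd_fw (j l : Fin m) : rd (zd j) ⬝ᵥ fw l = if j = l then 2 else 0 := by
  have := hm.out
  have := j.2
  have := l.2
  rw [rd_dot, xv_fw, xv_fw]
  simp only [zd, ps_nb, ps_na, Fin.ext_iff]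
  split_ifs <;> omega

theorem rd_zd_dot (i : Fin m) (x : Fin m → ℤ) :
    rd (zd i) ⬝ᵥ x = if h : i.1 + 1 < m then x i - x ⟨i.1 + 1, h⟩ else x (pen m) + x (lst m) := by
  have := i.2
  rw [rd_dot]
  show x _ + xv x (nb i) = _
  rw [xv_nb]
  split_ifs with h
  · rw [sub_eq_add_neg]; congr 2; exact Fin.ext (by simp only; omega)
  · congr 2 <;> exact Fin.ext (by simp only [pen_val, lst_val]; omega)

theorem eq_zero_of_zd {x : Fin m → ℤ} (h : ∀ i, rd (zd i) ⬝ᵥ x = 0) : x = 0 := by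
  have h0 := hm.out
  have h1 : ∀ (i : Fin m) (hi : i.1 + 1 < m), x i = x ⟨i.1 + 1, hi⟩ := fun i hi => by
    have := h i; rw [rd_zd_dot, dif_pos hi] at this; omega
  refine eq_zero_of_step h1 fun i hi => ?_
  have h2 := h i
  have h3 := h1 (pen m) (by rw [pen_val]; omega)
  have := i.2
  rw [rd_zd_dot, dif_neg hi] at h2
  rw [show (⟨(pen m).1 + 1, _⟩ : Fin m) = lst m from Fin.ext (by simp only [pen_val, lst_val]; omega)] at h3
  rw [show i = lst m from Fin.ext (by rw [lst_val]; omega)]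
  omega

theorem sum_dot_fw (c : Fin m → ℤ) (l : Fin m) : (∑ j, c j • rd (zd j)) ⬝ᵥ fw l = 2 * c l := by
  rw [sum_dotProduct, sum_eq_single l (fun j _ h => by rw [smul_dotProduct, rd_zd_fw, if_neg h, smul_zero]) (by simp),
    smul_dotProduct, rd_zd_fw, if_pos rfl, smul_eq_mul, mul_comm]

theorem eq_zero_of_fw {x : Fin m → ℤ} (h : ∀ l, x ⬝ᵥ fw l = 0) : x = 0 := by
  let A : Matrix (Fin m) (Fin m) ℤ := fun j => rd (zd j)
  let B : Matrix (Fin m) (Fin m) ℤ := fun i l => fw l i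
  have h1 : A * B = (2 : ℤ) • (1 : Matrix (Fin m) (Fin m) ℤ) := by
    ext j l
    rw [Matrix.smul_apply, one_apply, smul_eq_mul, mul_ite, mul_one, mul_zero, ← rd_zd_fw]; rfl
  have h2 : B.det ≠ 0 := fun e => by
    have := congrArg det h1
    rw [det_mul, e, mul_zero, det_smul, det_one, mul_one] at this
    exact pow_ne_zero _ two_ne_zero this.symm
  exact eq_zero_of_vecMul_eq_zero h2 (funext h)

theorem fw_inj {x y : Fin m → ℤ} (h : ∀ l, x ⬝ᵥ fw l = y ⬝ᵥ fw l) : x = y :=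
  sub_eq_zero.1 (eq_zero_of_fw fun l => by rw [sub_dotProduct, h, sub_self])

theorem pos_rf2 {i : Fin m} {b : PD m} (h : b ≠ zd i) :
    ps (rf2 (na i) (nb i) b.1.1) + ps (rf2 (na i) (nb i) b.1.2) + 1 < 2 * m := by
  have := hm.out
  have := i.2
  have h1 := b.2
  have h2 : ¬ (ps b.1.1 = min i.1 (m - 2) ∧ ps b.1.2 = 2 * m - 2 - i) := fun h2 =>
    h (PD.ext' h2.1 (h2.2.trans (ps_nb i).symm))
  rw [ps_rf2, ps_rf2, ps_na, ps_nb]
  split_ifs <;> omega

/-- the simple reflections -/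
def sD (i : Fin m) (b : PD m) : PD m := mkD (rf2 (na i) (nb i) b.1.1) (rf2 (na i) (nb i) b.1.2) b

theorem na_ne (i : Fin m) : na i ≠ nb i := (zd i).ne'
theorem nb_ne (i : Fin m) : nb i ≠ (na i).swap := (zd i).ne
theorem rd_zd (i : Fin m) : rd (zd i) = wv (na i) + wv (nb i) := rfl

theorem rd_sD {i : Fin m} {b : PD m} (h : b ≠ zd i) : rd (sD i b) = rd b - (rd (zd i) ⬝ᵥ rd b) • rd (zd i) := by
  rw [sD, rd_mkD (mt (rf2_inj (na_ne i) (nb_ne i)).1 b.ne') (pos_rf2 h), wv_rf2 (na_ne i) (nb_ne i),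
    wv_rf2 (na_ne i) (nb_ne i), rd.eq_1 b, dotProduct_add, add_smul, rd_zd]
  abel

theorem rd_two (b : PD m) : rd b ⬝ᵥ rd b = 2 := by
  have := b.2
  rw [rd_dot, rd, xv_add, xv_add]
  simp only [xv_wv']
  (first | (lia; done) | (split_ifs <;> omega))

theorem rd_red {b : PD m} {i : Fin m} {n : ℤ} (h : rd b = n • rd (zd i)) : b = zd i := by
  have h1 := rd_two b
  have h2 := cfD_eq b i
  rw [h, smul_dotProduct, dotProduct_smul, rd_two, smul_eq_mul, smul_eq_mul] at h1
  rw [h, smul_dotProduct, rd_zd_fw, if_pos rfl, smul_eq_mul] at h2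
  have h3 : n = 1 := by nlinarith [Int.natCast_nonneg (cfD b i)]
  rw [h3, one_smul] at h
  exact rd_inj h

theorem cfD_zd (i : Fin m) : cfD (zd i) = Pi.single i 1 := funext fun l => by
  have h := cfD_eq (zd i) l
  rw [rd_zd_fw] at h
  rw [Pi.single_apply]
  by_cases e : i = l
  · rw [if_pos e] at h; rw [if_pos e.symm]; omega
  · rw [if_neg e] at h; rw [if_neg (Ne.symm e)]; omega

theorem sum_cfD (b : PD m) : ∑ j, (cfD b j : ℤ) • rd (zd j) = rd b := fw_inj fun l => by rw [sum_dot_fw, cfD_eq]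

theorem rd_ind (c : Fin m → ℤ) (h : ∑ j, c j • rd (zd j) = 0) : c = 0 := funext fun l => by
  have h1 := sum_dot_fw c l
  rw [h, zero_dotProduct] at h1
  show c l = 0
  omega

/-- **the root system `D_m`** -/
def eD (m : ℕ) [Fact (2 ≤ m)] : Euc (Fin m) (PD m) where
  zi := zd
  rv := rd
  cv := rd
  cf := cfD
  co := cfD
  s := sD
  cf_zi := cfD_zd
  co_zi := cfD_zd
  rv_eq := sum_cfD
  cv_eq := sum_cfD
  rv_ind := rd_ind
  cv_ind := rd_ind
  rv_span _ := eq_zero_of_zd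
  cv_span _ := eq_zero_of_zd
  two := rd_two
  rv_inj _ _ := rd_inj
  cv_inj _ _ := rd_inj
  rv_red _ _ _ := rd_red
  cv_red _ _ _ := rd_red
  rv_s _ _ := rd_sD
  cv_s _ _ := rd_sD

/-! ### the graph symmetry -/

/-- the sign change of the last coordinate, on signed indices -/
def gI (x : II m) : II m := if ps x + 1 = m ∨ ps x = m then x.swap else x

omit hm in
theorem ps_gI (x : II m) : ps (gI x) = if ps x + 1 = m then m else if ps x = m then m - 1 else ps x := by
  have := ps_lt x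
  simp only [gI, apply_ite ps, ps_swap']
  (first | (lia; done) | (split_ifs <;> omega))

omit hm in
theorem gI_gI (x : II m) : gI (gI x) = x := by
  have := ps_lt x
  rw [ps_eq, ps_gI, ps_gI]
  (first | (lia; done) | (split_ifs <;> omega))

omit hm in
theorem gI_swap (x : II m) : gI x.swap = (gI x).swap := by
  have := ps_lt x
  rw [ps_eq, ps_swap', ps_gI, ps_gI, ps_swap']
  (first | (lia; done) | (split_ifs <;> omega))

/-- the sign change of the last coordinate -/
def gV (x : Fin m → ℤ) : Fin m → ℤ := fun i => if i.1 + 1 = m then -x i else x i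

omit hm in
theorem xv_gV (x : Fin m → ℤ) (a : II m) : xv (gV x) a = xv x (gI a) := by
  rw [gI, apply_ite (xv x), xv_swap]
  rcases a with i | i <;> have := i.2 <;> simp only [xv, gV, ps] <;> (first | (lia; done) | (split_ifs <;> omega))

omit hm in
theorem gV_gV (x : Fin m → ℤ) : gV (gV x) = x := ext_xv fun a => by rw [xv_gV, xv_gV, gI_gI]
omit hm in
theorem gV_add (x y : Fin m → ℤ) : gV (x + y) = gV x + gV y := ext_xv fun a => by simp only [xv_gV, xv_add]
omit hm in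
theorem gV_wv (a : II m) : gV (wv a) = wv (gI a) := ext_xv fun b => by
  have := ps_lt a
  have := ps_lt b
  rw [xv_gV, xv_wv', xv_wv', ps_gI, ps_gI]
  (first | (lia; done) | (split_ifs <;> omega))
omit hm in
theorem gV_dot (x y : Fin m → ℤ) : gV x ⬝ᵥ y = x ⬝ᵥ gV y :=
  sum_congr rfl fun i _ => by simp only [gV]; split_ifs <;> ring

/-- the graph symmetry on the positive roots -/
def gP (m : ℕ) : Equiv.Perm (PD m) :=
  Function.Involutive.toPerm (fun b => ⟨(gI b.1.1, gI b.1.2), by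
    have := b.2
    rw [ps_gI, ps_gI]
    split_ifs <;> omega⟩) fun b => Subtype.ext (Prod.ext (gI_gI _) (gI_gI _))

omit hm in
theorem gP_val (b : PD m) : (gP m b).1 = (gI b.1.1, gI b.1.2) := rfl
omit hm in
theorem gP_gP (b : PD m) : gP m (gP m b) = b := Subtype.ext (Prod.ext (gI_gI _) (gI_gI _))
omit hm in
theorem rd_gP (b : PD m) : rd (gP m b) = gV (rd b) := by rw [rd, rd, gV_add, gV_wv, gV_wv]; rfl

/-- the graph symmetry on the nodes -/
def gN (m : ℕ) [Fact (2 ≤ m)] : Equiv.Perm (Fin m) := Equiv.swap (pen m) (lst m)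

theorem gN_val (i : Fin m) : (gN m i).1 = if i.1 + 2 = m then m - 1 else if i.1 + 1 = m then m - 2 else i.1 := by
  have := hm.out
  simp only [gN, Equiv.swap_apply_def, Fin.ext_iff, apply_ite Fin.val, pen_val, lst_val]
  (first | (lia; done) | (split_ifs <;> omega))

theorem gN_gN (i : Fin m) : gN m (gN m i) = i := Equiv.swap_apply_self _ _ _
theorem gN_symm : (gN m).symm = gN m := Equiv.symm_swap _ _
theorem gN_ne_one : gN m ≠ 1 := fun h => by
  have := hm.out
  have h1 := gN_val (lst m)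
  rw [h, Equiv.Perm.one_apply, lst_val] at h1
  split_ifs at h1 <;> omega

theorem gP_zd (i : Fin m) : gP m (zd i) = zd (gN m i) := by
  have := hm.out
  have := i.2
  refine PD.ext' ?_ ?_
  · show ps (gI (na i)) = ps (na (gN m i))
    rw [ps_gI, ps_na, ps_na, gN_val]
    (first | (lia; done) | (split_ifs <;> omega))
  · show ps (gI (nb i)) = ps (nb (gN m i))
    rw [ps_gI, ps_nb, ps_nb, gN_val]
    (first | (lia; done) | (split_ifs <;> omega))

theorem gV_fw (l : Fin m) : gV (fw l) = fw (gN m l) := funext fun i => by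
  have := hm.out
  have := i.2
  have := l.2
  simp only [gV, fw, gN_val]
  (first | (lia; done) | (split_ifs <;> omega))

theorem cfD_gP (b : PD m) (i : Fin m) : cfD (gP m b) (gN m i) = cfD b i := by
  rw [cfD, cfD, rd_gP, gV_dot, gV_fw, gN_gN]

end Cfsg.Agent.TwoF.DC.TBD

private theorem dce_71a29ecfe7e8 : _root_.True := by
  try have : _root_.True := by simp only [_root_.Cfsg.Agent.TwoF.DC.TBD.gN.congr_simp]
  try have : _root_.True := by simp only [_root_.Cfsg.Agent.TwoF.DC.TBD.rf2.eq_1]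
  try have : _root_.True := by simp only [_root_.Cfsg.Agent.TwoF.DC.TBD.gI.eq_1]
  try have : _root_.True := by simp only [_root_.Cfsg.Agent.TwoF.DC.TBD.pen.congr_simp]
  try have : _root_.True := by simp only [_root_.Cfsg.Agent.TwoF.DC.TBD.sD.eq_1]
  try have : _root_.True := by simp only [_root_.Cfsg.Agent.TwoF.DC.TBD.gN.eq_1]
  try have : _root_.True := by simp only [_root_.Cfsg.Agent.TwoF.DC.TBD.fw.eq_1]
  try have : _root_.True := by simp only [_root_.Cfsg.Agent.TwoF.DC.TBD.lst.congr_simp]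
  try have : _root_.True := by simp only [_root_.Cfsg.Agent.TwoF.DC.TBD.cfD.eq_1]
  try have : _root_.True := by simp only [_root_.Cfsg.Agent.TwoF.DC.TBD.gV.eq_1]
  try have : _root_.True := by simp only [_root_.Cfsg.Agent.TwoF.DC.TBD.zd.eq_1]
  try have : _root_.True := by simp only [_root_.Cfsg.Agent.TwoF.DC.TBD.zd.congr_simp]
  try have : _root_.True := by simp only [_root_.Cfsg.Agent.TwoF.DC.TBD.rd.eq_1]
  exact _root_.True.intro
end

-- part: TwoF/DC/TC/Iface
section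
set_option linter.all false

/-!
# TwoF, defining characteristic, type C: interface of the subtasks (helper34).  Plan: `notes/TwoF/tc.md`
-/

set_option autoImplicit false
set_option linter.unusedSectionVars false

namespace Cfsg.Agent.TwoF.DC.TC

open Finset

/-- the combinatorial statements for a type without graph automorphisms -/
structure Cmb {p : ℕ} {ι Φ k G : Type} [Fintype ι] [DecidableEq ι] [Fintype Φ] [DecidableEq Φ] [Field k] [Group G]
    (D : RDat p ι Φ k G) (ok : (ι → ℕ) → Prop) : Prop where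
  faith : Faith D.R p k ok
  ct : ∀ (σ : Equiv.Perm ι) (F : Fam D σ), (∀ j, ok (F.H j).lam) → F.Top →
    ∀ S : Finset Φ, S.Nonempty → D.R.Ab p S → D.R.Idl p S → F.val S ≤ 4 * S.card → F.Good 1
  ctf : p = 2 → ∀ σ : Equiv.Perm ι, CTF D ok σ fun F => F.Good 1

/-- the last coordinate vanishes -/
def okS {m : ℕ} (l : Fin m → ℕ) : Prop := ∀ i : Fin m, ¬ i.1 + 1 < m → l i = 0
/-- all other coordinates vanish -/
def okL {m : ℕ} (l : Fin m → ℕ) : Prop := ∀ i : Fin m, i.1 + 1 < m → l i = 0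

/-- the Siegel radical `{ε_i + ε_j}` -/
def Sie (m : ℕ) : Finset (PR m) := univ.filter fun b => ps b.1.2 < m

theorem mem_Sie {m : ℕ} {b : PR m} : b ∈ Sie m ↔ ps b.1.2 < m := by simp [Sie]

/-- the Siegel lemma -/
def BoxSie : Prop :=
  ∀ (p : ℕ) [Fact p.Prime] (m : ℕ), 2 ≤ m → ∀ (k G : Type) [Field k] [CharP k p] [Group G]
    (D : RDat p (Fin m) (PR m) k G), D.R = (eC m).rc → ∀ (σ : Equiv.Perm (Fin m)) (F : Fam D σ), (∀ j, (F.H j).X) →
    F.val (Sie m) ≤ 4 * (Sie m).card → F.Good 1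

/-- type `C`, odd characteristic -/
def BoxOdd : Prop :=
  ∀ (p : ℕ) [Fact p.Prime], p ≠ 2 → ∀ (m : ℕ), 2 ≤ m → ∀ (k G : Type) [Field k] [CharP k p] [Group G]
    (D : RDat p (Fin m) (PR m) k G), D.R = (eC m).rc → Cmb D fun _ => True

/-- type `C`, characteristic two, no spin factor -/
def BoxShort : Prop :=
  ∀ (m : ℕ), 2 ≤ m → ∀ (k G : Type) [Field k] [CharP k 2] [Group G] (D : RDat 2 (Fin m) (PR m) k G),
    D.R = (eC m).rc → Cmb D okS

/-- type `B`, characteristic two, spin modules -/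
def BoxSpin : Prop :=
  ∀ (m : ℕ), 3 ≤ m → ∀ (k G : Type) [Field k] [CharP k 2] [Group G] (D : RDat 2 (Fin m) (PR m) k G),
    D.R = (eC m).dual.rc → Cmb D okL

/-- type `C`, characteristic two: dimensions, and the short root operators on the spin module -/
def BoxDim : Prop :=
  ∀ (m : ℕ), 2 ≤ m → ∀ (k L : Type) [Field k] [CharP k 2] [AddCommGroup L] [Module k L] (H : HW (eC m).rc 2 k L),
    2 * m ≤ H.d ∧ (¬ okS H.lam → 2 ^ m ≤ H.d) ∧ (¬ okS H.lam → ¬ okL H.lam → 2 * m * 2 ^ m ≤ H.d) ∧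
      (okL H.lam → ∀ x : Bool × PR m, x.2.1.1 ≠ x.2.1.2 → ∀ n, n ≠ 0 → n ≠ 2 → H.E x n = 0)

/-- `Sp_4(2^f)` -/
def BoxSp4 : Prop :=
  ∀ (F : Type) [Field F] [Fintype F] [CharP F 2], 3 ≤ Fintype.card F → Row 2 (PSp 2 F)

end Cfsg.Agent.TwoF.DC.TC

private theorem dce_720c3a57ee3f : _root_.True := by
  try have : _root_.True := by simp only [_root_.Cfsg.Agent.TwoF.DC.TC.Sie.eq_1]
  exact _root_.True.intro
end

-- part: TwoF/DC/TBD/IfB
section
set_option linter.all false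

/-!
# TwoF, defining characteristic, type B: interface (helper7).  Plan: `notes/TwoF/tbd.md`
-/

set_option autoImplicit false

namespace Cfsg.Agent.TwoF.DC.TBD

open Cfsg.Agent.TwoF.DC.TC

/-- type `B`, odd characteristic: the combinatorial statements -/
def BoxB : Prop :=
  ∀ (p : ℕ) [Fact p.Prime], p ≠ 2 → ∀ (m : ℕ), 3 ≤ m → ∀ (k G : Type) [Field k] [CharP k p] [Group G]
    (D : RDat p (Fin m) (PR m) k G), D.R = (eC m).dual.rc → Cmb D fun _ => True

end Cfsg.Agent.TwoF.DC.TBD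
end

-- part: TwoF/DC/D4/Gph
section
set_option linter.all false
open scoped Cfsg.Agent.FastGrp

/-!
# TwoF, defining characteristic: graph automorphisms, type free (helper37)

* `Ind D γ` : the node permutation `γ` is induced by an endomorphism of `G`;
* `mkTws` : the `Tws` of a group of such permutations;
* `SE`, `SE.hom` : signed embeddings of tabulated root systems and the homomorphisms of Steinberg groups.
-/

set_option autoImplicit false
set_option linter.unusedSectionVars false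
set_option linter.unusedVariables false

namespace Cfsg.Agent.TwoF.DC.D4

section ind

variable {p : ℕ} {ι Φ k G : Type} [Fintype ι] [DecidableEq ι] [Fintype Φ] [DecidableEq Φ] [Field k] [Group G]

/-- the permutation `γ` of the nodes is induced by an endomorphism -/
structure Ind (D : RDat p ι Φ k G) (γ : Equiv.Perm ι) : Prop where
  C : ∀ i j, D.R.C (γ i) (γ j) = D.R.C i j
  ht : ∀ i, D.ht (D.zi (γ i)) = D.ht (D.zi i)
  ex : ∃ α : G →* G, (∀ i t, α (D.x i t) = D.x (γ i) t) ∧ ∀ i t, α (D.y i t) = D.y (γ i) t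

variable {D : RDat p ι Φ k G} {γ γ' : Equiv.Perm ι}

theorem Ind.one : Ind D 1 := ⟨fun _ _ => rfl, fun _ => rfl, MonoidHom.id G, fun _ _ => rfl, fun _ _ => rfl⟩

theorem Ind.mul (h : Ind D γ) (h' : Ind D γ') : Ind D (γ * γ') := by
  obtain ⟨α, h1, h2⟩ := h.ex
  obtain ⟨α', h1', h2'⟩ := h'.ex
  exact ⟨fun i j => (h.C _ _).trans (h'.C i j), fun i => (h.ht _).trans (h'.ht i), α.comp α',
    fun i t => by rw [MonoidHom.comp_apply, h1', h1]; rfl, fun i t => by rw [MonoidHom.comp_apply, h2', h2]; rfl⟩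

/-- the endomorphism -/
noncomputable def Ind.al (h : Ind D γ) : G →* G := h.ex.choose

theorem Ind.al_x (h : Ind D γ) (i : ι) (t : k) : h.al (D.x i t) = D.x (γ i) t := h.ex.choose_spec.1 i t
theorem Ind.al_y (h : Ind D γ) (i : ι) (t : k) : h.al (D.y i t) = D.y (γ i) t := h.ex.choose_spec.2 i t

theorem Ind.root (h : Ind D γ) (b : Φ) : ∃ b', (∀ i, D.R.cf b' (γ i) = D.R.cf b i) ∧
    (∀ i, D.R.co b' (γ i) = D.R.co b i) ∧ ∃ ε : kˣ, ∀ t, h.al (D.z b t) = D.z b' (ε * t) := by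
  have hs : ∀ i j, (Pi.single (γ i) 1 : ι → ℕ) (γ j) = (Pi.single i 1 : ι → ℕ) j := fun i j => by
    simp [Pi.single_apply]
  induction b using D.R.desc_induction with
  | h0 i =>
    refine ⟨D.R.zi (γ i), fun j => by rw [D.R.cf_zi, D.R.cf_zi, hs], fun j => by rw [D.R.co_zi, D.R.co_zi, hs],
      1, fun t => ?_⟩
    rw [D.zi_eq, ← D.x_eq, ← D.x_eq, h.al_x, Units.val_one, one_mul]
  | h1 i b hb _ ih =>
    obtain ⟨c, h1, h2, ε, h3⟩ := ih
    have h4 := D.R.s_ne i hb
    have h5 : c ≠ D.R.zi (γ i) := by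
      rintro rfl
      exact h4 (D.R.cf_inj (funext fun j => by rw [← h1, D.R.cf_zi, D.R.cf_zi, hs]))
    refine ⟨D.R.s (γ i) c, fun j => ?_, fun j => ?_, ?_⟩
    · have h6 := D.R.cf_s i _ h4 j
      rw [D.R.s_s i hb] at h6
      have h7 := D.R.cf_s _ _ h5 (γ j)
      rw [← Equiv.sum_comp γ] at h7
      simp only [h1, h.C, γ.apply_eq_iff_eq] at h7
      exact_mod_cast h7.trans h6.symm
    · have h6 := D.R.co_s i _ h4 j
      rw [D.R.s_s i hb] at h6
      have h7 := D.R.co_s _ _ h5 (γ j)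
      rw [← Equiv.sum_comp γ] at h7
      simp only [h2, h.C, γ.apply_eq_iff_eq] at h7
      exact_mod_cast h7.trans h6.symm
    · obtain ⟨ε1, h6⟩ := D.n_z i _ (D.zi_eq ▸ h4)
      obtain ⟨ε2, h7⟩ := D.n_z (γ i) _ (D.zi_eq ▸ h5)
      refine ⟨ε2 * ε * ε1⁻¹, fun t => ?_⟩
      have h8 := congrArg h.al (h6 ((ε1⁻¹ : kˣ) * t))
      rw [D.R.s_s i hb, Units.mul_inv_cancel_left] at h8
      simp only [map_mul, h.al_x, h.al_y, h3] at h8
      rw [h7, mul_left_inj] at h8
      rw [← h8, Units.val_mul, Units.val_mul, mul_assoc, mul_assoc]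

/-- the permutation of the roots -/
noncomputable def Ind.rho (h : Ind D γ) (b : Φ) : Φ := (h.root b).choose

theorem Ind.cf_rho (h : Ind D γ) (b : Φ) (i : ι) : D.R.cf (h.rho b) (γ i) = D.R.cf b i := (h.root b).choose_spec.1 i

variable (Gr : Subgroup (Equiv.Perm ι)) (h : ∀ γ : Gr, Ind D γ)

theorem al_mul (γ γ' : Gr) : (h (γ * γ')).al = (h γ).al.comp (h γ').al :=
  D.hom_ext (fun i t => by rw [MonoidHom.comp_apply, Ind.al_x, Ind.al_x, Ind.al_x]; rfl)
    fun i t => by rw [MonoidHom.comp_apply, Ind.al_y, Ind.al_y, Ind.al_y]; rfl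

theorem al_one : (h 1).al = MonoidHom.id G := D.hom_ext (fun i t => (h 1).al_x i t) fun i t => (h 1).al_y i t

theorem rho_mul (γ γ' : Gr) (b : Φ) : (h (γ * γ')).rho b = (h γ).rho ((h γ').rho b) :=
  D.R.cf_inj (funext fun i => by
    obtain ⟨i, rfl⟩ := ((γ * γ' : Gr) : Equiv.Perm ι).surjective i
    rw [Ind.cf_rho, Subgroup.coe_mul, Equiv.Perm.mul_apply, Ind.cf_rho, Ind.cf_rho])

theorem rho_one (b : Φ) : (h 1).rho b = b := D.R.cf_inj (funext fun i => (h 1).cf_rho b i)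

/-- **the twist for a group of graph automorphisms** -/
noncomputable def mkTws (hs : Nat.card Gr ∣ 6) (σ : Gr)
    (orth : ∀ i i', (σ : Equiv.Perm ι).SameCycle i i' → i ≠ i' → D.R.C i i' = 0) (f : ℕ) (hf : 0 < f) (Fr : G →* G)
    (Fr_z : ∀ b t, Fr (D.z b t) = D.z b (t ^ p)) (Fr_y : ∀ i t, Fr (D.y i t) = D.y i (t ^ p)) : Tws D where
  f := f
  f_pos := hf
  Fr := Fr
  Fr_z := Fr_z
  Fr_y := Fr_y
  Gr := Gr
  gr :=
    { toFun := fun γ => MonoidHom.toMulEquiv (h γ).al (h γ⁻¹).al (by rw [← al_mul, inv_mul_cancel, al_one])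
        (by rw [← al_mul, mul_inv_cancel, al_one])
      map_one' := MulEquiv.ext fun g => DFunLike.congr_fun (al_one Gr h) g
      map_mul' := fun γ γ' => MulEquiv.ext fun g => DFunLike.congr_fun (al_mul Gr h γ γ') g }
  gι := Gr.subtype
  gΦ :=
    { toFun := fun γ => ⟨(h γ).rho, (h γ⁻¹).rho, fun b => by rw [← rho_mul, inv_mul_cancel, rho_one],
        fun b => by rw [← rho_mul, mul_inv_cancel, rho_one]⟩
      map_one' := Equiv.ext (rho_one Gr h)
      map_mul' := fun γ γ' => Equiv.ext (rho_mul Gr h γ γ') }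
  gι_inj := Gr.subtype_injective
  gr_x γ := (h γ).al_x
  gr_y γ := (h γ).al_y
  gr_z γ b := ((h γ).root b).choose_spec.2.2
  cf_gr γ := (h γ).cf_rho
  co_gr γ b := ((h γ).root b).choose_spec.2.1
  C_gr γ := (h γ).C
  ht_gr γ b := by
    change D.ht ((h γ).rho b) = _
    rw [D.ht_eq, D.ht_eq, ← Equiv.sum_comp (γ : Equiv.Perm ι)]
    exact Finset.sum_congr rfl fun i _ => by rw [Ind.cf_rho, (h γ).ht]
  Gr_small := hs
  σ := σ
  orth := orth

end ind

section se

open Cfsg.Lie Cfsg.Agent.ChevalleyStructure.StBasic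

/-- a signed embedding of root systems which is compatible with the tables -/
structure SE (D D' : ChevalleyDatum) (ι : ℕ → ℕ) (ε : ℕ → ℤ) : Prop where
  lt : ∀ r < D.nroots, ι r < D'.nroots
  sq : ∀ r < D.nroots, ε r * ε r = 1
  neg : ∀ r < D.nroots, D.neg r < D.nroots ∧ D'.neg (ι r) = ι (D.neg r) ∧ ε (D.neg r) = ε r
  inj : ∀ r < D.nroots, ∀ s < D.nroots, ι r = ι s → r = s
  comm : ∀ r < D.nroots, ∀ s < D.nroots, D'.commTerms (ι r) (ι s) =
    (D.commTerms r s).map fun c => (ι c.1, ε c.1 * ε r ^ c.2.2.1 * ε s ^ c.2.2.2 * c.2.1, c.2.2)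
  clt : ∀ r < D.nroots, ∀ s < D.nroots, ∀ c ∈ D.commTerms r s, c.1 < D.nroots

variable {D D' : ChevalleyDatum} {ι : ℕ → ℕ} {ε : ℕ → ℤ} (h : SE D D' ι ε) (k : Type) [Field k]

/-- the images of the generators -/
def sgen (D D' : ChevalleyDatum) (ι : ℕ → ℕ) (ε : ℕ → ℤ) (r : ℕ) (t : k) : D'.SteinbergGroup k :=
  if r < D.nroots then D'.stGen k (ι r) ((ε r : k) * t) else 1

variable {k}

theorem stn_sgn {a : ℕ} (ha : a < D'.nroots) {e : k} (he : e = 1 ∨ e = -1) {t : k} (ht : t ≠ 0) :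
    stn D' a (e * t) * stn D' a (e * -1) = sth D' a t := by
  rcases he with rfl | rfl
  · rw [one_mul, one_mul, sth_eq, stn_neg]
  · have h1 : sth D' a (-t) * (sth D' a (-1))⁻¹ = sth D' a t := by
      have h2 := sth_mul D' (K := k) (r := a) ha ht (neg_ne_zero.2 one_ne_zero)
      rw [mul_neg_one] at h2
      rw [← h2, mul_inv_cancel_right]
    rw [← h1, sth_eq, sth_eq, neg_one_mul, neg_one_mul, neg_neg, stn_neg D' a 1]
    group

include h in
theorem SE.sqk {r : ℕ} (hr : r < D.nroots) : (ε r : k) * (ε r : k) = 1 := by rw [← Int.cast_mul, h.sq r hr, Int.cast_one]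

include h in
theorem sgen_h {r : ℕ} (hr : r < D.nroots) {t : k} (ht : t ≠ 0) :
    ((D.hWord r t).map fun p => sgen k D D' ι ε p.1 p.2).prod = sth D' (ι r) t := by
  have h0 := h.sqk (k := k) hr
  have h1 : ∀ a : k, (ε r : k) * -a⁻¹ = -((ε r : k) * a)⁻¹ := fun a => by
    rw [mul_inv, ← eq_inv_of_mul_eq_one_left h0, mul_neg]
  rw [← stn_sgn (h.lt r hr) (mul_self_eq_one_iff.mp h0) ht, stn_eq, stn_eq, (h.neg r hr).2.1, ← h1, ← h1]
  simp only [ChevalleyDatum.hWord, ChevalleyDatum.nWord, List.map_append, List.map_cons, List.map_nil, List.prod_append,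
    List.prod_cons, List.prod_nil, sgen, if_pos hr, if_pos (h.neg r hr).1, (h.neg r hr).2.2, mul_one, mul_assoc]

variable (k)

/-- the homomorphism of Steinberg groups -/
noncomputable def SE.hom : D.SteinbergGroup k →* D'.SteinbergGroup k :=
  lift D (sgen k D D' ι ε) (fun _ _ hr => if_neg hr)
    (fun r t₁ t₂ hr => by simp only [sgen, if_pos hr, stGen_mul, mul_add])
    (fun r s t u hr hs hne hneg => by
      simp only [sgen, if_pos hr, if_pos hs]
      rw [stGen_comm D' (h.lt r hr) (h.lt s hs) (fun e => hne (h.inj s hs r hr e))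
        (fun e => hneg (h.inj s hs _ (h.neg r hr).1 (e.trans (h.neg r hr).2.1))),
        ← MonoidHom.id_apply (D'.SteinbergGroup k) (wd D' _), map_wd]
      unfold ChevalleyDatum.commWord
      rw [h.comm r hr s hs, List.map_map, List.map_map, List.map_map]
      refine congrArg List.prod (List.map_congr_left fun c hc => ?_)
      simp only [Function.comp_apply, MonoidHom.id_apply, if_pos (h.clt r hr s hs c hc)]
      congr 1
      have e1 : (ε r : k) ^ c.2.2.1 * (ε r : k) ^ c.2.2.1 = 1 := by rw [← mul_pow, h.sqk hr, one_pow]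
      have e2 : (ε s : k) ^ c.2.2.2 * (ε s : k) ^ c.2.2.2 = 1 := by rw [← mul_pow, h.sqk hs, one_pow]
      push_cast
      rw [← mul_neg, mul_pow, mul_pow]
      linear_combination (ε c.1 * c.2.1 * (-t) ^ c.2.2.1 * u ^ c.2.2.2 *
        ((ε s : k) ^ c.2.2.2 * (ε s : k) ^ c.2.2.2)) * e1 + (ε c.1 * c.2.1 * (-t) ^ c.2.2.1 * u ^ c.2.2.2) * e2)
    fun r t₁ t₂ hr h₁ h₂ => by
      rw [sgen_h h hr h₁, sgen_h h hr h₂, sgen_h h hr (mul_ne_zero h₁ h₂), sth_mul D' (h.lt r hr) h₁ h₂]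

theorem SE.hom_gen {r : ℕ} (hr : r < D.nroots) (t : k) : h.hom k (D.stGen k r t) = D'.stGen k (ι r) ((ε r : k) * t) :=
  (lift_stGen _ _ _ _ _ _ _ _).trans (if_pos hr)

end se

end Cfsg.Agent.TwoF.DC.D4

private theorem dce_7edc1af7bab7 : _root_.True := by
  try have : _root_.True := by simp only [_root_.Cfsg.Agent.TwoF.DC.D4.Ind.al.congr_simp]
  try have : _root_.True := by simp only [_root_.Cfsg.Agent.TwoF.DC.D4.sgen.eq_1]
  exact _root_.True.intro
end

-- part: TwoF/DC/TE/Cmb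
section
prune_inst 0x7f431304d403d42020000180512d20023043c00050000000804b8a00d060b07d2228043a0414e001d001012808018050020009800a0400000000000000000040120986ad20003640104260019803006400000000000000000000000000000051000000000000
set_option linter.all false
open scoped Cfsg.Agent.FastGrp

-- part: TwoF/DC/TE/Chk
section
/-!
# TwoF, defining characteristic, exceptional types (1): a certificate checker for simply laced root systems (helper37)

A table of the positive roots (`chkR`), tables of weights in a Weyl orbit (`chkW`), an enumeration of all abelian ideals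
as bit masks (`enum`).
-/

set_option autoImplicit false
set_option linter.unusedSectionVars false
set_option linter.unusedVariables false

namespace Cfsg.Agent.TwoF.DC.TE

open Module

/-! ### small integers (cheap to elaborate) -/

/-- `0` -/
def p0 : ℤ := Int.ofNat (nat_lit 0)
/-- `1` -/
def p1 : ℤ := Int.ofNat (nat_lit 1)
/-- `2` -/
def p2 : ℤ := Int.ofNat (nat_lit 2)
/-- `3` -/
def p3 : ℤ := Int.ofNat (nat_lit 3)
/-- `4` -/
def p4 : ℤ := Int.ofNat (nat_lit 4)
/-- `5` -/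
def p5 : ℤ := Int.ofNat (nat_lit 5)
/-- `6` -/
def p6 : ℤ := Int.ofNat (nat_lit 6)
/-- `-1` -/
def m1 : ℤ := Int.negSucc (nat_lit 0)
/-- `-2` -/
def m2 : ℤ := Int.negSucc (nat_lit 1)
/-- `-3` -/
def m3 : ℤ := Int.negSucc (nat_lit 2)
/-- `-4` -/
def m4 : ℤ := Int.negSucc (nat_lit 3)
/-- `-5` -/
def m5 : ℤ := Int.negSucc (nat_lit 4)
/-- `-6` -/
def m6 : ℤ := Int.negSucc (nat_lit 5)
/-! ### lists as vectors -/

/-- a coordinate -/
def gz (v : List ℤ) (i : ℕ) : ℤ := v.getD i 0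

/-- a list as a vector -/
def tv (l : ℕ) (v : List ℤ) : Fin l → ℤ := fun i => gz v i

/-- the scalar product -/
def dot : List ℤ → List ℤ → ℤ
  | a :: v, b :: w => a * b + dot v w
  | _, _ => 0

/-- `v - c • w` -/
def lin (c : ℤ) : List ℤ → List ℤ → List ℤ
  | a :: v, b :: w => (a - c * b) :: lin c v w
  | _, _ => []

/-- the unit vector -/
def uv : ℕ → ℕ → List ℤ
  | 0, _ => []
  | l + 1, 0 => 1 :: List.replicate l 0
  | l + 1, i + 1 => 0 :: uv l i

/-- negative -/
def isNeg : ℤ → Bool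
  | Int.negSucc _ => true
  | _ => false

theorem isNeg_iff {a : ℤ} : isNeg a = true ↔ a < 0 := by
  cases a with
  | ofNat n => simp only [isNeg, _root_.Bool.false_eq_true, _root_.Int.ofNat_eq_natCast, _root_.false_iff, _root_.not_lt, _root_.Nat.cast_nonneg]
  | negSucc n => simp [isNeg, Int.negSucc_lt_zero]

theorem gz_nil (i : ℕ) : gz [] i = 0 := by simp [gz]
theorem gz_zero (a : ℤ) (v : List ℤ) : gz (a :: v) 0 = a := by simp [gz]
theorem gz_succ (a : ℤ) (v : List ℤ) (i : ℕ) : gz (a :: v) (i + 1) = gz v i := by simp [gz]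

theorem dot_nil_left (w : List ℤ) : dot [] w = 0 := by cases w <;> rfl
theorem dot_nil_right (v : List ℤ) : dot v [] = 0 := by cases v <;> rfl
theorem dot_cons (a b : ℤ) (v w : List ℤ) : dot (a :: v) (b :: w) = a * b + dot v w := rfl

theorem dot_eq (l : ℕ) (v w : List ℤ) (h : w.length ≤ l) : dot v w = ∑ i : Fin l, gz v i * gz w i := by
  induction l generalizing v w with
  | zero => rw [List.length_eq_zero_iff.mp (Nat.le_zero.mp h), dot_nil_right]; rfl
  | succ l ih =>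
    cases v with
    | nil => simp [dot_nil_left, gz_nil]
    | cons a v =>
      cases w with
      | nil => simp [dot_nil_right, gz_nil]
      | cons b w =>
        rw [dot_cons, Fin.sum_univ_succ, ih v w (by simpa using h)]
        simp only [gz_zero, gz_succ, _root_.Fin.coe_ofNat_eq_mod, _root_.Nat.zero_mod, _root_.Fin.val_succ]

theorem gz_lin (c : ℤ) (v w : List ℤ) (h : v.length = w.length) (i : ℕ) : gz (lin c v w) i = gz v i - c * gz w i := by
  induction v generalizing w i with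
  | nil =>
    cases w with
    | nil => simp [lin, gz_nil]
    | cons b w => simp at h
  | cons a v ih =>
    cases w with
    | nil => simp at h
    | cons b w =>
      cases i with
      | zero => simp only [lin, gz_zero]
      | succ i => simp only [lin, gz_succ]; exact ih w (by simpa using h) i

theorem tv_lin (l : ℕ) (c : ℤ) (v w : List ℤ) (h : v.length = w.length) : tv l (lin c v w) = tv l v - c • tv l w :=
  funext fun i => by simp [tv, gz_lin c v w h]

theorem length_uv (l i : ℕ) : (uv l i).length = l := by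
  induction l generalizing i with
  | zero => rfl
  | succ l ih => cases i <;> simp [uv, ih]

theorem gz_uv (l i j : ℕ) (hj : j < l) : gz (uv l i) j = if j = i then 1 else 0 := by
  induction l generalizing i j with
  | zero => omega
  | succ l ih =>
    cases i with
    | zero =>
      cases j with
      | zero => simp [uv, gz_zero]
      | succ j => simp only [uv, gz, List.getElem?_replicate, _root_.List.getD_eq_getElem?_getD, _root_.List.getElem?_cons_succ, _root_.Nat.add_eq_zero_iff, _root_.one_ne_zero, _root_.and_false, ↓ _root_.reduceIte]; split <;> rfl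
    | succ i =>
      cases j with
      | zero => simp [uv, gz_zero]
      | succ j => simp only [uv, gz_succ, ih i j (by omega), Nat.add_right_cancel_iff]

theorem tv_uv {l : ℕ} (i : Fin l) : tv l (uv l i) = Pi.single i 1 :=
  funext fun j => by simp [tv, gz_uv l i j j.2, Pi.single_apply, Fin.ext_iff]

theorem tv_inj {l : ℕ} {v w : List ℤ} (hv : v.length = l) (hw : w.length = l) (h : tv l v = tv l w) : v = w := by
  refine List.ext_getElem (hv.trans hw.symm) fun i h1 h2 => ?_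
  have := congrFun h ⟨i, hv ▸ h1⟩
  simpa [tv, gz, List.getD_eq_getElem?_getD, List.getElem?_eq_getElem h1, List.getElem?_eq_getElem h2] using this

theorem gz_map (cm : List (List ℤ)) (v : List ℤ) (i : ℕ) :
    gz (cm.map fun r => dot r v) i = dot (cm.getD i []) v := by
  induction cm generalizing i with
  | nil => simp [gz_nil, dot_nil_left]
  | cons r cm ih =>
    cases i with
    | zero => simp [gz_zero]
    | succ i => simpa only [gz_succ, _root_.List.map_cons, _root_.List.getD_eq_getElem?_getD, _root_.List.getElem?_cons_succ] using ih i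

/-! ### bit masks -/

/-- all entries at the set bits of the mask satisfy `P` -/
def allBits {α : Type} (P : α → Bool) : List α → ℕ → Bool
  | [], _ => true
  | r :: T, m => m.beq 0 || (((m % 2).beq 0 || P r) && allBits P T (m / 2))

theorem allBits_sound {α : Type} {P : α → Bool} {T : List α} {m : ℕ} (h : allBits P T m = true) {n : ℕ} {e : α}
    (he : T[n]? = some e) (hb : m.testBit n = true) : P e = true := by
  induction T generalizing m n with
  | nil => simp at he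
  | cons r T ih =>
    simp only [allBits, Bool.or_eq_true, Bool.and_eq_true, Nat.beq_eq] at h
    rcases h with h | ⟨h1, h2⟩
    · rw [h, Nat.zero_testBit] at hb; exact absurd hb (by simp)
    cases n with
    | zero =>
      obtain rfl : r = e := by simpa using he
      rw [Nat.testBit_zero, decide_eq_true_eq] at hb
      exact h1.resolve_left (by omega)
    | succ n => exact ih h2 (by simpa only [_root_.List.getElem?_cons_succ] using he) (by rwa [Nat.testBit_succ] at hb)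

/-- entries of the root table: root, root as a weight, mask of the roots above, mask of roots with obtuse angle -/
abbrev RE : Type := List ℤ × List ℤ × ℕ × ℕ

/-- enumeration of all sets which are closed under the masks -/
def enum (P : ℕ → ℕ → Bool) : List RE → ℕ → ℕ → ℕ → Bool
  | [], _, I, n => P I n
  | e :: T, k, I, n => enum P T (k + 1) I n &&
      (!((e.2.2.1 &&& I).beq e.2.2.1 && (e.2.2.2 &&& I).beq 0) || enum P T (k + 1) (I ||| 2 ^ k) (n + 1))

theorem enum_sound {P : ℕ → ℕ → Bool} (S : Finset ℕ) {T : List RE} {k I n : ℕ} (h : enum P T k I n = true)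
    (hI : ∀ m, I.testBit m = true ↔ m ∈ S ∧ m < k) (hn : n = (S.filter (· < k)).card)
    (hS : ∀ m ∈ S, m < k + T.length)
    (hT : ∀ m e, T[m]? = some e → k + m ∈ S → (∀ a, e.2.2.1.testBit a = true → a ∈ S ∧ a < k + m) ∧
      ∀ a, e.2.2.2.testBit a = true → a ∉ S) :
    ∃ I, (∀ m, I.testBit m = true ↔ m ∈ S) ∧ P I S.card = true := by
  induction T generalizing k I n with
  | nil =>
    refine ⟨I, fun m => (hI m).trans ⟨fun h => h.1, fun h => ⟨h, by simpa using hS m h⟩⟩, ?_⟩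
    rw [Finset.filter_true_of_mem fun m hm => by simpa using hS m hm] at hn
    rw [← hn]; exact h
  | cons e T ih =>
    simp only [enum, Bool.and_eq_true, Bool.or_eq_true, Bool.not_eq_true', Bool.and_eq_false_iff] at h
    have hS' : ∀ m ∈ S, m < k + 1 + T.length := fun m hm => by have := hS m hm; simp at this; omega
    have hT' : ∀ m e, T[m]? = some e → k + 1 + m ∈ S → (∀ a, e.2.2.1.testBit a = true → a ∈ S ∧ a < k + 1 + m) ∧
        ∀ a, e.2.2.2.testBit a = true → a ∉ S := fun m e he hm => by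
      have := hT (m + 1) e (by simpa only [_root_.List.getElem?_cons_succ] using he) (by rwa [add_comm m, ← add_assoc])
      rwa [add_comm m, ← add_assoc] at this
    by_cases hk : k ∈ S
    · obtain ⟨h1, h2⟩ := hT 0 e (by simp) hk
      have h3 : (e.2.2.1 &&& I).beq e.2.2.1 = true := by
        rw [Nat.beq_eq]
        refine Nat.eq_of_testBit_eq fun a => ?_
        rw [Nat.testBit_and]
        cases ha : e.2.2.1.testBit a with
        | false => rfl
        | true => rw [(hI a).mpr (h1 a ha)]; rfl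
      have h4 : (e.2.2.2 &&& I).beq 0 = true := by
        rw [Nat.beq_eq]
        refine Nat.eq_of_testBit_eq fun a => ?_
        rw [Nat.testBit_and, Nat.zero_testBit]
        cases ha : e.2.2.2.testBit a with
        | false => rfl
        | true =>
          cases hb : I.testBit a with
          | false => rfl
          | true => exact absurd ((hI a).mp hb).1 (h2 a ha)
      have h5 := h.2.resolve_left (by rw [h3, h4]; simp)
      refine ih h5 (fun m => ?_) ?_ hS' hT'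
      · rw [Nat.testBit_or, Bool.or_eq_true, hI, Nat.testBit_two_pow, decide_eq_true_eq]
        constructor
        · rintro (h6 | rfl)
          · exact ⟨h6.1, by omega⟩
          · exact ⟨hk, by omega⟩
        · rintro ⟨h6, h7⟩
          by_cases h8 : k = m
          · exact Or.inr h8
          · exact Or.inl ⟨h6, by omega⟩
      · rw [hn, show S.filter (· < k + 1) = insert k (S.filter (· < k)) from ?_,
          Finset.card_insert_of_notMem (by simp)]
        ext m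
        simp only [Finset.mem_filter, Finset.mem_insert]
        constructor
        · rintro ⟨h6, h7⟩
          by_cases h8 : m = k
          · exact Or.inl h8
          · exact Or.inr ⟨h6, by omega⟩
        · rintro (rfl | h6)
          · exact ⟨hk, by omega⟩
          · exact ⟨h6.1, by omega⟩
    · have h9 : ∀ m, m ∈ S ∧ m < k ↔ m ∈ S ∧ m < k + 1 := fun m =>
        ⟨fun h => ⟨h.1, by omega⟩, fun h => ⟨h.1, by
          have : m ≠ k := fun e => hk (e ▸ h.1)
          omega⟩⟩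
      refine ih h.1 (fun m => (hI m).trans (h9 m)) ?_ hS' hT'
      rw [hn]; congr 1; ext m; simp only [Finset.mem_filter]; exact h9 m

/-! ### the root table -/

/-- the check of the root table, entry by entry -/
def chkRa (l : ℕ) (cm : List (List ℤ)) (F : List RE) : List RE → ℕ → Bool
  | [], _ => true
  | e :: T, k => e.1.length.beq l && (e.2.1 == cm.map fun r => dot r e.1) && e.1.all (fun a => !isNeg a) &&
      (List.range l).all (fun i => !isNeg (gz e.2.1 i) || F.any fun e' => e'.1 == lin (gz e.2.1 i) e.1 (uv l i)) &&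
      (List.range l).any (fun i => e.1 == uv l i || (isNeg (-gz e.2.1 i) &&
        T.any fun e' => e'.1 == lin (gz e.2.1 i) e.1 (uv l i))) &&
      !(T.any fun e' => e'.1 == e.1) && e.2.2.1.blt (2 ^ k) &&
      allBits (fun e' : RE => (List.range l).any fun i => e'.1 == lin (-1) e.1 (uv l i)) F e.2.2.1 &&
      allBits (fun e' : RE => isNeg (dot e'.1 e.2.1)) F e.2.2.2 && chkRa l cm F T (k + 1)

/-- the check of the root table -/
def chkR (l : ℕ) (cm : List (List ℤ)) (F : List RE) : Bool :=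
  cm.length.beq l && (List.range l).all (fun i => F.any fun e => e.1 == uv l i) && chkRa l cm F F 0

/-- what the check says about one entry -/
structure Ent (l : ℕ) (cm : List (List ℤ)) (F : List RE) (e : RE) (T : List RE) (k : ℕ) : Prop where
  len : e.1.length = l
  wt : e.2.1 = cm.map fun r => dot r e.1
  nn : ∀ a ∈ e.1, 0 ≤ a
  cl : ∀ i < l, gz e.2.1 i < 0 → ∃ e' ∈ F, e'.1 = lin (gz e.2.1 i) e.1 (uv l i)
  re : ∃ i < l, e.1 = uv l i ∨ ∃ e' ∈ T, e'.1 = lin (gz e.2.1 i) e.1 (uv l i)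
  nd : ∀ e' ∈ T, e'.1 ≠ e.1
  lt : e.2.2.1 < 2 ^ k
  up : allBits (fun e' : RE => (List.range l).any fun i => e'.1 == lin (-1) e.1 (uv l i)) F e.2.2.1 = true
  nab : allBits (fun e' : RE => isNeg (dot e'.1 e.2.1)) F e.2.2.2 = true

theorem chkRa_cons {l : ℕ} {cm : List (List ℤ)} {F : List RE} {e : RE} {T : List RE} {k : ℕ}
    (h : chkRa l cm F (e :: T) k = true) : Ent l cm F e T k ∧ chkRa l cm F T (k + 1) = true := by
  simp only [chkRa, Bool.and_eq_true] at h
  obtain ⟨⟨⟨⟨⟨⟨⟨⟨⟨h1, h2⟩, h3⟩, h4⟩, h5⟩, h6⟩, h7⟩, h8⟩, h9⟩, h10⟩ := h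
  refine ⟨⟨Nat.beq_eq.mp h1, eq_of_beq h2, fun a ha => ?_, fun i hi hn => ?_, ?_, fun e' he' h => ?_,
    Nat.blt_eq.mp h7, h8, h9⟩, h10⟩
  · have := List.all_eq_true.mp h3 a ha
    rw [Bool.not_eq_true', ← Bool.not_eq_true, isNeg_iff] at this
    omega
  · have := List.all_eq_true.mp h4 i (List.mem_range.mpr hi)
    rw [isNeg_iff.mpr hn] at this
    obtain ⟨e', he', h⟩ := List.any_eq_true.mp (by simpa only [Bool.not_true, Bool.false_or] using this)
    exact ⟨e', he', eq_of_beq h⟩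
  · obtain ⟨i, hi, h⟩ := List.any_eq_true.mp h5
    refine ⟨i, List.mem_range.mp hi, ?_⟩
    rw [Bool.or_eq_true, Bool.and_eq_true] at h
    rcases h with h | h
    · exact Or.inl (eq_of_beq h)
    · obtain ⟨e', he', h⟩ := List.any_eq_true.mp h.2
      exact Or.inr ⟨e', he', eq_of_beq h⟩
  · rw [Bool.not_eq_true', ← Bool.not_eq_true, List.any_eq_true] at h6
    exact h6 ⟨e', he', by rw [h]; exact beq_self_eq_true _⟩

theorem chkRa_get {l : ℕ} {cm : List (List ℤ)} {F T : List RE} {k : ℕ} (h : chkRa l cm F T k = true) {m : ℕ} {e : RE}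
    (he : T[m]? = some e) : Ent l cm F e (T.drop (m + 1)) (k + m) := by
  induction T generalizing k m with
  | nil => simp at he
  | cons e' T ih =>
    obtain ⟨h1, h2⟩ := chkRa_cons h
    cases m with
    | zero => obtain rfl : e' = e := by simpa using he
              exact h1
    | succ m =>
      have := ih h2 (m := m) (by simpa only [_root_.List.getElem?_cons_succ] using he)
      rwa [add_assoc, add_comm 1 m] at this

/-- the root system `R` is simply laced with Cartan matrix `cm` and root table `F` -/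
structure Tb {l : ℕ} {Φ : Type} [DecidableEq Φ] (R : RC (Fin l) Φ) (cm : List (List ℤ)) (F : List RE) : Prop where
  hC : ∀ i j : Fin l, R.C i j = gz (cm.getD i []) j
  sym : ∀ i j, R.C i j = R.C j i
  chk : chkR l cm F = true

section sym

variable {ι Φ : Type} [Fintype ι] [DecidableEq ι] [Fintype Φ] [DecidableEq Φ] {R : RC ι Φ}
  (hs : ∀ i j, R.C i j = R.C j i)
include hs

theorem co_eq (b : Φ) : R.co b = R.cf b := by
  refine R.desc_induction (P := fun b => R.co b = R.cf b) (fun i => by rw [R.co_zi, R.cf_zi]) (fun i b hb _ h => ?_) b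
  funext j
  have h1 := R.cf_s i _ (R.s_ne i hb) j
  have h2 := R.co_s i _ (R.s_ne i hb) j
  rw [R.s_s i hb] at h1 h2
  rw [h] at h2
  have h3 : ∑ l, (R.cf (R.s i b) l : ℤ) * R.C l i = ∑ l, R.C i l * R.cf (R.s i b) l :=
    Finset.sum_congr rfl fun l _ => by rw [hs l i, mul_comm]
  rw [h3, ← h1] at h2
  exact_mod_cast h2

theorem cov_eq (x : Bool × Φ) : R.cov x = R.vec x := funext fun j => by simp [RC.cov, RC.vec, co_eq hs]

theorem pair_comm (x y : Bool × Φ) : R.pair (R.wt x) y = R.pair (R.wt y) x := by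
  simp only [RC.pair, cov_eq hs, RC.wt, RC.toWt, Finset.mul_sum]
  rw [Finset.sum_comm]
  exact Finset.sum_congr rfl fun i _ => Finset.sum_congr rfl fun j _ => by rw [hs j i]; ring

theorem lace1 : R.Lace1 := fun x y hxy => by
  by_cases h : x = ng y
  · rw [h, R.wt_ng, R.pair_neg, R.pair_wt_self]; omega
  · have h1 := R.pair_mul_lt hxy h
    rw [pair_comm hs y x] at h1
    nlinarith only [h1]

end sym

theorem conn_of_par {l : ℕ} {Φ : Type} [DecidableEq Φ] {R : RC (Fin l) Φ} (hs : ∀ i j, R.C i j = R.C j i) (o : Fin l)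
    (rk : Fin l → ℕ) (h : ∀ i, i = o ∨ ∃ j, rk j < rk i ∧ R.C i j ≠ 0) : R.Conn := by
  have h1 : ∀ n i, rk i = n → Relation.ReflTransGen (fun a b => R.C a b ≠ 0) i o ∧
      Relation.ReflTransGen (fun a b => R.C a b ≠ 0) o i := fun n => by
    induction n using Nat.strong_induction_on with
    | _ n ih =>
      intro i hi
      rcases h i with rfl | ⟨j, h2, h3⟩
      · exact ⟨Relation.ReflTransGen.refl, Relation.ReflTransGen.refl⟩
      · obtain ⟨h4, h5⟩ := ih _ (hi ▸ h2) j rfl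
        exact ⟨Relation.ReflTransGen.head h3 h4, h5.tail (by rwa [hs])⟩
  exact fun i j => (h1 _ i rfl).1.trans (h1 _ j rfl).2

namespace Tb

variable {l : ℕ} {Φ : Type} [Fintype Φ] [DecidableEq Φ] {R : RC (Fin l) Φ} {cm : List (List ℤ)} {F : List RE}
  (h : Tb R cm F)
include h

theorem chk' : cm.length = l ∧ (∀ i < l, ∃ e ∈ F, e.1 = uv l i) ∧ chkRa l cm F F 0 = true := by
  have h1 := h.chk
  simp only [chkR, Bool.and_eq_true] at h1
  refine ⟨Nat.beq_eq.mp h1.1.1, fun i hi => ?_, h1.2⟩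
  obtain ⟨e, he, h2⟩ := List.any_eq_true.mp (List.all_eq_true.mp h1.1.2 i (List.mem_range.mpr hi))
  exact ⟨e, he, eq_of_beq h2⟩

theorem ent {m : ℕ} {e : RE} (he : F[m]? = some e) : Ent l cm F e (F.drop (m + 1)) m := by
  have := chkRa_get h.chk'.2.2 he
  rwa [zero_add] at this

theorem ent' {e : RE} (he : e ∈ F) : ∃ m, F[m]? = some e ∧ Ent l cm F e (F.drop (m + 1)) m := by
  obtain ⟨m, hm⟩ := List.mem_iff_getElem?.mp he
  exact ⟨m, hm, h.ent hm⟩

theorem len {e : RE} (he : e ∈ F) : e.1.length = l := by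
  obtain ⟨m, _, hm⟩ := h.ent' he
  exact hm.len

theorem len_wt {e : RE} (he : e ∈ F) : e.2.1.length = l := by
  obtain ⟨m, _, hm⟩ := h.ent' he
  rw [hm.wt, List.length_map, h.chk'.1]

theorem toWt_tv {v : List ℤ} (hv : v.length ≤ l) : R.toWt (tv l v) = tv l (cm.map fun r => dot r v) := funext fun i => by
  rw [tv, gz_map, dot_eq l _ _ hv, RC.toWt]
  exact Finset.sum_congr rfl fun j _ => by rw [h.hC]; rfl

theorem toWt_ent {e : RE} (he : e ∈ F) : R.toWt (tv l e.1) = tv l e.2.1 := by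
  obtain ⟨m, _, hm⟩ := h.ent' he
  rw [h.toWt_tv hm.len.le, hm.wt]

theorem sv_ent {e : RE} (he : e ∈ F) (i : Fin l) : R.sv i (tv l e.1) = tv l (lin (gz e.2.1 i) e.1 (uv l i)) := by
  rw [tv_lin _ _ _ _ (by rw [length_uv, h.len he]), tv_uv, RC.sv, h.toWt_ent he]; rfl

/-- every positive root is in the table -/
theorem mem (b : Φ) : ∃ e ∈ F, tv l e.1 = R.vec (true, b) := by
  refine R.desc_induction (P := fun b => ∃ e ∈ F, tv l e.1 = R.vec (true, b)) (fun i => ?_) (fun i b hb h0 h1 => ?_) b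
  · obtain ⟨e, he, h2⟩ := h.chk'.2.1 i i.2
    exact ⟨e, he, by rw [h2, tv_uv, R.vec_zi]⟩
  · obtain ⟨e, he, h2⟩ := h1
    obtain ⟨m, _, hm⟩ := h.ent' he
    have h3 : R.vec (true, R.s i b) = R.sv i (R.vec (true, b)) := by rw [← R.vec_sr, R.sr_of_ne i true hb]
    have h4 : gz e.2.1 i < 0 := by
      have h5 := congrFun (h.toWt_ent he) i
      rw [h2, h3, R.toWt_sv, R.sw_self] at h5
      change _ = gz e.2.1 i at h5
      rw [← h5]
      change -R.wt (true, b) i < 0
      omega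
    obtain ⟨e', he', h6⟩ := hm.cl i i.2 h4
    exact ⟨e', he', by rw [h6, ← h.sv_ent he, h2, h3, R.sv_sv]⟩

/-- every entry of the table is a positive root -/
theorem real {e : RE} (he : e ∈ F) : ∃ b, tv l e.1 = R.vec (true, b) := by
  have key : ∀ n m e, F.length - m = n → F[m]? = some e → R.IsRt (tv l e.1) := fun n => by
    induction n using Nat.strong_induction_on with
    | _ n ih =>
      intro m e hn he
      have he0 : e ∈ F := List.mem_iff_getElem?.mpr ⟨m, he⟩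
      obtain ⟨i, hi, h1 | ⟨e', he', h1⟩⟩ := (h.ent he).re
      · rw [h1, tv_uv (⟨i, hi⟩ : Fin l), ← R.vec_zi]; exact R.isRt_vec _
      · obtain ⟨m', hm'⟩ := List.mem_iff_getElem?.mp he'
        rw [List.getElem?_drop] at hm'
        have h2 := (List.getElem?_eq_some_iff.mp hm').1
        have h3 := ih _ (by omega) _ e' rfl hm'
        rwa [h1, ← h.sv_ent he0 ⟨i, hi⟩, R.isRt_sv] at h3
  obtain ⟨m, hm, h1⟩ := h.ent' he
  obtain ⟨x, hx⟩ := key _ m e rfl hm
  have h2 : x.1 = true := R.pos_of_vec_ge fun j => by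
    rw [hx, tv, gz, List.getD_eq_getElem?_getD]
    cases h3 : e.1[(j : ℕ)]? with
    | none => exact le_rfl
    | some a => exact h1.nn a (List.mem_of_getElem? h3)
  exact ⟨x.2, by rw [← hx, ← h2]⟩

theorem idx_unique {m m' : ℕ} {e e' : RE} (he : F[m]? = some e) (he' : F[m']? = some e') (h1 : tv l e.1 = tv l e'.1) :
    m = m' := by
  have h2 := tv_inj (h.ent he).len (h.ent he').len h1
  have key : ∀ {m m' : ℕ} {e e' : RE}, F[m]? = some e → F[m']? = some e' → e.1 = e'.1 → ¬ m < m' :=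
    fun {m m' e e'} he he' h2 h3 => (h.ent he).nd e' (List.mem_iff_getElem?.mpr ⟨m' - (m + 1), by
      rw [List.getElem?_drop, show m + 1 + (m' - (m + 1)) = m' by omega, he']⟩) h2.symm
  have := key he he' h2
  have := key he' he h2.symm
  omega

theorem exists_ix : ∃ ix : Φ → ℕ, Function.Injective ix ∧ (∀ b, ∃ e, F[ix b]? = some e ∧ tv l e.1 = R.vec (true, b)) ∧
    ∀ m e, F[m]? = some e → ∃ b, ix b = m ∧ tv l e.1 = R.vec (true, b) := by
  have h1 : ∀ b, ∃ m : ℕ, ∃ e, F[m]? = some e ∧ tv l e.1 = R.vec (true, b) := fun b => by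
    obtain ⟨e, he, h2⟩ := h.mem b
    obtain ⟨m, hm⟩ := List.mem_iff_getElem?.mp he
    exact ⟨m, e, hm, h2⟩
  choose ix hix using h1
  refine ⟨ix, fun b b' hb => ?_, hix, fun m e he => ?_⟩
  · obtain ⟨e, he, h2⟩ := hix b
    obtain ⟨e', he', h3⟩ := hix b'
    rw [hb, he'] at he
    obtain rfl := Option.some.inj he
    exact (Prod.ext_iff.mp (R.vec_inj (h2.symm.trans h3))).2
  · obtain ⟨b, hb⟩ := h.real (List.mem_iff_getElem?.mpr ⟨m, he⟩)
    obtain ⟨e', he', h2⟩ := hix b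
    exact ⟨b, h.idx_unique he' he (h2.trans hb.symm), hb⟩

theorem pair_tv {e : RE} {b : Φ} (hb : tv l e.1 = R.vec (true, b)) {v : List ℤ} (hv : v.length ≤ l) :
    R.pair (tv l v) (true, b) = dot e.1 v := by
  rw [RC.pair, cov_eq h.sym, ← hb, dot_eq l _ _ hv]; rfl

/-- the enumeration reaches every abelian ideal -/
theorem ideal {p : ℕ} (hp : p ≠ 1) {P : ℕ → ℕ → Bool} (hP : enum P F 0 0 0 = true) {S : Finset Φ} (hA : R.Ab p S)
    (hI : R.Idl p S) : ∃ I, (∀ m e, F[m]? = some e → I.testBit m = true → ∃ b ∈ S, tv l e.1 = R.vec (true, b)) ∧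
      (∀ m, I.testBit m = true → m < F.length) ∧ P I S.card = true := by
  obtain ⟨ix, h1, h2, h3⟩ := h.exists_ix
  have hlt : ∀ b, ix b < F.length := fun b => by
    obtain ⟨e, he, _⟩ := h2 b
    exact (List.getElem?_eq_some_iff.mp he).1
  obtain ⟨I, h4, h5⟩ := enum_sound (S.image ix) hP (fun m => by simp only [_root_.Nat.zero_testBit, _root_.Bool.false_eq_true, _root_.Finset.mem_image, _root_.not_lt_zero, _root_.and_false]) (by simp) (fun m hm => by
      obtain ⟨b, _, rfl⟩ := Finset.mem_image.mp hm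
      simpa using hlt b) fun m e he hm => by
    rw [zero_add] at hm ⊢
    obtain ⟨b, hb, rfl⟩ := Finset.mem_image.mp hm
    obtain ⟨e', he', h6⟩ := h2 b
    obtain rfl : e' = e := Option.some.inj (he'.symm.trans he)
    have hE := h.ent he
    have he0 : e' ∈ F := List.mem_iff_getElem?.mpr ⟨_, he⟩
    refine ⟨fun a ha => ?_, fun a ha h7 => ?_⟩
    · have h7 : a < ix b := by
        by_contra h8
        rw [Nat.testBit_lt_two_pow (lt_of_lt_of_le hE.lt (Nat.pow_le_pow_right (by omega) (by omega)))] at ha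
        exact absurd ha (by simp)
      refine ⟨?_, h7⟩
      have h8 : a < F.length := h7.trans (hlt b)
      obtain ⟨i, hi, h9⟩ := List.any_eq_true.mp (allBits_sound hE.up (List.getElem?_eq_getElem h8) ha)
      obtain ⟨a', h10, h11⟩ := h3 a _ (List.getElem?_eq_getElem h8)
      have h12 : R.vec (true, a') = R.vec (true, R.zi ⟨i, List.mem_range.mp hi⟩) + R.vec (true, b) := by
        rw [← h11, eq_of_beq h9, tv_lin _ _ _ _ (by rw [length_uv, hE.len]), tv_uv (⟨i, List.mem_range.mp hi⟩ : Fin l),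
          h6, R.vec_zi, neg_smul, one_smul, sub_neg_eq_add, add_comm]
      exact Finset.mem_image.mpr ⟨a', hI b hb _ a' (R.cf_of_vec h12)
        (((lace1 h.sym).nz_iff hp _ _).mpr ⟨_, h12⟩), h10⟩
    · obtain ⟨b', hb', rfl⟩ := Finset.mem_image.mp h7
      obtain ⟨e'', he'', h8⟩ := h2 b'
      have h9 := isNeg_iff.mp (allBits_sound hE.nab he'' ha)
      rw [← h.pair_tv h8 (h.len_wt he0).le, ← h.toWt_ent he0, h6] at h9
      exact hA b' hb' b hb (((lace1 h.sym).nz_iff hp _ _).mpr (R.isRt_add (by simp [ng]) h9))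
  rw [Finset.card_image_of_injective _ h1] at h5
  refine ⟨I, fun m e he hm => ?_, fun m hm => ?_, h5⟩
  · obtain ⟨b, hb, rfl⟩ := Finset.mem_image.mp ((h4 m).mp hm)
    obtain ⟨e', he', h6⟩ := h2 b
    obtain rfl : e' = e := Option.some.inj (he'.symm.trans he)
    exact ⟨b, hb, h6⟩
  · obtain ⟨b, hb, rfl⟩ := Finset.mem_image.mp ((h4 m).mp hm)
    exact hlt b

end Tb

/-! ### tables of weights -/

/-- entries of a weight table: reflecting root, parent, weight, mask of roots with negative pairing -/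
abbrev WE : Type := ℕ × ℕ × List ℤ × ℕ

/-- the parent of an entry -/
def par (μ : List ℤ) (W : List WE) (j : ℕ) : List ℤ :=
  match W[j]? with
  | some e => e.2.2.1
  | none => μ

/-- the reflection in a root of the table -/
def rfl' (F : List RE) (r : ℕ) (v : List ℤ) : List ℤ :=
  match F[r]? with
  | some e => lin (dot e.1 v) v e.2.1
  | none => v

/-- the check of a weight table -/
def chkW (l : ℕ) (F : List RE) (μ : List ℤ) : List WE → Bool
  | [] => true
  | e :: W => e.2.2.1.length.beq l && (e.2.2.1 == rfl' F e.1 (par μ W e.2.1)) &&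
      allBits (fun e' : RE => isNeg (dot e'.1 e.2.2.1)) F e.2.2.2 && !(W.any fun e' => e'.2.2.1 == e.2.2.1) &&
      chkW l F μ W

/-- the number of masks which meet `I` -/
def cnt (I : ℕ) : List WE → ℕ
  | [] => 0
  | e :: W => (bif (e.2.2.2 &&& I).beq 0 then 0 else 1) + cnt I W

theorem cnt_eq (I : ℕ) (W : List WE) : cnt I W = (W.filter fun e => !(e.2.2.2 &&& I).beq 0).length := by
  induction W with
  | nil => rfl
  | cons e W ih =>
    rw [cnt, ih, List.filter_cons]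
    cases (e.2.2.2 &&& I).beq 0 <;> simp [add_comm]

namespace Tb

variable {l : ℕ} {Φ : Type} [Fintype Φ] [DecidableEq Φ] {R : RC (Fin l) Φ} {cm : List (List ℤ)} {F : List RE}
  (h : Tb R cm F)
include h

theorem rfl'_orb (r : ℕ) {v : List ℤ} (hv : v.length = l) : ∃ w, tv l (rfl' F r v) = R.swl w (tv l v) := by
  unfold rfl'
  cases hr : F[r]? with
  | none => exact ⟨[], rfl⟩
  | some e =>
    have he : e ∈ F := List.mem_iff_getElem?.mpr ⟨r, hr⟩
    obtain ⟨b, hb⟩ := h.real he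
    obtain ⟨w, hw⟩ := R.exists_rf_eq (true, b)
    refine ⟨w, ?_⟩
    rw [← hw, RC.rf, h.pair_tv hb hv.le, RC.wt, ← hb, h.toWt_ent he]
    exact tv_lin _ _ _ _ (hv.trans (h.len_wt he).symm)

theorem wts {μ : List ℤ} (hμ : μ.length = l) {W : List WE} (hW : chkW l F μ W = true) :
    (W.map fun e => tv l e.2.2.1).Nodup ∧ ∀ e ∈ W, e.2.2.1.length = l ∧ (∃ w, tv l e.2.2.1 = R.swl w (tv l μ)) ∧
      allBits (fun e' : RE => isNeg (dot e'.1 e.2.2.1)) F e.2.2.2 = true := by
  induction W with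
  | nil => simp only [_root_.List.map_nil, _root_.List.nodup_nil, _root_.List.not_mem_nil, _root_.IsEmpty.forall_iff, _root_.implies_true, _root_.and_self]
  | cons e W ih =>
    simp only [chkW, Bool.and_eq_true] at hW
    obtain ⟨⟨⟨⟨h1, h2⟩, h3⟩, h4⟩, h5⟩ := hW
    obtain ⟨h6, h7⟩ := ih h5
    have h8 := Nat.beq_eq.mp h1
    refine ⟨?_, fun e' he' => ?_⟩
    · rw [List.map_cons, List.nodup_cons]
      refine ⟨fun h9 => ?_, h6⟩
      obtain ⟨e', he', h10⟩ := List.mem_map.mp h9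
      rw [Bool.not_eq_true', ← Bool.not_eq_true, List.any_eq_true] at h4
      exact h4 ⟨e', he', by rw [tv_inj (h7 e' he').1 h8 h10]; exact beq_self_eq_true _⟩
    · rcases List.mem_cons.mp he' with rfl | he'
      · refine ⟨h8, ?_, h3⟩
        have h9 : (par μ W e'.2.1).length = l ∧ ∃ w, tv l (par μ W e'.2.1) = R.swl w (tv l μ) := by
          unfold par
          cases hj : W[e'.2.1]? with
          | none => exact ⟨hμ, [], rfl⟩
          | some e'' =>
            have := h7 e'' (List.mem_iff_getElem?.mpr ⟨_, hj⟩)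
            exact ⟨this.1, this.2.1⟩
        obtain ⟨w, hw⟩ := h.rfl'_orb e'.1 h9.1
        obtain ⟨w', hw'⟩ := h9.2
        exact ⟨w ++ w', by rw [eq_of_beq h2, hw, hw', R.swl_append]⟩
      · exact h7 e' he'

/-- weights of the table with a decidable property -/
theorem wts_filter {μ : List ℤ} (hμ : μ.length = l) {W : List WE} (hW : chkW l F μ W = true) (Q : WE → Bool) :
    ∃ A : Finset (Fin l → ℤ), A.card = (W.filter Q).length ∧
      ∀ ν ∈ A, ∃ e ∈ W, Q e = true ∧ ν = tv l e.2.2.1 := by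
  classical
  refine ⟨((W.filter Q).map fun e => tv l e.2.2.1).toFinset, ?_, fun ν hν => ?_⟩
  · rw [List.toFinset_card_of_nodup ((h.wts hμ hW).1.sublist (List.filter_sublist.map _)), List.length_map]
  · obtain ⟨e, he, rfl⟩ := List.mem_map.mp (List.mem_toFinset.mp hν)
    exact ⟨e, (List.mem_filter.mp he).1, (List.mem_filter.mp he).2, rfl⟩

/-- **the count** -/
theorem count {p : ℕ} (hp : p ≠ 1) {μ : List ℤ} (hμ : μ.length = l) {W : List WE} (hW : chkW l F μ W = true)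
    {bd : ℕ → ℕ} (hP : enum (fun I n => n.beq 0 || (bd n).ble (cnt I W)) F 0 0 0 = true) {S : Finset Φ}
    (hS : S.Nonempty) (hA : R.Ab p S) (hI : R.Idl p S) : ∃ A : Finset (Fin l → ℤ), bd S.card ≤ A.card ∧
      ∀ ν ∈ A, (∃ w, ν = R.swl w (tv l μ)) ∧ ∃ b ∈ S, R.pair ν (true, b) < 0 := by
  obtain ⟨I, h1, h2, h3⟩ := h.ideal hp hP hA hI
  obtain ⟨A, h4, h5⟩ := h.wts_filter hμ hW fun e => !(e.2.2.2 &&& I).beq 0
  rw [Bool.or_eq_true, Nat.beq_eq, Nat.ble_eq, cnt_eq] at h3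
  refine ⟨A, h4 ▸ h3.resolve_left hS.card_pos.ne', fun ν hν => ?_⟩
  obtain ⟨e, he, h6, rfl⟩ := h5 ν hν
  obtain ⟨h7, h8, h9⟩ := (h.wts hμ hW).2 e he
  refine ⟨h8, ?_⟩
  have h10 : e.2.2.2 &&& I ≠ 0 := fun h => by rw [h] at h6; exact absurd h6 (by decide)
  obtain ⟨m, hm⟩ := Nat.exists_testBit_of_ne_zero h10
  rw [Nat.testBit_and, Bool.and_eq_true] at hm
  have h11 := List.getElem?_eq_getElem (h2 m hm.2)
  obtain ⟨b, hb, h12⟩ := h1 m _ h11 hm.2
  exact ⟨b, hb, by rw [h.pair_tv h12 h7.le]; exact isNeg_iff.mp (allBits_sound h9 h11 hm.1)⟩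

end Tb

end Cfsg.Agent.TwoF.DC.TE
end

-- part: TwoF/DC/TE/Cmb
section
/-!
# TwoF, defining characteristic, exceptional types (2): from counts of weights to `Full` (helper37)
-/

set_option autoImplicit false
set_option linter.unusedSectionVars false
set_option linter.unusedVariables false

namespace Cfsg.Agent.TwoF.DC.TE

open Module

section gen

variable {ι Φ : Type} [Fintype ι] [DecidableEq ι] [Fintype Φ] [DecidableEq Φ]

/-- a root of largest height is an abelian ideal -/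
theorem exists_top (R : RC ι Φ) (p : ℕ) (i : ι) : ∃ θ, R.Ab p {θ} ∧ R.Idl p {θ} := by
  obtain ⟨θ, -, hθ⟩ := Finset.exists_max_image Finset.univ (fun b => ∑ j, R.cf b j) ⟨R.zi i, Finset.mem_univ _⟩
  have key : ∀ β a, R.cf a ≠ R.cf β + R.cf θ := fun β a h => by
    obtain ⟨j, hj⟩ := R.exists_cf_pos β
    have h1 : 0 < ∑ j, R.cf β j := Finset.sum_pos' (fun _ _ => Nat.zero_le _) ⟨j, Finset.mem_univ _, hj⟩
    have h2 := hθ a (Finset.mem_univ _)
    simp only [h, Pi.add_apply, Finset.sum_add_distrib] at h2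
    omega
  refine ⟨θ, fun b hb b' hb' h => ?_, fun b hb β a h _ => ?_⟩
  · rw [Finset.mem_singleton.mp hb, Finset.mem_singleton.mp hb'] at h
    obtain ⟨z, hz⟩ := h.1
    have h1 : z.1 = true := R.pos_of_vec_ge fun j => by
      rw [hz, Pi.add_apply, R.vec_true]; omega
    exact key θ z.2 (R.cf_of_vec (by rw [← hz, ← h1]))
  · rw [Finset.mem_singleton.mp hb] at h
    exact absurd h (key β a)

variable {R : RC ι Φ} {p : ℕ} {k L : Type} [Field k] [AddCommGroup L] [Module k L] (H : HW R p k L)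

theorem two_cL_le (S : Finset Φ) (c : Bool) :
    2 * H.cL S ≤ if c = true then H.cL S * (2 * H.d - H.cL S) else 2 * H.cL S := by
  split
  · rw [mul_comm 2]
    have := H.cL_lt_d S
    exact Nat.mul_le_mul_left _ (by omega)
  · exact le_rfl

/-- counting with a non-extremal dominant weight -/
theorem card_le_cL_wt [CharP k p] {M : ℤ} (hM : ∀ b, R.pair H.lz (true, b) ≤ M) (hp : M < p) (S : Finset Φ)
    {μ μ' : ι → ℤ} (hμ : Dom μ) (hμ' : Dom μ') (h0 : H.IsWt (μ + μ')) (A : Finset (ι → ℤ))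
    (h : ∀ ν ∈ A, (∃ l, ν = R.swl l μ) ∧ ∃ b ∈ S, R.pair ν (true, b) < 0) : A.card ≤ H.cL S := by
  classical
  choose! f hf using fun ν hν => (h ν hν).1
  rw [← Finset.card_image_of_injOn (f := fun ν => R.swl (f ν) (μ + μ')) (s := A) fun ν hν ν' hν' e => by
    rw [hf ν hν, hf ν' hν']; exact R.swl_eq_of_add hμ hμ' e]
  refine H.card_le_cL S _ fun ν₀ hν₀ => ?_
  obtain ⟨ν, hν, rfl⟩ := Finset.mem_image.mp hν₀
  obtain ⟨b, hb, h1⟩ := (h ν hν).2
  rw [hf ν hν] at h1
  have h2 := lt_of_le_of_lt (R.pair_swl_add_le hμ hμ' h1) h1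
  have h3 := (H.isWt_swl (f ν) _).mpr h0
  obtain ⟨v, hv, h4⟩ := H.isWt_iff.mp h3
  refine ⟨b, hb, v, hv, fun h5 => h4 (H.inj1_of_le (M := M) (fun ν hν => H.pair_le hM hν _) h2 ?_ hv h5)⟩
  have h6 := H.pair_le hM h3 (false, b)
  rw [R.pair_false] at h6
  omega

/-- the fixed points of a graph automorphism -/
theorem card_le_codim_fix {γ : Equiv.Perm ι} {γ' : Equiv.Perm Φ} (g : H.GOp γ γ') (P : (ι → ℤ) → Prop)
    (hP : ∀ ν, P ν → ¬ P (ν ∘ γ.symm)) (B : Finset (ι → ℤ)) (hB : ∀ ν ∈ B, H.IsWt ν ∧ P ν) :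
    B.card ≤ H.d - finrank k (LinearMap.ker (g.g.toLinearMap - 1)) := by
  have := H.fd
  let U : Submodule k L := ⨅ (ν : ι → ℤ) (_ : ¬ P ν), LinearMap.ker (H.pr ν)
  have hU : ∀ v, v ∈ U ↔ ∀ ν, ¬ P ν → H.pr ν v = 0 := fun v => by simp only [U, Submodule.mem_iInf, _root_.LinearMap.mem_ker]
  have h1 : H.Gr U := fun v hv μ => (hU _).mpr fun ν hν => by
    rw [H.pr_pr]
    split
    · next h => rw [h]; exact (hU v).mp hv ν hν
    · rfl
  have h2 : ∑ μ ∈ B, 1 ≤ finrank k U := H.sum_le_finrank h1 B (fun _ => 1) fun μ hμ => by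
    rw [inf_eq_right.mpr fun v hv => (hU v).mpr fun ν hν => H.pr_of_ne hv fun e => hν (e ▸ (hB μ hμ).2)]
    exact H.isWt_iff_m.mp (hB μ hμ).1
  have h3 : Disjoint U (LinearMap.ker (g.g.toLinearMap - 1)) := Submodule.disjoint_def.mpr fun v hv hv' => by
    have h4 : g.g v = v := sub_eq_zero.mp (LinearMap.mem_ker.mp hv')
    refine H.eq_zero_of_pr fun ν _ => ?_
    by_cases h5 : P ν
    · rw [← h4, ← H.sum_pr v, map_sum, map_sum]
      refine Finset.sum_eq_zero fun ν' _ => ?_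
      by_cases h6 : P ν'
      · exact H.pr_of_ne (g.g_w _ _ (H.pr_mem ν' v)) fun e => hP ν' h6 (e ▸ h5)
      · rw [(hU v).mp hv ν' h6, map_zero, map_zero]
    · exact (hU v).mp hv ν h5
  have h7 := Submodule.finrank_add_finrank_le_of_disjoint h3
  rw [← Finset.card_eq_sum_ones] at h2
  change _ ≤ finrank k L - _
  omega

/-- the orbit of a dominant weight below the highest weight maps into the extremal weights -/
theorem exists_ext {μ : ι → ℤ} (hμ : Dom μ) (hle : ∀ i, μ i ≤ H.lam i) (A : Finset (ι → ℤ))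
    (h : ∀ ν ∈ A, ∃ l, ν = R.swl l μ) : ∃ B : Finset (ι → ℤ), B.card = A.card ∧
      ∀ ν₀ ∈ B, H.Ext ν₀ ∧ ∃ ν ∈ A, ∀ x, R.pair ν x < 0 → R.pair ν₀ x < 0 := by
  classical
  choose! f hf using h
  refine ⟨A.image fun ν => R.swl (f ν) H.lz, Finset.card_image_of_injOn fun ν hν ν' hν' e => by
    rw [hf ν hν, hf ν' hν']; exact H.swl_inj_of_le hμ hle e, fun ν₀ hν₀ => ?_⟩
  obtain ⟨ν, hν, rfl⟩ := Finset.mem_image.mp hν₀
  refine ⟨⟨_, rfl⟩, ν, hν, fun x h1 => ?_⟩
  rw [hf ν hν] at h1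
  exact lt_of_le_of_lt (H.pair_swl_le hμ hle h1) h1

end gen

section full

variable {p : ℕ} {ι Φ k G : Type} [Fintype ι] [DecidableEq ι] [Fintype Φ] [DecidableEq Φ] [Field k] [Group G]
  {D : RDat p ι Φ k G}

theorem two_cL_le_val {σ : Equiv.Perm ι} (F : Fam D σ) (S : Finset Φ) : ∑ j, 2 * (F.H j).cL S ≤ F.val S :=
  Finset.sum_le_sum fun j _ => two_cL_le (F.H j) S (F.dbl j)

theorem one_le_val {σ : Equiv.Perm ι} (F : Fam D σ) (S : Finset Φ) (j : F.J) : 2 * (F.H j).cL S ≤ F.val S :=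
  le_trans (Finset.single_le_sum (f := fun j => 2 * (F.H j).cL S) (fun _ _ => Nat.zero_le _) (Finset.mem_univ j))
    (two_cL_le_val F S)

/-- `CTF` is empty if all modules are large -/
theorem ctf_of (ok : (ι → ℕ) → Prop) (σ : Equiv.Perm ι) (Q : Fam D σ → Prop)
    (h : ∀ (L : Type) [AddCommGroup L] [Module k L] (H : HW D.R p k L), 4 ≤ H.d ∧
      ∀ S : Finset Φ, S.Nonempty → D.R.Ab p S → D.R.Idl p S → S.card < H.cL S) : CTF D ok σ Q := by
  intro J _ _ L _ _ H rep _ S hA hI sl hsl _ h1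
  exfalso
  obtain ⟨j⟩ := ‹Nonempty J›
  have h2 := le_trans (Finset.single_le_sum (f := fun j => (H j).d * ((H j).d - 1) + if S.Nonempty then 2 else 0)
    (fun _ _ => Nat.zero_le _) (Finset.mem_univ j)) h1
  obtain ⟨h3, h4⟩ := h _ (H j)
  obtain ⟨e, he⟩ := Nat.exists_eq_add_of_le h3
  by_cases hS : S.Nonempty
  · have h5 := h4 S hS hA hI
    have h6 := (H j).cL_lt_d S
    rw [if_pos hS, he, show 4 + e - 1 = 3 + e by omega] at h2
    have h7 : S.card ≤ 2 + e := by omega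
    nlinarith only [hsl, h2, he, h5, h6]
  · rw [Finset.not_nonempty_iff_eq_empty.mp hS, he, show 4 + e - 1 = 3 + e by omega] at h2
    simp at h2
    nlinarith only [hsl, h2]

/-- all modules are large -/
def Big (R : RC ι Φ) (p : ℕ) (k : Type) [Field k] : Prop :=
  ∀ (L : Type) [AddCommGroup L] [Module k L] (H : HW R p k L) (S : Finset Φ), S.Nonempty → R.Ab p S → R.Idl p S →
    2 * S.card < H.cL S

variable [Infinite k] {T S : Type} [Group T] [Finite T] [Group S] (M : Std D T S)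

theorem ex_true [Fact p.Prime] (i : ι) : ∃ l : ι → ℕ, (∀ i, l i < p) ∧ l ≠ 0 ∧ True :=
  ⟨fun _ => 1, fun _ => (Fact.out : p.Prime).one_lt, fun h => one_ne_zero (congrFun h i), trivial⟩

end full

namespace Tb

variable {l : ℕ} {Φ : Type} [Fintype Φ] [DecidableEq Φ] {R : RC (Fin l) Φ} {cm : List (List ℤ)} {F : List RE}
  (h : Tb R cm F) {p : ℕ} [Fact p.Prime] {k L : Type} [Field k] [CharP k p] [AddCommGroup L] [Module k L]
include h

theorem x (H : HW R p k L) : H.X :=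
  H.x_of_ch ((lace1 h.sym).ch (Fact.out : p.Prime).ne_one fun _ => True) fun _ _ => trivial

theorem faith (hc : R.Conn) : Faith R p k fun _ => True :=
  faith_of_ch R p k ((lace1 h.sym).ch (Fact.out : p.Prime).ne_one fun _ => True) hc fun _ _ _ _ => trivial

theorem le_cL (H : HW R p k L) {μ : List ℤ} (hμ : μ.length = l) (hd : Dom (tv l μ)) (hle : ∀ i, tv l μ i ≤ H.lam i)
    {W : List WE} (hW : chkW l F μ W = true) {bd : ℕ → ℕ}
    (hP : enum (fun I n => n.beq 0 || (bd n).ble (cnt I W)) F 0 0 0 = true) {S : Finset Φ} (hS : S.Nonempty)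
    (hA : R.Ab p S) (hI : R.Idl p S) : bd S.card ≤ H.cL S := by
  obtain ⟨A, h1, h2⟩ := h.count (Fact.out : p.Prime).ne_one hμ hW hP hS hA hI
  exact h1.trans ((h.x H).card_le_cL_of_le S hd hle A h2)

theorem le_cL_single (H : HW R p k L) (j : Fin l) (hj : H.lam j ≠ 0) {W : List WE} (hW : chkW l F (uv l j) W = true)
    {bd : ℕ → ℕ} (hP : enum (fun I n => n.beq 0 || (bd n).ble (cnt I W)) F 0 0 0 = true) {S : Finset Φ}
    (hS : S.Nonempty) (hA : R.Ab p S) (hI : R.Idl p S) : bd S.card ≤ H.cL S :=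
  h.le_cL H (length_uv l j) (by rw [tv_uv]; exact HW.dom_single j) (by rw [tv_uv]; exact H.single_le hj) hW hP hS hA hI

omit [Fact p.Prime] [CharP k p] in
theorem all_rt {Q : RE → Bool} (hQ : F.all Q = true) (b : Φ) : ∃ e, Q e = true ∧ tv l e.1 = R.vec (true, b) := by
  obtain ⟨e, he, h1⟩ := h.mem b
  exact ⟨e, List.all_eq_true.mp hQ e he, h1⟩

theorem card_filter (Q : RE → Bool) (P : Φ → Prop) [DecidablePred P]
    (hPQ : ∀ e b, tv l e.1 = R.vec (true, b) → Q e = true → P b) :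
    (F.filter Q).length ≤ (Finset.univ.filter P).card := by
  classical
  have h1 : (F.map fun e => tv l e.1).Nodup := List.nodup_iff_getElem?_ne_getElem?.mpr fun i j hij hj e => by
    rw [List.length_map] at hj
    rw [List.getElem?_map, List.getElem?_map, List.getElem?_eq_getElem hj, List.getElem?_eq_getElem (hij.trans hj)] at e
    exact hij.ne (h.idx_unique (List.getElem?_eq_getElem (hij.trans hj)) (List.getElem?_eq_getElem hj)
      (Option.some.inj e))
  rw [← List.length_map (f := fun e : RE => tv l e.1), ← List.toFinset_card_of_nodup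
    (h1.sublist (List.filter_sublist.map _))]
  refine le_trans (Finset.card_le_card (t := (Finset.univ.filter P).image fun b => R.vec (true, b)) fun ν hν => ?_)
    Finset.card_image_le
  obtain ⟨e, he, rfl⟩ := List.mem_map.mp (List.mem_toFinset.mp hν)
  obtain ⟨b, hb⟩ := h.real (List.mem_filter.mp he).1
  exact Finset.mem_image.mpr ⟨b, Finset.mem_filter.mpr ⟨Finset.mem_univ _, hPQ e b hb (List.mem_filter.mp he).2⟩,
    hb.symm⟩

end Tb

/-- a table of weights which is closed under the simple reflections; `f` has range at most `r` on it -/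
def chkCl (l : ℕ) (cm : List (List ℤ)) (μ : List ℤ) (W : List WE) (f : List ℤ) (r : ℤ) : Bool :=
  cm.all (fun c => c.length.beq l) && W.any (fun e => e.2.2.1 == μ) &&
    W.all fun e => !isNeg (r - (dot f μ - dot f e.2.2.1)) &&
      (List.range l).all fun i => W.any fun e' => e'.2.2.1 == lin (gz e.2.2.1 i) e.2.2.1 (cm.getD i [])

namespace Tb

variable {l : ℕ} {Φ : Type} [Fintype Φ] [DecidableEq Φ] {R : RC (Fin l) Φ} {cm : List (List ℤ)} {F : List RE}
  (h : Tb R cm F) {p : ℕ} {k L : Type} [Field k] [AddCommGroup L] [Module k L]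
include h

theorem minus (H : HW R p k L) (hm : H.Min) {μ : List ℤ} (hμ : μ.length = l) (hl : H.lz = tv l μ) {W : List WE}
    (hW : chkW l F μ W = true) {f : List ℤ} {r : ℤ} (hc : chkCl l cm μ W f r = true) :
    H.d ≤ W.length ∧ ∀ ν, H.IsWt ν → hd (tv l f) H.lz - hd (tv l f) ν ≤ r := by
  classical
  simp only [chkCl, Bool.and_eq_true] at hc
  obtain ⟨⟨h1, h2⟩, h3⟩ := hc
  let A := (W.map fun e => tv l e.2.2.1).toFinset
  have hA : ∀ ν, ν ∈ A ↔ ∃ e ∈ W, tv l e.2.2.1 = ν := fun ν => by rw [List.mem_toFinset, List.mem_map]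
  have h4 : H.lz ∈ A := by
    obtain ⟨e, he, h5⟩ := List.any_eq_true.mp h2
    exact (hA _).mpr ⟨e, he, by rw [eq_of_beq h5, hl]⟩
  have h5 : ∀ ν ∈ A, ∀ i, R.sw i ν ∈ A := fun ν hν i => by
    obtain ⟨e, he, rfl⟩ := (hA _).mp hν
    have h6 := List.all_eq_true.mp h3 e he
    rw [Bool.and_eq_true] at h6
    obtain ⟨e', he', h7⟩ := List.any_eq_true.mp (List.all_eq_true.mp h6.2 i (List.mem_range.mpr i.2))
    refine (hA _).mpr ⟨e', he', ?_⟩
    have h8 : (cm.getD i []).length = l := by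
      have h9 : (i : ℕ) < cm.length := by rw [h.chk'.1]; exact i.2
      rw [List.getD_eq_getElem _ _ h9]
      exact Nat.beq_eq.mp (List.all_eq_true.mp h1 _ (List.getElem_mem h9))
    rw [eq_of_beq h7, tv_lin _ _ _ _ (((h.wts hμ hW).2 e he).1.trans h8.symm)]
    funext j
    rw [R.sw_apply, h.sym, h.hC]; rfl
  refine ⟨(hm.d_le A h4 h5).trans ((List.toFinset_card_le _).trans (List.length_map _).le), fun ν hν => ?_⟩
  obtain ⟨e, he, rfl⟩ := (hA _).mp (HW.Ext.mem (A := A) h4 h5 (hm.ext hν))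
  have h6 := List.all_eq_true.mp h3 e he
  rw [Bool.and_eq_true, Bool.not_eq_true', ← Bool.not_eq_true, isNeg_iff, dot_eq l _ _ hμ.le,
    dot_eq l _ _ ((h.wts hμ hW).2 e he).1.le] at h6
  have h7 := h6.1
  rw [hl]
  change ∑ i : Fin l, gz f i * gz μ i - ∑ i : Fin l, gz f i * gz e.2.2.1 i ≤ r
  omega

end Tb

end Cfsg.Agent.TwoF.DC.TE
end

private theorem dce_033d58ae2e4f : _root_.True := by
  try have : _root_.True := by simp only [_root_.Cfsg.Agent.TwoF.DC.TE.uv.eq_2]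
  try have : _root_.True := by simp only [_root_.Cfsg.Agent.TwoF.DC.TE.lin.eq_def]
  try have : _root_.True := by simp only [_root_.Cfsg.Agent.TwoF.DC.TE.enum.eq_def]
  try have : _root_.True := by simp only [_root_.Cfsg.Agent.TwoF.DC.TE.enum.eq_1]
  try have : _root_.True := by simp only [_root_.Cfsg.Agent.TwoF.DC.TE.dot._sparseCasesOn_1.else_eq]
  try have : _root_.True := by simp only [_root_.Cfsg.Agent.TwoF.DC.TE.lin.eq_1]
  try have : _root_.True := by simp only [_root_.Cfsg.Agent.TwoF.DC.TE.cnt.eq_2]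
  try have : _root_.True := by simp only [_root_.Cfsg.Agent.TwoF.DC.TE.cnt.eq_def]
  try have : _root_.True := by simp only [_root_.Cfsg.Agent.TwoF.DC.TE.chkRa.eq_1]
  try have : _root_.True := by simp only [_root_.Cfsg.Agent.TwoF.DC.TE.tv.eq_1]
  try have : _root_.True := by simp only [_root_.Cfsg.Agent.TwoF.DC.TE.isNeg.eq_2]
  try have : _root_.True := by simp only [_root_.Cfsg.Agent.TwoF.DC.TE.isNeg._sparseCasesOn_1.else_eq]
  try have : _root_.True := by simp only [_root_.Cfsg.Agent.TwoF.DC.TE.isNeg.eq_1]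
  try have : _root_.True := by simp only [_root_.Cfsg.Agent.TwoF.DC.TE.allBits.eq_2]
  try have : _root_.True := by simp only [_root_.Cfsg.Agent.TwoF.DC.TE.chkW.eq_2]
  try have : _root_.True := by simp only [_root_.Cfsg.Agent.TwoF.DC.TE.uv.eq_3]
  try have : _root_.True := by simp only [_root_.Cfsg.Agent.TwoF.DC.TE.chkRa.eq_def]
  try have : _root_.True := by simp only [_root_.Cfsg.Agent.TwoF.DC.TE.lin.eq_2]
  try have : _root_.True := by simp only [_root_.Cfsg.Agent.TwoF.DC.TE.enum.eq_2]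
  try have : _root_.True := by simp only [_root_.Cfsg.Agent.TwoF.DC.TE.cnt.eq_1]
  try have : _root_.True := by simp only [_root_.Cfsg.Agent.TwoF.DC.TE.uv.eq_def]
  try have : _root_.True := by simp only [_root_.Cfsg.Agent.TwoF.DC.TE.uv.eq_1]
  try have : _root_.True := by simp only [_root_.Cfsg.Agent.TwoF.DC.TE.chkR.eq_1]
  try have : _root_.True := by simp only [_root_.Cfsg.Agent.TwoF.DC.TE.dot.eq_def]
  try have : _root_.True := by simp only [_root_.Cfsg.Agent.TwoF.DC.TE.chkRa.eq_2]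
  try have : _root_.True := by simp only [_root_.Cfsg.Agent.TwoF.DC.TE.chkW.eq_1]
  try have : _root_.True := by simp only [_root_.Cfsg.Agent.TwoF.DC.TE.allBits.eq_1]
  try have : _root_.True := by simp only [_root_.Cfsg.Agent.TwoF.DC.TE.chkW.eq_def]
  try have : _root_.True := by simp only [_root_.Cfsg.Agent.TwoF.DC.TE.allBits.eq_def]
  try have : _root_.True := by simp only [_root_.Cfsg.Agent.TwoF.DC.TE.chkCl.eq_1]
  try have : _root_.True := by simp only [_root_.Cfsg.Agent.TwoF.DC.TE.gz.eq_1]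
  exact _root_.True.intro
end

-- part: TwoF/DC/TFG/RD
section
prune_inst 0x7f411304d400d4202000000058091000346be00009000400800a840004401800a628000a04104000102100a00080005002000980080400000000a0004000004000018e8d000b348000004001e000080400000000000000000000000000000010004000000000
set_option linter.all false
open scoped Cfsg.Agent.FastGrp

/-!
# TwoF, defining characteristic: the datum `RDat` of a tabulated Chevalley group (helper25)

`D` a tabulated datum of type `hp : IsType D l M`, `k` an infinite field.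

* `Tab D l R ix` : `ix` numbers the positive roots of the root combinatorics `R` in `D` (four decidable conditions);
* `Hts D l` : heights of the simple roots given by a cocharacter; `Hts.two` : all heights are `2`;
* `Fund hp k` : the fundamental functions (`fund_G2`, `fund_F4`, `fund_E8`);
* `rdat p T H Fu : RDat p (Fin l) Φ k ↥(D.group k)`, `fdat0 Fu` : the same functions over `gdat hp k`.
-/

set_option autoImplicit false
set_option linter.unusedSectionVars false

namespace Cfsg.Agent.TwoF.DC.RD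

open Cfsg Cfsg.Lie Cfsg.Lie.ChevalleyDatum Polynomial
open Cfsg.Agent.ChevalleyStructure Cfsg.Agent.ChevalleyStructure.Elts Cfsg.Agent.ChevalleyStructure.RootVec
  Cfsg.Agent.Nodes.RGDChev Cfsg.Agent.KFacts.RgdChevCoord Cfsg.Agent.H129.TorusChar Cfsg.Agent.Tits.Roots
  Cfsg.Agent.ChevalleyStructure.CoxeterGeom Cfsg.Agent.ChevalleyStructure.CoxeterGeomTypes Cfsg.Agent.H45.UniE
  Cfsg.Agent.H405.UE
open Cfsg.Agent.H564.U (zz zz_inv zz_zero lamc lamc_mem alg_lamc cX_lamc IsW IsCell Ent Alg IsPol)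

variable {D : ChevalleyDatum} {l : ℕ} {M : CoxeterMatrix (Fin l)}

/-! ### root strings -/

section strings

variable (hp : IsType D l M)
include hp

theorem mem7 : D ∈ [chevG2, chevB2, chevD4, chevF4, chevE6, chevE7, chevE8] := by
  simp only [IsType, typeList, List.mem_cons, List.not_mem_nil, or_false, Prod.mk.injEq, Sigma.mk.injEq] at hp
  rcases hp with ⟨rfl, -⟩ | ⟨rfl, -⟩ | ⟨rfl, -⟩ | ⟨rfl, -⟩ | ⟨rfl, -⟩ | ⟨rfl, -⟩ | ⟨rfl, -⟩ <;> simp

theorem vec_chain {r s j u : ℕ} (hj : 1 ≤ j) (hu : D.chainRoot r s j = some u) :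
    u < D.nroots ∧ vec D l u = vec D l s + (j : ℤ) • vec D l r := by
  obtain ⟨h1, -, -, h2⟩ := chainRoot_rt hp.checked hj hu
  refine ⟨h1, _root_.funext fun i => ?_⟩
  rw [Pi.add_apply, Pi.smul_apply, vec_apply, vec_apply, vec_apply, h2, smul_eq_mul]

theorem cartanR_add {r s u : ℕ} (hr : r < D.nroots) (hs : s < D.nroots) (hu : u < D.nroots)
    (e : vec D l u = vec D l r + vec D l s) (t : ℕ) :
    Strings.cartanR D t u = Strings.cartanR D t r + Strings.cartanR D t s := by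
  unfold Strings.cartanR
  rw [← Finset.sum_add_distrib]
  refine Finset.sum_congr rfl fun i hi => ?_
  have hi' : i < l := by rw [← hp.rank_eq]; exact Finset.mem_range.1 hi
  have h1 := pairing_vec hp ⟨i, hi'⟩ hu
  have h2 := pairing_vec hp ⟨i, hi'⟩ hr
  have h3 := pairing_vec hp ⟨i, hi'⟩ hs
  rw [e, pairing_add, h2, h3] at h1
  show _ * D.cartan i u = _ * D.cartan i r + _ * D.cartan i s
  rw [← mul_add]
  congr 1
  exact h1.symm

omit hp in
theorem up_one {r q : ℕ} {S : ℕ → ℕ} {E : ℕ → ℤ} (h : Strings.StringAt D r q S E) {j : ℕ} (hj : j < q) :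
    D.chainRoot r (S j) 1 = some (S (j + 1)) ∧ D.chainM r (S j) 1 = E j * E (j + 1) * ((j : ℤ) + 1) := by
  have h1 := h.up j hj.le
  have h2 : 0 < q - j := by omega
  constructor
  · show ((D.chainEntry r (S j))[1 - 1]?).map Prod.fst = _
    rw [h1]
    simp only [List.getElem?_range h2, _root_.tsub_self, _root_.List.getElem?_map, _root_.Option.map_some, _root_.add_zero, _root_.zero_add, _root_.Nat.choose_one_right, _root_.Nat.cast_add, _root_.Nat.cast_one]
  · show (((D.chainEntry r (S j))[1 - 1]?).map Prod.snd).getD 0 = _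
    rw [h1]
    simp only [List.getElem?_range h2, _root_.tsub_self, _root_.List.getElem?_map, _root_.Option.map_some, _root_.add_zero, _root_.zero_add, _root_.Nat.choose_one_right, _root_.Nat.cast_add, _root_.Nat.cast_one, _root_.Option.getD_some]

theorem vec_string {r q : ℕ} {S : ℕ → ℕ} {E : ℕ → ℤ} (h : Strings.StringAt D r q S E) {j : ℕ} (hj : j ≤ q) :
    vec D l (S j) = vec D l (S 0) + (j : ℤ) • vec D l r := by
  induction j with
  | zero => simp
  | succ j ih =>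
    have h1 := (vec_chain hp le_rfl (up_one h (j := j) (by omega)).1).2
    rw [h1, ih (by omega)]
    push_cast
    module

theorem vec_ne_zero {r : ℕ} (hr : r < D.nroots) : vec D l r ≠ 0 :=
  (isRoot_vec hp M.toCoxeterSystem hr).ne_zero

theorem unit_of_smul {t v : ℕ} (ht : t < D.nroots) (c : ℤ) (h : vec D l t = c • vec D l v) : IsUnit c :=
  isUnit_of_smul _ _ (isRoot_vec hp M.toCoxeterSystem ht) c h

/-- if `r + s` is a root then `D.chainRoot r s 1` is its number (proof of helper460) -/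
theorem chainRoot_of_vec {r s u : ℕ} (hr : r < D.nroots) (hs : s < D.nroots) (hu : u < D.nroots)
    (e : vec D l u = vec D l r + vec D l s) : D.chainRoot r s 1 = some u := by
  have hnr := StringMem.rootOK_of_mem (mem7 hp) hr
  have hvn : vec D l (D.neg r) = -vec D l r := vec_neg hp hr
  have hsr : s ≠ r := by
    rintro rfl
    have := unit_of_smul hp hu (v := s) 2 (by rw [e, two_smul])
    exact absurd this (by decide)
  have hsn : s ≠ D.neg r := by
    intro h0
    exact vec_ne_zero hp hu (by rw [e, h0, hvn, add_neg_cancel])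
  have hur : u ≠ r := by
    rintro rfl
    refine vec_ne_zero hp hs ?_
    have := e
    rwa [left_eq_add] at this
  have hun : u ≠ D.neg r := by
    intro h0
    have h1 : vec D l s = (-2 : ℤ) • vec D l r := by
      have h2 : vec D l s = vec D l u - vec D l r := by rw [e]; abel
      rw [h2, h0, hvn]
      module
    exact absurd (unit_of_smul hp hs (-2) h1) (by decide)
  have hStr := StringMem.hasStrings_of_mem (mem7 hp) hr
  obtain ⟨q, S, E, j, hst, hj, hSj, hc⟩ := hStr u hu hur hun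
  by_cases hj0 : j = 0
  · obtain ⟨q', S', E', j', hst', hj', hSj', hc'⟩ := hStr s hs hsr hsn
    have h1 := cartanR_add hp hr hs hu e r
    rw [hc, hc', hnr.cartan_self, hj0] at h1
    have h3 := (up_one hst' (j := j') (by omega)).1
    rw [hSj'] at h3
    have h4 := vec_chain hp le_rfl h3
    rw [h3]
    congr 1
    refine vec_inj hp h4.1 hu ?_
    rw [h4.2, e, add_comm, Nat.cast_one, one_smul]
  · have h3 := (up_one hst (j := j - 1) (by omega)).1
    rw [show j - 1 + 1 = j by omega, hSj] at h3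
    have h4 := vec_chain hp le_rfl h3
    have h5 : S (j - 1) = s := by
      refine vec_inj hp (hst.lt _ (by omega)) hs ?_
      have h6 := h4.2
      rw [e, add_comm, Nat.cast_one, one_smul] at h6
      exact (add_right_cancel h6).symm
    rw [h5] at h3
    exact h3

/-- **the structure constants**: `N = ± (m + 1)`, `m` maximal with `s - m r` a root -/
theorem chainM_eq {r s u : ℕ} (hr : r < D.nroots) (hs : s < D.nroots) (hu : u < D.nroots)
    (e : vec D l u = vec D l r + vec D l s) {m : ℕ}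
    (h1 : ∀ j : ℕ, j ≤ m → ∃ t < D.nroots, vec D l t = vec D l s - (j : ℤ) • vec D l r)
    (h2 : ¬ ∃ t < D.nroots, vec D l t = vec D l s - ((m : ℤ) + 1) • vec D l r) :
    D.chainM r s 1 = (m : ℤ) + 1 ∨ D.chainM r s 1 = -((m : ℤ) + 1) := by
  have hch := chainRoot_of_vec hp hr hs hu e
  have hvn : vec D l (D.neg r) = -vec D l r := vec_neg hp hr
  have hsr : s ≠ r := by
    rintro rfl
    have := unit_of_smul hp hu (v := s) 2 (by rw [e, two_smul])
    exact absurd this (by decide)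
  have hsn : s ≠ D.neg r := by
    intro h0
    exact vec_ne_zero hp hu (by rw [e, h0, hvn, add_neg_cancel])
  obtain ⟨q, S, E, j, hst, hj, hSj, -⟩ := StringMem.hasStrings_of_mem (mem7 hp) hr s hs hsr hsn
  have hjq : j < q := by
    by_contra hc
    have h3 : j = q := by omega
    have h4 := hst.up j hj
    rw [hSj, h3, Nat.sub_self, List.range_zero, List.map_nil] at h4
    have h5 : D.chainRoot r s 1 = none := by
      show ((D.chainEntry r s)[1 - 1]?).map Prod.fst = _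
      rw [h4]
      rfl
    rw [h5] at hch
    cases hch
  have hs0 : vec D l s = vec D l (S 0) + (j : ℤ) • vec D l r := by rw [← hSj]; exact vec_string hp hst hj
  have hmj : m = j := by
    rcases lt_trichotomy m j with h | h | h
    · refine (h2 ⟨S (j - (m + 1)), hst.lt _ (by omega), ?_⟩).elim
      rw [vec_string hp hst (by omega), hs0, Nat.cast_sub (by omega)]
      push_cast
      module
    · exact h
    · obtain ⟨t, ht, e2⟩ := h1 (j + 1) h
      have h3 := chainRoot_of_vec hp (neg_lt hp.checked hr) (hst.lt 0 (Nat.zero_le _)) ht (by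
        rw [e2, hs0, hvn]
        push_cast
        module)
      have h4 := hst.down 0 (Nat.zero_le _)
      rw [List.range_zero, List.map_nil] at h4
      have h5 : D.chainRoot (D.neg r) (S 0) 1 = none := by
        show ((D.chainEntry (D.neg r) (S 0))[1 - 1]?).map Prod.fst = _
        rw [h4]
        rfl
      rw [h5] at h3
      cases h3
  have h6 := (up_one hst hjq).2
  rw [hSj] at h6
  rw [h6, hmj]
  rcases hst.sign j hj with h | h <;> rcases hst.sign (j + 1) hjq with h' | h' <;> rw [h, h'] <;> simp only [_root_.mul_one, _root_.one_mul, _root_.neg_add_rev, _root_.Int.reduceNeg, _root_.true_or, _root_.mul_neg, _root_.neg_mul, _root_.or_true, _root_.neg_neg]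

omit hp in
/-- the first term of the commutator formula (proof of helper650) -/
theorem commTerms_cons {r s u : ℕ} (hu : D.chainRoot r s 1 = some u) :
    ∃ R : List (ℕ × ℤ × ℕ × ℕ), D.commTerms r s = (u, D.chainM r s 1, 1, 1) :: R ∧
      ∀ c ∈ R, 3 ≤ c.2.2.1 + c.2.2.2 := by
  have hdef : D.commTerms r s = ([ (D.chainRoot r s 1, D.chainM r s 1, 1, 1),
      (D.chainRoot r s 2, D.chainM r s 2, 2, 1),
      (D.chainRoot s r 2, D.chainM s r 2, 1, 2),
      (D.chainRoot r s 3, D.chainM r s 3, 3, 1),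
      (D.chainRoot s r 3, - D.chainM s r 3, 1, 3),
      ((D.chainRoot r s 3).bind fun k => D.chainRoot k s 1,
        ((D.chainRoot r s 1).map fun k => D.chainM k r 2 / 3).getD 0, 3, 2),
      ((D.chainRoot s r 3).bind fun k => D.chainRoot k r 1,
        ((D.chainRoot r s 1).map fun k => -2 * D.chainM k s 2 / 3).getD 0, 2, 3) ] :
      List (Option ℕ × ℤ × ℕ × ℕ)).filterMap fun c => c.1.map fun k => (k, c.2) := rfl
  rw [hdef, List.filterMap_cons_some (b := (u, D.chainM r s 1, 1, 1)) (by rw [hu]; rfl)]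
  refine ⟨_, rfl, ?_⟩
  intro c hc
  rw [List.mem_filterMap] at hc
  obtain ⟨c', hc', he⟩ := hc
  rw [Option.map_eq_some_iff] at he
  obtain ⟨k, -, rfl⟩ := he
  simp only [List.mem_cons, List.mem_nil_iff, or_false] at hc'
  rcases hc' with rfl | rfl | rfl | rfl | rfl | rfl <;> norm_num

theorem vec_term {r s : ℕ} {c : ℕ × ℤ × ℕ × ℕ} (hc : c ∈ D.commTerms r s) :
    c.1 < D.nroots ∧ 1 ≤ c.2.2.1 ∧ 1 ≤ c.2.2.2 ∧
      vec D l c.1 = (c.2.2.1 : ℤ) • vec D l r + (c.2.2.2 : ℤ) • vec D l s := by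
  obtain ⟨u, C, i, j⟩ := c
  obtain ⟨h1, -, -, h2, h3, h4⟩ := commTerms_rt hp.checked hc
  refine ⟨h1, h2, h3, _root_.funext fun a => ?_⟩
  simp only [Pi.add_apply, Pi.smul_apply, vec_apply, smul_eq_mul]
  exact h4 a

end strings

/-! ### words -/

section words

variable (hp : IsType D l M) {k : Type} [Field k]

theorem coe_word (w : List (ℕ × k)) :
    (((w.map fun c => zz hp c.1 c.2).prod : ↥(D.group k)) : GL D.Idx k) = wordG hp.inList w := by
  induction w with
  | nil => rfl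
  | cons c w ih => rw [List.map_cons, List.prod_cons, Subgroup.coe_mul, ih, wordG_cons]; rfl

theorem conj_zz {r s : ℕ} (hr : r < D.nroots) (hs : s < D.nroots) (hrs : s ≠ r) (hneg : s ≠ D.neg r) (t u : k) :
    zz hp r (-t) * zz hp s u * zz hp r t =
      zz hp s u * ((D.commWord k r s t u).map fun c => zz hp c.1 c.2).prod := by
  apply Subtype.ext
  have h1 := comm_eq hp hr hs hrs hneg t u
  rw [xG_inv] at h1
  rw [Subgroup.coe_mul (D.group k) (zz hp s u), coe_word]
  exact h1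

theorem comm_zz {r s : ℕ} (hr : r < D.nroots) (hs : s < D.nroots) (hrs : s ≠ r) (hneg : s ≠ D.neg r) (t u : k) :
    zz hp s u * zz hp r t * (zz hp s u)⁻¹ * (zz hp r t)⁻¹ =
      ((D.commWord k r s (-t) (-u)).map fun c => zz hp c.1 c.2).prod := by
  have h1 := conj_zz hp hr hs hrs hneg (-t) (-u)
  rw [_root_.neg_neg, ← zz_inv, ← zz_inv] at h1
  rw [mul_assoc, mul_assoc, ← mul_assoc (zz hp r t), h1, mul_inv_cancel_left]

theorem nc_eq (i : Fin l) : xc hp (sr i) (1 : k) * xc hp (-sr i) (-1) * xc hp (sr i) 1 = nc hp k i := by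
  rw [zz_simple, zz_neg_simple]
  apply Subtype.ext
  show _ = nG hp.inList (D.simple i) 1
  rw [nG_def, inv_one, ← mul_assoc]
  rfl

theorem nc_zz (i : Fin l) {r : ℕ} (hr : r < D.nroots) : ∃ ε : kˣ, ∀ t : k,
    nc hp k i * zz hp r t = zz hp (D.reflectRoot i r) (ε * t) * nc hp k i := by
  obtain ⟨c, hc0, e⟩ := nact hp (K := k) (i := i) hr
  refine ⟨Units.mk0 c hc0, fun t => ?_⟩
  have h1 := e t
  rw [zz_vec hp hr, zz_vec hp (reflectRoot_rt hp.checked (lt_rank hp i) hr).1] at h1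
  rw [Units.val_mk0, ← h1, inv_mul_cancel_right]

theorem hc_mul' (i : Fin l) (c d : kˣ) : hc hp i ((c * d : kˣ) : k) = hc hp i (c : k) * hc hp i (d : k) := by
  refine cX_inj hp (hc_mem hp i (c * d).ne_zero) (mul_mem (hc_mem hp i c.ne_zero) (hc_mem hp i d.ne_zero)) fun j => ?_
  rw [cX_mul hp (hc_mem hp i c.ne_zero) (hc_mem hp i d.ne_zero), cX_hc, cX_hc, cX_hc, mul_zpow, Units.val_mul]

theorem lamc_mul (c : Fin l → ℤ) (s t : kˣ) : lamc hp k c (s * t) = lamc hp k c s * lamc hp k c t := by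
  refine cX_inj hp (lamc_mem hp k c _) (mul_mem (lamc_mem hp k c s) (lamc_mem hp k c t)) fun j => ?_
  rw [cX_mul hp (lamc_mem hp k c s) (lamc_mem hp k c t), cX_lamc, cX_lamc, cX_lamc, mul_zpow, Units.val_mul]

end words

/-! ### tables -/

/-- `ix` numbers the positive roots of `R` in `D` -/
structure Tab (D : ChevalleyDatum) (l : ℕ) {Φ : Type} (R : RC (Fin l) Φ) (ix : Φ → ℕ) : Prop where
  lt : ∀ b, ix b < D.nroots
  cf : ∀ b (i : Fin l), rt D (ix b) i = R.cf b i
  C : ∀ i j, R.C i j = cartanOf D l i j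
  surj : ∀ r < D.nroots, D.neg r < r → ∃ b, ix b = r

/-- heights of the simple roots which come from a cocharacter -/
structure Hts (D : ChevalleyDatum) (l : ℕ) where
  c : Fin l → ℤ
  hw : Fin l → ℕ
  pos : ∀ i, 0 < hw i
  eq : ∀ i, ∑ j, c j * cartanOf D l j i = hw i

/-- all heights equal to `2` -/
noncomputable def Hts.two (hp : IsType D l M) : Hts D l where
  c := (exists_two_rho hp).choose
  hw _ := 2
  pos _ := two_pos
  eq := (exists_two_rho hp).choose_spec

theorem Hts.sum (H : Hts D l) (v : Fin l → ℤ) :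
    ∑ i, H.c i * _root_.Cfsg.Agent.ChevalleyStructure.CoxeterGeom.pairing (cartanOf D l) i v = ∑ j, v j * H.hw j := by
  unfold CoxeterGeom.pairing
  simp only [Finset.mul_sum]
  rw [Finset.sum_comm]
  refine Finset.sum_congr rfl fun j _ => ?_
  rw [← H.eq j, Finset.mul_sum]
  exact Finset.sum_congr rfl fun i _ => by ring

namespace Tab

variable {Φ : Type} [DecidableEq Φ] {R : RC (Fin l) Φ} {ix : Φ → ℕ} (T : Tab D l R ix) (hp : IsType D l M)
include T

theorem vec_ix (b : Φ) : vec D l (ix b) = fun i => (R.cf b i : ℤ) := _root_.funext fun i => T.cf b i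

theorem vec_ix' (b : Φ) : vec D l (ix b) = R.vec (true, b) := T.vec_ix b

theorem pairing_eq (i : Fin l) (v : Fin l → ℤ) : _root_.Cfsg.Agent.ChevalleyStructure.CoxeterGeom.pairing (cartanOf D l) i v = R.toWt v i := by
  unfold CoxeterGeom.pairing RC.toWt
  exact Finset.sum_congr rfl fun j _ => by rw [T.C]

include hp

theorem vec_neg_ix (b : Φ) : vec D l (D.neg (ix b)) = R.vec (false, b) := by
  rw [vec_neg hp (T.lt b), T.vec_ix]
  rfl

theorem pos (b : Φ) : D.IsPosRoot (ix b) := by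
  rw [isPosRoot_iff hp.checked]
  refine ⟨T.lt b, fun i hi => ?_⟩
  rw [hp.rank_eq] at hi
  have := T.cf b ⟨i, hi⟩
  show 0 ≤ rt D (ix b) ((⟨i, hi⟩ : Fin l) : ℕ)
  rw [this]
  exact Int.natCast_nonneg _

theorem exists_ix {r : ℕ} (hr : D.IsPosRoot r) : ∃ b, ix b = r :=
  T.surj r hr.1 ((isPosRoot_iff_index hp.checked hr.1).1 hr)

omit hp in
theorem inj {b b' : Φ} (h : ix b = ix b') : b = b' := by
  refine R.cf_inj (_root_.funext fun i => ?_)
  have h1 := T.cf b i
  rw [h, T.cf] at h1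
  exact_mod_cast h1.symm

theorem ix_zi (i : Fin l) : ix (R.zi i) = D.simple i := by
  refine vec_inj hp (T.lt _) (simple_lt hp.checked (lt_rank hp i)) ?_
  rw [T.vec_ix, vec_simple hp, R.cf_zi]
  funext j
  by_cases h : j = i
  · rw [h, Pi.single_eq_same, sr_self, Nat.cast_one]
  · rw [Pi.single_eq_of_ne h, sr_ne h, Nat.cast_zero]

theorem ix_s (i : Fin l) {b : Φ} (hb : b ≠ R.zi i) : ix (R.s i b) = D.reflectRoot i (ix b) := by
  obtain ⟨h1, h2⟩ := reflectRoot_rt hp.checked (lt_rank hp i) (T.lt b)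
  refine vec_inj hp (T.lt _) h1 (_root_.funext fun j => ?_)
  rw [vec_apply, vec_apply, h2, T.cf, T.cf, R.cf_s i b hb j, ← pairing_vec hp i (T.lt b), T.pairing_eq, T.vec_ix]
  by_cases h : j = i
  · rw [if_pos h, if_pos (congrArg Fin.val h), mul_one]
    rfl
  · rw [if_neg h, if_neg (fun h' => h (Fin.ext h')), mul_zero]

theorem ne_neg (b b' : Φ) : ix b ≠ D.neg (ix b') := by
  intro h
  have h1 := T.pos hp b
  rw [h, isPosRoot_neg_iff hp.checked (T.lt b')] at h1
  exact not_pos_and_neg hp.checked (T.pos hp b') h1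

theorem isRt_iff (v : Fin l → ℤ) : R.IsRt v ↔ ∃ t < D.nroots, vec D l t = v := by
  constructor
  · rintro ⟨⟨ε, b⟩, rfl⟩
    cases ε
    · exact ⟨_, neg_lt hp.checked (T.lt b), T.vec_neg_ix hp b⟩
    · exact ⟨_, T.lt b, T.vec_ix' b⟩
  · rintro ⟨t, ht, rfl⟩
    rcases pos_or_neg hp.checked ht with h | h
    · obtain ⟨b, rfl⟩ := T.exists_ix hp h
      exact ⟨(true, b), (T.vec_ix' b).symm⟩
    · obtain ⟨b, hb⟩ := T.exists_ix hp ((isPosRoot_neg_iff hp.checked ht).2 h)
      refine ⟨(false, b), ?_⟩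
      rw [← T.vec_neg_ix hp b, hb, RootVec.neg_neg hp.checked ht]

theorem term_ix {b b' : Φ} {c : ℕ × ℤ × ℕ × ℕ} (hc : c ∈ D.commTerms (ix b) (ix b')) :
    ∃ a, ix a = c.1 ∧ R.cf a = c.2.2.1 • R.cf b + c.2.2.2 • R.cf b' := by
  obtain ⟨h1, -, -, h2⟩ := vec_term hp hc
  rw [T.vec_ix, T.vec_ix] at h2
  have h3 : D.IsPosRoot c.1 := by
    rw [isPosRoot_iff hp.checked]
    refine ⟨h1, fun i hi => ?_⟩
    rw [hp.rank_eq] at hi
    have h4 := congrFun h2 ⟨i, hi⟩
    rw [vec_apply] at h4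
    show 0 ≤ rt D c.1 ((⟨i, hi⟩ : Fin l) : ℕ)
    rw [h4]
    simp only [Pi.add_apply, Pi.smul_apply, smul_eq_mul]
    (clear * - hi; positivity)
  obtain ⟨a, ha⟩ := T.exists_ix hp h3
  refine ⟨a, ha, _root_.funext fun i => ?_⟩
  have h4 := congrFun h2 i
  rw [← ha, T.vec_ix] at h4
  simp only [Pi.add_apply, Pi.smul_apply, smul_eq_mul] at h4 ⊢
  exact_mod_cast h4

variable {k : Type} [Field k]

/-- the commutator formula, for a pair of different positive roots -/
theorem exists_conj {b b' : Φ} (hb : b' ≠ b) : ∃ f : ℕ × ℤ × ℕ × ℕ → Φ,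
    (∀ c ∈ D.commTerms (ix b) (ix b'), R.cf (f c) = c.2.2.1 • R.cf b + c.2.2.2 • R.cf b') ∧ ∀ s t : k,
      zz hp (ix b) (-s) * zz hp (ix b') t * zz hp (ix b) s =
        (((b', (1 : k), 1) :: (D.commTerms (ix b) (ix b')).map fun c =>
          (f c, (c.2.1 : k) * (-s) ^ c.2.2.1, c.2.2.2)).map fun e => zz hp (ix e.1) (e.2.1 * t ^ e.2.2)).prod := by
  classical
  have h1 : ∀ c : ℕ × ℤ × ℕ × ℕ, ∃ a, c ∈ D.commTerms (ix b) (ix b') →
      ix a = c.1 ∧ R.cf a = c.2.2.1 • R.cf b + c.2.2.2 • R.cf b' := by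
    intro c
    by_cases hc : c ∈ D.commTerms (ix b) (ix b')
    · obtain ⟨a, ha⟩ := T.term_ix hp hc
      exact ⟨a, fun _ => ha⟩
    · exact ⟨b, fun h => (hc h).elim⟩
  choose f hf using h1
  refine ⟨f, fun c hc => (hf c hc).2, fun s t => ?_⟩
  rw [conj_zz hp (T.lt b) (T.lt b') (fun h => hb (T.inj h)) (T.ne_neg hp b' b), List.map_cons, List.prod_cons,
    one_mul, pow_one]
  congr 2
  unfold ChevalleyDatum.commWord
  rw [List.map_map, List.map_map]
  refine List.map_congr_left fun c hc => ?_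
  show zz hp c.1 _ = zz hp (ix (f c)) _
  rw [(hf c hc).1]

theorem cm (b b' : Φ) (s t : k) : zz hp (ix b) s * zz hp (ix b') t * (zz hp (ix b) s)⁻¹ * (zz hp (ix b') t)⁻¹ ∈
    Subgroup.closure {g | ∃ a u, (∃ m n : ℕ, 0 < m ∧ 0 < n ∧ R.cf a = m • R.cf b + n • R.cf b') ∧
      g = zz hp (ix a) u} := by
  by_cases hb : b = b'
  · subst hb
    rw [zz_inv, zz_inv, ← zz_add, ← zz_add, ← zz_add, show s + t + -s + -t = 0 by ring, zz_zero]
    exact one_mem _
  rw [comm_zz hp (T.lt b') (T.lt b) (fun h => hb (T.inj h)) (T.ne_neg hp b b')]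
  refine Subgroup.list_prod_mem _ fun g hg => ?_
  obtain ⟨e, he, rfl⟩ := List.mem_map.1 hg
  unfold ChevalleyDatum.commWord at he
  obtain ⟨c, hc, rfl⟩ := List.mem_map.1 he
  obtain ⟨a, ha, ha'⟩ := T.term_ix hp hc
  obtain ⟨-, h1, h2, -⟩ := vec_term hp hc
  exact Subgroup.subset_closure ⟨a, _, ⟨c.2.2.2, c.2.2.1, h2, h1, by rw [ha', add_comm]⟩, by rw [ha]⟩

theorem cf_ne_zero (b : Φ) : R.cf b ≠ 0 := by
  intro h
  refine vec_ne_zero hp (T.lt b) ?_
  rw [T.vec_ix, h]
  rfl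

theorem nz {p : ℕ} [CharP k p] (i : Fin l) (b a : Φ) (ha : R.cf a = R.cf (R.zi i) + R.cf b)
    (hn : R.NZ p (true, R.zi i) (true, b)) :
    ∃ L : List (Φ × k × ℕ), (∀ e ∈ L, 0 < e.2.2) ∧
      (∀ t, zz hp (ix (R.zi i)) (-1) * zz hp (ix b) t * zz hp (ix (R.zi i)) 1 =
        (L.map fun e => zz hp (ix e.1) (e.2.1 * t ^ e.2.2)).prod) ∧
      ((L.filter fun e => e.1 = a ∧ e.2.2 = 1).map fun e => e.2.1).sum ≠ 0 := by
  have hv : vec D l (ix a) = vec D l (ix (R.zi i)) + vec D l (ix b) := by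
    rw [T.vec_ix, T.vec_ix, T.vec_ix, ha]
    funext j
    simp
  have hb : b ≠ R.zi i := by
    rintro rfl
    exact absurd (unit_of_smul hp (T.lt a) (v := ix (R.zi i)) 2 (by rw [hv, two_smul])) (by decide)
  have hba : b ≠ a := by
    rintro rfl
    exact T.cf_ne_zero hp (R.zi i) (by simpa using ha)
  obtain ⟨f, hf, hf2⟩ := T.exists_conj hp (k := k) hb
  obtain ⟨-, m, h1, h2, h3⟩ := hn
  have hch := chainRoot_of_vec hp (T.lt _) (T.lt _) (T.lt _) hv
  have hM := chainM_eq hp (T.lt _) (T.lt _) (T.lt _) hv (m := m)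
    (fun j hj => by rw [← T.isRt_iff hp, T.vec_ix', T.vec_ix']; exact h1 j hj)
    (by rw [← T.isRt_iff hp, T.vec_ix', T.vec_ix']; exact h2)
  refine ⟨_, ?_, hf2 1, ?_⟩
  · intro e he
    rcases List.mem_cons.1 he with rfl | he
    · exact Nat.one_pos
    · obtain ⟨c, hc, rfl⟩ := List.mem_map.1 he
      exact (vec_term hp hc).2.2.1
  obtain ⟨Rs, e1, e2⟩ := commTerms_cons hch
  have hfa : f (ix a, D.chainM (ix (R.zi i)) (ix b) 1, 1, 1) = a := by
    refine R.cf_inj ?_
    rw [hf _ (by rw [e1]; exact List.mem_cons_self), one_smul, one_smul, ha]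
  have hnil : ((Rs.map fun c => (f c, (c.2.1 : k) * (-1) ^ c.2.2.1, c.2.2.2)).filter
      fun e : Φ × k × ℕ => e.1 = a ∧ e.2.2 = 1) = [] := by
    rw [List.filter_eq_nil_iff]
    intro e he
    obtain ⟨c, hc, rfl⟩ := List.mem_map.1 he
    rw [decide_eq_true_eq]
    rintro ⟨h4, h5⟩
    have h6 := hf c (by rw [e1]; exact List.mem_cons_of_mem _ hc)
    have h7 := e2 c hc
    have h8 : f c = a := h4
    have h9 : c.2.2.2 = 1 := h5
    rw [h8, h9, ha, one_smul] at h6
    have h10 := congrFun (add_right_cancel h6) i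
    rw [R.cf_zi, Pi.smul_apply, Pi.single_eq_same, smul_eq_mul, mul_one] at h10
    omega
  rw [e1, List.map_cons, List.filter_cons_of_neg (by simp [hba]), List.filter_cons_of_pos (by simp [hfa]), hnil]
  simp only [List.map_cons, List.map_nil, List.sum_cons, List.sum_nil, add_zero, pow_one]
  have h4 : ((m : k) + 1) ≠ 0 := by
    intro h
    refine h3 ((CharP.cast_eq_zero_iff k p _).1 ?_)
    push_cast
    exact h
  refine mul_ne_zero ?_ (neg_ne_zero.2 one_ne_zero)
  rcases hM with h | h <;> rw [h] <;> push_cast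
  · exact h4
  · exact neg_ne_zero.2 h4

end Tab

/-! ### the group data -/

section group

variable (hp : IsType D l M) (k : Type) [Field k] {Φ : Type} [DecidableEq Φ] {R : RC (Fin l) Φ} {ix : Φ → ℕ}
  (T : Tab D l R ix) (H : Hts D l)

include T in
theorem lamc_zz (s : kˣ) (b : Φ) (a : k) : lamc hp k H.c s * zz hp (ix b) a =
    zz hp (ix b) ((s : k) ^ (∑ j, R.cf b j * H.hw j) * a) * lamc hp k H.c s := by
  rw [TT_zz hp (lamc_mem hp k _ s) (T.lt b), cX_lamc, H.sum, T.vec_ix, ← Units.val_pow_eq_pow_val, ← zpow_natCast]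
  push_cast
  rfl

/-- the group data with heights `H` -/
noncomputable def gd : GDat (Fin l) Φ k ↥(D.group k) where
  x i := xc hp (sr i)
  y i := xc hp (-sr i)
  z b := zz hp (ix b)
  zi := R.zi
  ht b := ∑ j, R.cf b j * H.hw j
  T := TT D k
  δ := lamc hp k H.c
  hh j c := hc hp j (c : k)
  τ := tau hp
  ht_pos b := by
    obtain ⟨j, hj⟩ := Function.ne_iff.1 (T.cf_ne_zero hp b)
    exact Finset.sum_pos' (fun _ _ => Nat.zero_le _)
      ⟨j, Finset.mem_univ _, Nat.mul_pos (Nat.pos_of_ne_zero hj) (H.pos j)⟩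
  x_eq i s := by rw [T.ix_zi hp]; exact zz_simple hp i s
  z_add b s t := zz_add hp _ s t
  y_add := (gdat hp k).y_add
  δ_mul := lamc_mul hp H.c
  δ_mem := lamc_mem hp k H.c
  hh_mem i c := hc_mem hp i c.ne_zero
  δ_z s b a := lamc_zz hp k T H s b a
  T_x := (gdat hp k).T_x
  T_y := (gdat hp k).T_y
  comm := (gdat hp k).comm
  rank := (gdat hp k).rank
  gen := (gdat hp k).gen
  cmt i b s := by
    by_cases hb : b = R.zi i
    · refine ⟨[(b, 1, 1)], by simp, fun t => ?_⟩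
      rw [zz_simple, zz_simple, hb, T.ix_zi hp, ← zz_add, ← zz_add]
      simp [T.ix_zi hp]
    obtain ⟨f, -, hf⟩ := T.exists_conj hp (k := k) hb
    refine ⟨_, ?_, fun t => by rw [zz_simple, zz_simple, ← T.ix_zi hp]; exact hf s t⟩
    intro e he
    rcases List.mem_cons.1 he with rfl | he
    · exact Nat.one_pos
    · obtain ⟨c, hc, rfl⟩ := List.mem_map.1 he
      exact (vec_term hp hc).2.2.1
  τ_mul := tau_mul hp
  τ_τ := tau_tau hp
  τ_x := (gdat hp k).τ_x
  τ_T t ht := tau_TT hp ht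

theorem gd_std : H564.U.Std hp k (gd hp k T H) where
  z b := ⟨ix b, T.pos hp b, fun _ => rfl⟩
  τz b s := ⟨ix b, T.pos hp b, s, tau_zz hp (T.lt b) s⟩
  y i := ⟨D.neg (D.simple i), fun s => zz_neg_simple hp i s⟩
  T := rfl
  hh i c v := cX_hc hp i c v
  δ := alg_lamc hp k H.c
  δX := ⟨fun v => ∑ i, H.c i * _root_.Cfsg.Agent.ChevalleyStructure.CoxeterGeom.pairing (cartanOf D l) i v, fun s v => cX_lamc hp k H.c s v⟩

theorem gd_U : (gd hp k T H).U = (gdat hp k).U := by
  unfold GDat.U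
  congr 1
  ext g
  constructor
  · rintro ⟨b, s, rfl⟩
    exact ⟨⟨ix b, T.pos hp b⟩, s, rfl⟩
  · rintro ⟨b, s, rfl⟩
    obtain ⟨a, ha⟩ := T.exists_ix hp b.2
    exact ⟨a, s, show zz hp b.1 s = zz hp (ix a) s by rw [ha]⟩

theorem gd_Um : (gd hp k T H).Um = (gdat hp k).Um := by
  unfold GDat.Um
  congr 1
  ext g
  constructor
  · rintro ⟨b, s, rfl⟩
    exact ⟨⟨ix b, T.pos hp b⟩, s, rfl⟩
  · rintro ⟨b, s, rfl⟩
    obtain ⟨a, ha⟩ := T.exists_ix hp b.2
    exact ⟨a, s, show tau hp (zz hp b.1 s) = tau hp (zz hp (ix a) s) by rw [ha]⟩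

end group

/-! ### the fundamental functions -/

/-- the fundamental functions `Δ i` and the fundamental weights `ω i` (in simple roots) -/
structure Fund (hp : IsType D l M) (k : Type) [Field k] where
  Δ : Fin l → ↥(D.group k) → k
  ω : Fin l → Fin l → ℤ
  cell : ∀ i, IsW (hp := hp) (gdat hp k) (Δ i) (ω i)
  pair : ∀ i j, _root_.Cfsg.Agent.ChevalleyStructure.CoxeterGeom.pairing (cartanOf D l) j (ω i) = if i = j then 1 else 0

section fund

variable {hp : IsType D l M} {k : Type} [Field k] [Infinite k]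

theorem fund_of_tab (hp : IsType D l M) (k : Type) [Field k] [Infinite k] {Xs : List (List ℕ)} {tab : Fin l → Ent}
    (htab : ∀ i, (tab i).Ok D l Xs i) : Nonempty (Fund hp k) := by
  choose c hc _ using fun i => (H564.U.std hp k).exists_fund (htab i)
  exact ⟨⟨c, _, hc, fun i j => (htab i).2.2.2.2.2.2.2 j⟩⟩

theorem fund_G2 {M : CoxeterMatrix (Fin 2)} (hp : IsType chevG2 2 M) (k : Type) [Field k] [Infinite k] :
    Nonempty (Fund hp k) := fund_of_tab hp k H564.U.ok_G2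

theorem fund_F4 {M : CoxeterMatrix (Fin 4)} (hp : IsType chevF4 4 M) (k : Type) [Field k] [Infinite k] :
    Nonempty (Fund hp k) := fund_of_tab hp k H564.U.ok_F4

theorem fund_E8 {M : CoxeterMatrix (Fin 8)} (hp : IsType chevE8 8 M) (k : Type) [Field k] [Infinite k] :
    Nonempty (Fund hp k) := fund_of_tab hp k H564.U.ok_E8

variable (Fu : Fund hp k)

theorem Fund.bounds {Φ : Type} {D0 : GDat (Fin l) Φ k ↥(D.group k)} (S : H564.U.Std hp k D0) : ∃ N m : ℕ,
    (∀ i b g h, ∃ P : k[X], P.natDegree ≤ N ∧ ∀ s, Fu.Δ i (g * D0.z b s * h) = P.eval s) ∧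
    ∀ i g h, ∃ P : k[X], P.natDegree ≤ N ∧ ∀ s : kˣ, (s : k) ^ m * Fu.Δ i (g * D0.δ s * h) = P.eval (s : k) := by
  choose N1 hN1 using fun i => (Fu.cell i).pol.bdd
  choose N2 M2 hN2 using fun i => S.δ.laurent (Fu.cell i).pol
  refine ⟨∑ i, N1 i + ∑ i, N2 i + ∑ i, M2 i, ∑ i, M2 i, fun i b a a' => ?_, fun i a a' => ?_⟩
  · obtain ⟨r, -, hr⟩ := S.z b
    obtain ⟨P, hP, hP2⟩ := hN1 i r a a'
    have := Finset.single_le_sum (f := N1) (fun _ _ => Nat.zero_le _) (Finset.mem_univ i)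
    exact ⟨P, by omega, fun s => by rw [hr]; exact hP2 s⟩
  · obtain ⟨P, hP, hP2⟩ := hN2 i a a'
    have h1 := Finset.single_le_sum (f := M2) (fun _ _ => Nat.zero_le _) (Finset.mem_univ i)
    have h2 := Finset.single_le_sum (f := N2) (fun _ _ => Nat.zero_le _) (Finset.mem_univ i)
    refine ⟨X ^ (∑ i, M2 i - M2 i) * P, ?_, fun s => ?_⟩
    · refine Polynomial.natDegree_mul_le.trans ?_
      rw [Polynomial.natDegree_X_pow]
      omega
    · rw [eval_mul, eval_pow, eval_X, ← hP2, ← mul_assoc, ← pow_add, Nat.sub_add_cancel h1]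

/-- the values on the torus -/
theorem Fund.tor (i : Fin l) {t : ↥(D.group k)} (ht : t ∈ TT D k) : Fu.Δ i t = cX hp t (Fu.ω i) := (Fu.cell i).tor ht

/-- the fundamental data over any standard group data -/
noncomputable def Fund.fdat {Φ : Type} {D0 : GDat (Fin l) Φ k ↥(D.group k)} (S : H564.U.Std hp k D0)
    (hU : D0.U ≤ (gdat hp k).U) (hUm : D0.Um ≤ (gdat hp k).Um) : FDat (Fin l) Φ k ↥(D.group k) :=
  FDat.ofCell D0 Fu.Δ (fun i => S.δX.choose (Fu.ω i)) (Fu.bounds S).choose (Fu.bounds S).choose_spec.choose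
    (fun i t ht t' ht' => by
      rw [S.T] at ht ht'
      rw [Fu.tor i (mul_mem ht ht'), Fu.tor i ht, Fu.tor i ht']
      exact cX_mul hp ht ht' _)
    (fun i v hv t ht u hu => by
      rw [S.T] at ht
      rw [(Fu.cell i).cell v (hUm hv) t ht u (hU hu), Fu.tor i ht])
    (fun i => by
      rw [Fu.tor i (one_mem _)]
      exact cX_one hp _)
    (fun i j c => by
      have h1 : D0.hh j c ∈ TT D k := by rw [← S.T]; exact D0.hh_mem j c
      rw [Fu.tor i h1, S.hh, Fu.pair]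
      by_cases hij : i = j
      · rw [if_pos hij, if_pos hij, zpow_one]
      · rw [if_neg hij, if_neg hij, zpow_zero, Units.val_one])
    (fun i s => by
      have h1 : D0.δ s ∈ TT D k := by rw [← S.T]; exact D0.δ_mem s
      rw [Fu.tor i h1]
      exact S.δX.choose_spec s _)
    (Fu.bounds S).choose_spec.choose_spec.1
    (fun i j a a' => by
      obtain ⟨r, hr⟩ := S.y j
      obtain ⟨N, hN⟩ := (Fu.cell i).pol.bdd
      obtain ⟨P, -, hP⟩ := hN r a a'
      exact ⟨P, fun s => by rw [hr]; exact hP s⟩)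
    (Fu.bounds S).choose_spec.choose_spec.2

variable (p : ℕ) [CharP k p] {Φ : Type} [DecidableEq Φ] {R : RC (Fin l) Φ} {ix : Φ → ℕ}
  (T : Tab D l R ix) (H : Hts D l)

/-- **the datum of a tabulated Chevalley group** -/
noncomputable def rdat : RDat p (Fin l) Φ k ↥(D.group k) where
  toFDat := Fu.fdat (gd_std hp k T H) (gd_U hp k T H).le (gd_Um hp k T H).le
  R := R
  zi_eq := rfl
  ht_eq b := by
    show ∑ j, R.cf b j * H.hw j = ∑ j, R.cf b j * ∑ j', R.cf (R.zi j) j' * H.hw j'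
    refine Finset.sum_congr rfl fun j _ => ?_
    rw [R.cf_zi, Finset.sum_eq_single j (fun j' _ h => by rw [Pi.single_eq_of_ne h, zero_mul])
      (fun h => (h (Finset.mem_univ _)).elim), Pi.single_eq_same, one_mul]
  hh_mul i c d := hc_mul' hp i c d
  hh_comm i j c d := TT_comm hp (hc_mem hp i c.ne_zero) (hc_mem hp j d.ne_zero)
  hh_z i c b a := by
    show hc hp i (c : k) * zz hp (ix b) a = zz hp (ix b) _ * hc hp i (c : k)
    rw [TT_zz hp (hc_mem hp i c.ne_zero) (T.lt b), cX_hc, T.pairing_eq, T.vec_ix']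
    rfl
  n_z i b hb := by
    obtain ⟨ε, hε⟩ := nc_zz hp (k := k) i (T.lt b)
    refine ⟨ε, fun t => ?_⟩
    show xc hp (sr i) (1 : k) * xc hp (-sr i) (-1) * xc hp (sr i) 1 * zz hp (ix b) t =
      zz hp (ix (R.s i b)) _ * (xc hp (sr i) (1 : k) * xc hp (-sr i) (-1) * xc hp (sr i) 1)
    rw [nc_eq, T.ix_s hp i hb]
    exact hε t
  cm b b' s t := T.cm hp b b' s t
  nz i b a ha hn := by
    obtain ⟨L, h1, h2, h3⟩ := T.nz hp (k := k) i b a ha hn
    refine ⟨L, h1, fun t => ?_, h3⟩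
    show xc hp (sr i) (-1 : k) * zz hp (ix b) t * xc hp (sr i) 1 = _
    rw [zz_simple, zz_simple, ← T.ix_zi hp]
    exact h2 t

theorem rdat_x (i : Fin l) (t : k) : (rdat Fu p T H).x i t = zz hp (D.simple i) t := zz_simple hp i t
theorem rdat_y (i : Fin l) (t : k) : (rdat Fu p T H).y i t = zz hp (D.neg (D.simple i)) t := zz_neg_simple hp i t
theorem rdat_w (b : Φ) (t : k) : (rdat Fu p T H).τ ((rdat Fu p T H).z b t) = zz hp (D.neg (ix b)) t :=
  tau_zz hp (T.lt b) t
end fund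

end Cfsg.Agent.TwoF.DC.RD

private theorem dce_efdc99db0da6 : _root_.True := by
  try have : _root_.True := by simp only [_root_.Cfsg.Agent.H564.U.lamc.congr_simp]
  exact _root_.True.intro
end
end
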